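/-
A tensor product of two orthogonal spaces: contractions, products of isometries and their spinor norms.
-/
import Cfsg.Agent.Lib.Geo.MixTensor.Sym
import Cfsg.Agent.Lib.Geo.OrthMaximalBasic
import Cfsg.Agent.Lib.Known.OmegaCriterion

set_option autoImplicit false
set_option linter.unusedSectionVars false

namespace CfsgLib.Geo.OrthTensor

open CfsgLib.Classical CfsgLib.Classical.Quad Module
open CfsgLib.Geo.MixTensor (SymForm refl_apply)
open CfsgLib.Known.OmegaCriterion
open QuadraticMap (polar polarBilin)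
open LinearMap (BilinForm)

variable {F : Type*} [Field F] {U W V : Type*} [AddCommGroup U] [Module F U] [FiniteDimensional F U]
  [AddCommGroup W] [Module F W] [FiniteDimensional F W] [AddCommGroup V] [Module F V] [FiniteDimensional F V]

/-- The pure tensors of two orthogonal spaces inside an orthogonal space. -/
structure Tensor (Q : QuadraticForm F V) (f : BilinForm F U) (g : BilinForm F W) (T : U →ₗ[F] W →ₗ[F] V) :
    Prop where
  hQ : (polarBilin Q).Nondegenerate
  hf : SymForm f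
  hg : SymForm g
  polarT : ∀ a b y z, polar Q (T a y) (T b z) = f a b * g y z
  span : Submodule.span F (Set.range fun p : U × W => T p.1 p.2) = ⊤

variable {Q : QuadraticForm F V} {f : BilinForm F U} {g : BilinForm F W} {T : U →ₗ[F] W →ₗ[F] V}

/-- An element which is a product of two maps. -/
def Tens (T : U →ₗ[F] W →ₗ[F] V) (k : OQ Q) : Prop :=
  ∃ (A : U →ₗ[F] U) (B : W →ₗ[F] W), ∀ a y, (k : V ≃ₗ[F] V) (T a y) = T (A a) (B y)

theorem Tens.mul {k k' : OQ Q} (h : Tens T k) (h' : Tens T k') : Tens T (k * k') := by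
  obtain ⟨A, B, e⟩ := h
  obtain ⟨A', B', e'⟩ := h'
  exact ⟨A ∘ₗ A', B ∘ₗ B', fun a y => by
    show (k : V ≃ₗ[F] V) ((k' : V ≃ₗ[F] V) (T a y)) = _
    rw [e', e]; rfl⟩

theorem Tens.pow {k : OQ Q} (h : Tens T k) : ∀ n : ℕ, Tens T (k ^ n)
  | 0 => ⟨LinearMap.id, LinearMap.id, fun _ _ => rfl⟩
  | n + 1 => by rw [pow_succ]; exact (Tens.pow h n).mul h

theorem Tens.inv [Finite (OQ Q)] {k : OQ Q} (h : Tens T k) : Tens T k⁻¹ := by
  have hn := (isOfFinOrder_of_finite k).orderOf_pos
  have e : k⁻¹ = k ^ (orderOf k - 1) := by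
    rw [inv_eq_iff_mul_eq_one, ← pow_succ', show orderOf k - 1 + 1 = orderOf k by omega, pow_orderOf_eq_one]
  rw [e]; exact h.pow _

namespace Tensor

variable (D : Tensor Q f g T)
include D

theorem flip : Tensor Q g f T.flip where
  hQ := D.hQ
  hf := D.hg
  hg := D.hf
  polarT a b y z := by rw [LinearMap.flip_apply, LinearMap.flip_apply, D.polarT, mul_comm]
  span := by
    refine eq_top_iff.2 (D.span.ge.trans (Submodule.span_mono ?_))
    rintro _ ⟨⟨x, y⟩, rfl⟩
    exact ⟨(y, x), rfl⟩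

theorem two : (2 : F) ≠ 0 := D.hf.two

theorem fext {u v : U} (h : ∀ a, f a u = f a v) : u = v :=
  sub_eq_zero.1 (D.hf.nd.2 _ fun a => by rw [map_sub, h a, sub_self])

theorem gext {u v : W} (h : ∀ a, g a u = g a v) : u = v :=
  sub_eq_zero.1 (D.hg.nd.2 _ fun a => by rw [map_sub, h a, sub_self])

/-- The functional of a vector against a line of pure tensors. -/
def psi (_D : Tensor Q f g T) : W →ₗ[F] V →ₗ[F] Module.Dual F U :=
  LinearMap.mk₂ F (fun z v => (polarBilin Q).flip v ∘ₗ T.flip z)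
    (fun z z' v => LinearMap.ext fun a => by simp) (fun c z v => LinearMap.ext fun a => by simp)
    (fun z v v' => LinearMap.ext fun a => by simp) (fun c z v => LinearMap.ext fun a => by simp)

/-- The contraction with a vector of the second factor. -/
noncomputable def C : W →ₗ[F] V →ₗ[F] U := D.psi.compr₂ (f.toDual D.hf.nd).symm.toLinearMap

theorem f_C (a : U) (z : W) (v : V) : f a (D.C z v) = polar Q (T a z) v := by
  rw [D.hf.symm]
  exact LinearMap.BilinForm.apply_toDual_symm_apply (B := f) (hB := D.hf.nd) (D.psi z v) a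

theorem C_T (z : W) (b : U) (r : W) : D.C z (T b r) = g z r • b := D.fext fun a => by
  rw [D.f_C, D.polarT, map_smul, smul_eq_mul, mul_comm]

theorem hom_ext {M : Type*} [AddCommGroup M] [Module F M] {L L' : V →ₗ[F] M}
    (h : ∀ a y, L (T a y) = L' (T a y)) : L = L' :=
  LinearMap.ext_on D.span fun _ ⟨p, hp⟩ => hp ▸ h p.1 p.2

theorem el_ext {k k' : OQ Q} (h : ∀ a y, (k : V ≃ₗ[F] V) (T a y) = (k' : V ≃ₗ[F] V) (T a y)) : k = k' :=
  Subtype.ext (LinearEquiv.ext fun v => LinearMap.congr_fun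
    (D.hom_ext (L := ((k : V ≃ₗ[F] V) : V →ₗ[F] V)) (L' := ((k' : V ≃ₗ[F] V) : V →ₗ[F] V)) h) v)

theorem V_ext {u v : V} (h : ∀ z, D.C z u = D.C z v) : u = v := by
  refine sub_eq_zero.1 (D.hQ.1 _ fun y => ?_)
  have e : (polarBilin Q) (u - v) = 0 := D.hom_ext fun a z => by
    show polar Q (u - v) (T a z) = 0
    rw [QuadraticMap.polar_comm, ← D.f_C, map_sub, h, sub_self, map_zero]
  exact LinearMap.congr_fun e y

theorem exists_partner {r : W} (hr : r ≠ 0) : ∃ z, g z r = 1 := by
  obtain ⟨z, hz⟩ : ∃ z, g z r ≠ 0 := by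
    by_contra! hc
    exact hr (D.hg.nd.2 r hc)
  exact ⟨(g z r)⁻¹ • z, by simp [hz]⟩

theorem T_injective {r : W} (hr : r ≠ 0) {a b : U} (h : T a r = T b r) : a = b := by
  obtain ⟨z, hz⟩ := D.exists_partner hr
  have := congrArg (D.C z) h
  rwa [D.C_T, D.C_T, hz, one_smul, one_smul] at this

theorem T_eq_zero {r : W} (hr : r ≠ 0) {a : U} (h : T a r = 0) : a = 0 :=
  D.T_injective hr (b := 0) (by rw [h, map_zero, LinearMap.zero_apply])

theorem T_eq_zero' {a : U} (ha : a ≠ 0) {r : W} (h : T a r = 0) : r = 0 := by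
  by_contra hr
  exact ha (D.T_eq_zero hr h)

theorem T_injective' {a : U} (ha : a ≠ 0) {r s : W} (h : T a r = T a s) : r = s :=
  sub_eq_zero.1 (D.T_eq_zero' ha (by rw [map_sub, h, sub_self]))

theorem exists_left_dual (φ : Module.Dual F W) : ∃ d, ∀ y, g d y = φ y :=
  ⟨(g.toDual D.hg.nd).symm φ, fun y => LinearMap.BilinForm.apply_toDual_symm_apply (B := g) φ y⟩

theorem exists_tens (A : U →ₗ[F] U) (B : W →ₗ[F] W) :
    ∃ L : V →ₗ[F] V, ∀ a y, L (T a y) = T (A a) (B y) := by
  choose d hd using fun i => D.exists_left_dual ((Module.finBasis F W).coord i)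
  have hbd : ∀ y, ∑ i, g (d i) y • Module.finBasis F W i = y := fun y => by
    simp only [hd, Module.Basis.coord_apply]
    exact (Module.finBasis F W).sum_repr y
  refine ⟨∑ i, T.flip (B (Module.finBasis F W i)) ∘ₗ A ∘ₗ D.C (d i), fun a y => ?_⟩
  rw [LinearMap.sum_apply]
  conv_rhs => rw [← hbd y]
  simp [D.C_T]

/-- Two isometries give an isometry. -/
theorem exists_el {A : U →ₗ[F] U} {B : W →ₗ[F] W} (hA : ∀ a b, f (A a) (A b) = f a b)
    (hB : ∀ y z, g (B y) (B z) = g y z) : ∃ k : OQ Q, ∀ a y, (k : V ≃ₗ[F] V) (T a y) = T (A a) (B y) := by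
  obtain ⟨L, hL⟩ := D.exists_tens A B
  have h1 : ∀ u v, polar Q (L u) (L v) = polar Q u v := fun u v => by
    have e : (polarBilin Q).compl₁₂ L L = polarBilin Q := D.hom_ext fun a y => D.hom_ext fun b z => by
      show polar Q (L (T a y)) (L (T b z)) = polar Q (T a y) (T b z)
      rw [hL, hL, D.polarT, D.polarT, hA, hB]
    exact LinearMap.congr_fun (LinearMap.congr_fun e u) v
  have h2 : ∀ v, Q (L v) = Q v := fun v => by
    have e := h1 v v
    rw [polar_self', polar_self'] at e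
    exact mul_left_cancel₀ D.two e
  exact ⟨ofPreserves D.hQ L h2, fun a y => by rw [ofPreserves_apply, hL]⟩

theorem Q_T (a : U) (y : W) : Q (T a y) = f a a * g y y / 2 := by
  have h := D.polarT a a y y
  rw [polar_self'] at h
  rw [eq_div_iff D.two, ← h, mul_comm]

theorem finrank_eq : finrank F V = finrank F U * finrank F W := by
  set bU := Module.finBasis F U
  set bW := Module.finBasis F W
  let v : Fin (finrank F U) × Fin (finrank F W) → V := fun p => T (bU p.1) (bW p.2)
  have hs : ⊤ ≤ Submodule.span F (Set.range v) := by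
    rw [← D.span, Submodule.span_le]
    rintro _ ⟨⟨a, y⟩, rfl⟩
    show T a y ∈ Submodule.span F (Set.range v)
    rw [← bU.sum_repr a, ← bW.sum_repr y]
    simp only [map_sum, map_smul, LinearMap.sum_apply, LinearMap.smul_apply]
    refine Submodule.sum_mem _ fun i _ => Submodule.smul_mem _ _ (Submodule.sum_mem _ fun j _ => ?_)
    exact Submodule.smul_mem _ _ (Submodule.subset_span ⟨(j, i), rfl⟩)
  choose d hd using fun i => D.exists_left_dual (bW.coord i)
  have hli : LinearIndependent F v := by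
    rw [Fintype.linearIndependent_iff]
    intro c hc p
    have h1 := congrArg (fun x => bU.repr (D.C (d p.2) x) p.1) hc
    simpa [v, D.C_T, hd, Fintype.sum_prod_type, Finsupp.single_apply, ite_mul, mul_ite] using h1
  rw [Module.finrank_eq_card_basis (Module.Basis.mk hli hs)]
  simp

end Tensor

section Spinor

variable [Finite F]

/-- The class of a pair of reflections of the second factor lies in the commutator subgroup. -/
def Elig (U : Type*) [AddCommGroup U] [Module F U] (g : BilinForm F W) (c c' : W) : Prop :=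
  g c c ≠ 0 ∧ g c' c' ≠ 0 ∧ (Even (finrank F U) ∨ IsSquare (g c c * g c' c'))

namespace Tensor

variable (D : Tensor Q f g T)
include D

/-- Parity and spinor norm of the extension of a reflection. -/
theorem refl_invariants (hV : 5 ≤ finrank F V) :
    ∃ K₀ : SqClass F, ∀ c, g c c ≠ 0 → ∃ k : OQ Q, (∀ a y, (k : V ≃ₗ[F] V) (T a y) = T a (MixTensor.refl g c y)) ∧
      par k = (finrank F U : ZMod 2) ∧ spinor k = K₀ * sqc (g c c) ^ finrank F U := by
  have hR : reflGroup Q = ⊤ := reflGroup_eq_top D.hQ (Or.inr (by omega))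
  have : Invertible (2 : F) := invertibleOfNonzero D.two
  obtain ⟨v, hv⟩ := LinearMap.BilinForm.exists_orthogonal_basis (B := f) ⟨fun x y => D.hf.symm y x⟩
  have hne : ∀ i, f (v i) (v i) ≠ 0 :=
    LinearMap.IsOrthoᵢ.not_isOrtho_basis_self_of_separatingLeft hv D.hf.nd.1
  refine ⟨((List.finRange (finrank F U)).map fun i => sqc (f (v i) (v i) / 2)).prod, fun c hc => ?_⟩
  have key : ∀ l : List (Fin (finrank F U)), l.Nodup → ∃ k : OQ Q,
      (∀ a y, (k : V ≃ₗ[F] V) (T a y) = T a y -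
        (2 / g c c * g c y) • T ((l.map fun i => (f (v i) a / f (v i) (v i)) • v i).sum) c) ∧
      par k = (l.length : ZMod 2) ∧
      spinor k = (l.map fun i => sqc (f (v i) (v i) / 2)).prod * sqc (g c c) ^ l.length := by
    intro l hl
    induction l with
    | nil => exact ⟨1, fun a y => by simp, by simp [par_one D.hQ], by simp [spinor_one D.hQ]⟩
    | cons i l ih =>
      rw [List.nodup_cons] at hl
      obtain ⟨k, hk, hp, hs⟩ := ih hl.2
      have hq : Q (T (v i) c) ≠ 0 := by
        rw [D.Q_T]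
        exact div_ne_zero (mul_ne_zero (hne i) hc) D.two
      refine ⟨Quad.refl hq * k, fun a y => ?_, ?_, ?_⟩
      · show (Quad.refl hq : V ≃ₗ[F] V) ((k : V ≃ₗ[F] V) (T a y)) = _
        have hperp : polar Q (T ((l.map fun j => (f (v j) a / f (v j) (v j)) • v j).sum) c) (T (v i) c) = 0 := by
          rw [D.polarT]
          refine mul_eq_zero_of_left ?_ _
          rw [D.hf.symm, map_list_sum, List.map_map]
          refine List.sum_eq_zero fun x hx => ?_
          obtain ⟨j, hj, rfl⟩ := List.mem_map.1 hx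
          have : f (v i) (v j) = 0 := hv (fun e => hl.1 (e ▸ hj))
          simp [this]
        rw [hk, Quad.refl_apply, sub_eq_add_neg (T a y), polar_add_left', ← neg_smul, polar_smul_left', hperp,
          mul_zero, add_zero, D.polarT, D.Q_T, List.map_cons, List.sum_cons, map_add, LinearMap.add_apply, map_smul,
          LinearMap.smul_apply, D.hf.symm (v i) a, D.hg.symm c y]
        match_scalars <;> field_simp [hne i, hc, D.two]
      · rw [par_refl_mul D.hQ, hp, List.length_cons]; push_cast; rfl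
      · rw [spinor_refl_mul D.hQ, hs, D.Q_T, List.map_cons, List.prod_cons, List.length_cons, pow_succ',
          show f (v i) (v i) * g c c / 2 = f (v i) (v i) / 2 * g c c by ring,
          sqc_mul (div_ne_zero (hne i) D.two) hc]
        ac_rfl
  obtain ⟨k, hk, hp, hs⟩ := key _ (List.nodup_finRange _)
  refine ⟨k, fun a y => ?_, by simpa using hp, by simpa using hs⟩
  have hexp : ((List.finRange (finrank F U)).map fun i => (f (v i) a / f (v i) (v i)) • v i).sum = a := by
    rw [← List.ofFn_eq_map, List.sum_ofFn]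
    conv_rhs => rw [← v.sum_repr a]
    refine Finset.sum_congr rfl fun i _ => ?_
    congr 1
    rw [div_eq_iff (hne i)]
    conv_lhs => rw [← v.sum_repr a, map_sum]
    rw [Finset.sum_eq_single i (fun j _ hj => by simp [show f (v i) (v j) = 0 from hv (Ne.symm hj)]) (by simp)]
    simp
  rw [hk, hexp, MixTensor.refl_apply, map_sub, map_smul]

/-- Elements of the pairs of reflections in the commutator subgroup. -/
theorem pair_mem (hV : 5 ≤ finrank F V) {c c' : W} (h : Elig U g c c') :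
    ∃ k ∈ commutator (OQ Q), ∀ a y, (k : V ≃ₗ[F] V) (T a y) = T a (MixTensor.refl g c (MixTensor.refl g c' y)) := by
  have hR : reflGroup Q = ⊤ := reflGroup_eq_top D.hQ (Or.inr (by omega))
  obtain ⟨K₀, hK⟩ := D.refl_invariants hV
  obtain ⟨k, hk, hp, hs⟩ := hK c h.1
  obtain ⟨k', hk', hp', hs'⟩ := hK c' h.2.1
  refine ⟨k * k', ?_, fun a y => ?_⟩
  · rw [mem_commutator_iff D.hQ hR, par_mul D.hQ hR, spinor_mul D.hQ hR, hp, hp', hs, hs']
    refine ⟨CharTwo.add_self_eq_zero _, ?_⟩
    rw [mul_mul_mul_comm, sqClass_mul_self, one_mul, ← mul_pow, ← sqc_mul h.1 h.2.1]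
    rcases h.2.2 with he | he
    · obtain ⟨m, hm⟩ := he
      rw [hm, pow_add, sqClass_mul_self]
    · rw [(sqc_eq_one_iff (mul_ne_zero h.1 h.2.1)).2 he, one_pow]
  · show (k : V ≃ₗ[F] V) ((k' : V ≃ₗ[F] V) (T a y)) = _
    rw [hk', hk]

/-- Two pairs of reflections whose norms multiply to a square. -/
theorem four_mem (hV : 5 ≤ finrank F V) {c c' d d' : W} (h1 : g c c ≠ 0) (h2 : g c' c' ≠ 0) (h3 : g d d ≠ 0)
    (h4 : g d' d' ≠ 0) (h : Even (finrank F U) ∨ IsSquare (g c c * g c' c' * (g d d * g d' d'))) :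
    ∃ k ∈ commutator (OQ Q), ∀ a y, (k : V ≃ₗ[F] V) (T a y) =
      T a (MixTensor.refl g c (MixTensor.refl g c' (MixTensor.refl g d (MixTensor.refl g d' y)))) := by
  have hR : reflGroup Q = ⊤ := reflGroup_eq_top D.hQ (Or.inr (by omega))
  obtain ⟨K₀, hK⟩ := D.refl_invariants hV
  obtain ⟨k₁, e₁, p₁, s₁⟩ := hK c h1
  obtain ⟨k₂, e₂, p₂, s₂⟩ := hK c' h2
  obtain ⟨k₃, e₃, p₃, s₃⟩ := hK d h3
  obtain ⟨k₄, e₄, p₄, s₄⟩ := hK d' h4
  refine ⟨k₁ * k₂ * (k₃ * k₄), ?_, fun a y => ?_⟩
  · rw [mem_commutator_iff D.hQ hR, par_mul D.hQ hR, par_mul D.hQ hR, par_mul D.hQ hR, spinor_mul D.hQ hR,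
      spinor_mul D.hQ hR, spinor_mul D.hQ hR, p₁, p₂, p₃, p₄, s₁, s₂, s₃, s₄]
    refine ⟨by simp [CharTwo.add_self_eq_zero], ?_⟩
    rw [mul_mul_mul_comm K₀, mul_mul_mul_comm K₀ _ K₀, sqClass_mul_self, one_mul, one_mul, ← mul_pow, ← mul_pow,
      ← mul_pow, ← sqc_mul h1 h2, ← sqc_mul h3 h4, ← sqc_mul (mul_ne_zero h1 h2) (mul_ne_zero h3 h4)]
    rcases h with he | he
    · obtain ⟨m, hm⟩ := he
      rw [hm, pow_add, sqClass_mul_self]
    · rw [(sqc_eq_one_iff (mul_ne_zero (mul_ne_zero h1 h2) (mul_ne_zero h3 h4))).2 he, one_pow]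
  · show (k₁ : V ≃ₗ[F] V) ((k₂ : V ≃ₗ[F] V) ((k₃ : V ≃ₗ[F] V) ((k₄ : V ≃ₗ[F] V) (T a y)))) = _
    rw [e₄, e₃, e₂, e₁]

end Tensor

end Spinor

end CfsgLib.Geo.OrthTensor
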