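/-
Siegel maps of a symmetric form as products of two reflections, and linear algebra of symmetric forms.
-/
import Cfsg.Agent.Lib.Geo.OrthTensor.Basic

set_option autoImplicit false
set_option linter.unusedSectionVars false

namespace CfsgLib.Geo.OrthTensor

open CfsgLib.Classical Module
open CfsgLib.Geo.MixTensor (SymForm refl refl_apply)
open LinearMap (BilinForm)

variable {F : Type*} [Field F] {U : Type*} [AddCommGroup U] [Module F U] [FiniteDimensional F U]

/-- The Siegel map of an isotropic vector and a vector orthogonal to it. -/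
def sv (f : BilinForm F U) (w z : U) : U →ₗ[F] U :=
  LinearMap.id + (f w).smulRight z - (f z).smulRight w - (f z z / 2) • (f w).smulRight w

theorem sv_apply (f : BilinForm F U) (w z x : U) :
    sv f w z x = x + f w x • z - f z x • w - (f z z / 2 * f w x) • w := by
  simp [sv, smul_smul]

variable {f : BilinForm F U} (hf : SymForm f)
include hf

theorem sv_norm {w z : U} (hw : f w w = 0) (h : f w z = 0) :
    f (z + (f z z / 2) • w) (z + (f z z / 2) • w) = f z z := by
  simp only [map_add, map_smul, LinearMap.add_apply, LinearMap.smul_apply, smul_eq_mul, hw, h, hf.symm w z,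
    mul_zero, add_zero, zero_add]

theorem sv_eq_refl {w z : U} (hw : f w w = 0) (h : f w z = 0) (hz : f z z ≠ 0) (x : U) :
    sv f w z x = refl f z (refl f (z + (f z z / 2) • w) x) := by
  rw [sv_apply, refl_apply, refl_apply, sv_norm hf hw h]
  have h2 := hf.two
  simp only [map_add, map_smul, map_sub, LinearMap.add_apply, LinearMap.smul_apply, smul_eq_mul, h, hf.symm w z,
    mul_zero, add_zero]
  match_scalars <;> field_simp <;> ring

theorem sv_isometry {w z : U} (hw : f w w = 0) (h : f w z = 0) (x y : U) :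
    f (sv f w z x) (sv f w z y) = f x y := by
  have h2 := hf.two
  simp only [sv_apply, map_add, map_sub, map_smul, LinearMap.add_apply, LinearMap.sub_apply, LinearMap.smul_apply,
    smul_eq_mul, hw, h, hf.symm w z, hf.symm w x, hf.symm z x]
  field_simp
  ring

theorem sv_fix_iso {w z : U} (hw : f w w = 0) (h : f w z = 0) : sv f w z w = w := by
  simp [sv_apply, hw, hf.symm w z, h]

/-- The orthogonal of a non-degenerate proper subspace has an anisotropic vector. -/
theorem exists_aniso_perp (P : Submodule F U) (hP : ∀ x ∈ P, (∀ y ∈ P, f y x = 0) → x = 0)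
    (h : finrank F P < finrank F U) : ∃ v, f v v ≠ 0 ∧ ∀ u ∈ P, f u v = 0 := by
  have hr : f.IsRefl := fun x y h' => by rw [hf.symm]; exact h'
  set K := f.orthogonal P
  have hK : IsCompl P K := (LinearMap.BilinForm.isCompl_orthogonal_iff_disjoint hr).2
    (Submodule.disjoint_def.2 fun x hx hx' => hP x hx fun y hy => hx' y hy)
  have hd := Submodule.finrank_add_eq_of_isCompl hK
  have hnd : (f.restrict K).Nondegenerate :=
    (LinearMap.BilinForm.restrict_nondegenerate_iff_isCompl_orthogonal hr).2 (by
      rw [LinearMap.BilinForm.orthogonal_orthogonal hf.nd hr]; exact hK.symm)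
  have : Nontrivial K := Module.nontrivial_of_finrank_pos (R := F) (by omega)
  obtain ⟨v, hv⟩ := (SymForm.mk hf.two hnd fun a b => hf.symm (a : U) b).exists_aniso
  exact ⟨v, hv, fun u hu => v.2 u hu⟩

/-- A hyperbolic plane is non-degenerate. -/
theorem pair_nondeg {d e : U} (hd : f d d = 0) (he : f e e = 0) (hde : f d e = 1) :
    ∀ x ∈ Submodule.span F ({d, e} : Set U), (∀ y ∈ Submodule.span F ({d, e} : Set U), f y x = 0) → x = 0 := by
  intro x hx hxP
  obtain ⟨s, t, rfl⟩ := Submodule.mem_span_pair.1 hx
  have h1 := hxP d (Submodule.subset_span (Set.mem_insert _ _))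
  have h2 := hxP e (Submodule.subset_span (Set.mem_insert_of_mem _ rfl))
  simp only [map_add, map_smul, smul_eq_mul, hd, he, hde, hf.symm d e, mul_zero, mul_one, zero_add, add_zero]
    at h1 h2
  rw [h1, h2, zero_smul, zero_smul, add_zero]

/-- An isotropic partner of an isotropic vector. -/
theorem exists_iso_partner {d : U} (hd : f d d = 0) (hd0 : d ≠ 0) : ∃ e, f e e = 0 ∧ f d e = 1 := by
  obtain ⟨x, hx⟩ : ∃ x, f d x ≠ 0 := by
    by_contra! hc
    exact hd0 (hf.nd.1 d hc)
  refine ⟨(f d x)⁻¹ • x - (f ((f d x)⁻¹ • x) ((f d x)⁻¹ • x) / 2) • d, ?_, by simp [hd, hx]⟩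
  have h2 := hf.two
  simp only [map_sub, map_smul, LinearMap.sub_apply, LinearMap.smul_apply, smul_eq_mul, hd, hf.symm d x]
  field_simp
  ring

/-- A map with every isotropic vector as an eigenvector is a scalar. -/
theorem scalar_of_isotropic [Finite F] (h3 : 3 ≤ finrank F U) {κ : U →ₗ[F] U}
    (he : ∀ d, f d d = 0 → ∃ μ : F, κ d = μ • d) : ∃ μ : F, κ = μ • LinearMap.id := by
  obtain ⟨d, -, hd0, hd⟩ := hf.exists_isotropic (P := (⊤ : Submodule F U)) (by rwa [finrank_top])
  obtain ⟨e, hee, hde⟩ := exists_iso_partner hf hd hd0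
  obtain ⟨μ, hμ⟩ := he d hd
  obtain ⟨μ', hμ'⟩ := he e hee
  have h2 := hf.two
  have hz : ∀ z, f d z = 0 → f e z = 0 → f z z ≠ 0 → μ' = μ ∧ κ z = μ • z := by
    intro z hdz hez hzz
    set c := -(f z z / 2)
    have hiso : ∀ s : F, s * s = 1 → f (c • d + e + s • z) (c • d + e + s • z) = 0 := fun s hs => by
      simp only [map_add, map_smul, LinearMap.add_apply, LinearMap.smul_apply, smul_eq_mul, hd, hee, hde, hdz, hez,
        hf.symm d e, hf.symm d z, hf.symm e z, c]
      field_simp
      linear_combination (4 * f z z) * hs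
    obtain ⟨p, hp⟩ := he _ (hiso 1 (one_mul _))
    obtain ⟨m, hm⟩ := he _ (hiso (-1) (by ring))
    simp only [map_add, map_smul, hμ, hμ'] at hp hm
    have key : (2 * (c * μ) - c * (p + m)) • d + (2 * μ' - (p + m)) • e + (m - p) • z = 0 := by
      linear_combination (norm := module) hp + hm
    have e1 := congrArg (f e) key
    have e2 := congrArg (f d) key
    have e3 := congrArg (f z) key
    simp only [map_add, map_smul, smul_eq_mul, hd, hee, hde, hdz, hez, hf.symm d e, hf.symm d z, hf.symm e z,
      mul_zero, mul_one, add_zero, zero_add, map_zero, mul_eq_zero, hzz, or_false] at e1 e2 e3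
    have hc : c ≠ 0 := neg_ne_zero.2 (div_ne_zero hzz h2)
    have h4 : μ' = μ := mul_left_cancel₀ (mul_ne_zero h2 hc) (by linear_combination c * e2 - e1)
    have h5 : p = μ := mul_left_cancel₀ h2 (by linear_combination -e2 + 2 * h4 - e3)
    refine ⟨h4, ?_⟩
    rw [h5, h4, one_smul] at hp
    linear_combination (norm := module) hp
  set P := Submodule.span F ({d, e} : Set U)
  have hr : f.IsRefl := fun x y h' => by rw [hf.symm]; exact h'
  have hPnd := pair_nondeg hf hd hee hde
  have hP : finrank F P < finrank F U := by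
    classical
    have e' : ({d, e} : Set U) = (({d, e} : Finset U) : Set U) := by simp
    show finrank F (Submodule.span F ({d, e} : Set U)) < _
    rw [e']
    exact lt_of_le_of_lt ((finrank_span_finset_le_card _).trans Finset.card_le_two) (by omega)
  obtain ⟨z₀, hz₀, hz₀P⟩ := exists_aniso_perp hf P hPnd hP
  have hdP : d ∈ P := Submodule.subset_span (Set.mem_insert _ _)
  have heP : e ∈ P := Submodule.subset_span (Set.mem_insert_of_mem _ rfl)
  obtain ⟨hmm, hk₀⟩ := hz z₀ (hz₀P d hdP) (hz₀P e heP) hz₀
  refine ⟨μ, LinearMap.ext fun x => ?_⟩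
  rw [LinearMap.smul_apply, LinearMap.id_apply]
  set x' := x - f e x • d - f d x • e
  have hx'd : f d x' = 0 := by simp [x', hd, hde]
  have hx'e : f e x' = 0 := by simp [x', hee, hf.symm d e, hde]
  have hx' : κ x' = μ • x' := by
    by_cases hq : f x' x' = 0
    swap
    · exact (hz x' hx'd hx'e hq).2
    have hd₀ := hz₀P d hdP
    have he₀ := hz₀P e heP
    by_cases hq1 : f (x' + z₀) (x' + z₀) = 0
    · have hq2 : f (x' - z₀) (x' - z₀) ≠ 0 := fun h0 => by
        simp only [map_add, map_sub, LinearMap.add_apply, LinearMap.sub_apply, hq] at hq1 h0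
        exact mul_ne_zero h2 hz₀ (by linear_combination hq1 + h0)
      have h := (hz (x' - z₀) (by rw [map_sub, hx'd, hd₀, sub_zero]) (by rw [map_sub, hx'e, he₀, sub_zero]) hq2).2
      rw [map_sub, hk₀, smul_sub, sub_left_inj] at h
      exact h
    · have h := (hz (x' + z₀) (by rw [map_add, hx'd, hd₀, add_zero]) (by rw [map_add, hx'e, he₀, add_zero]) hq1).2
      rw [map_add, hk₀, smul_add, add_left_inj] at h
      exact h
  have hx : x = x' + f e x • d + f d x • e := by simp only [x']; module
  conv_lhs => rw [hx]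
  rw [map_add, map_add, map_smul, map_smul, hμ, hμ', hmm, hx']
  simp only [x']
  module

end CfsgLib.Geo.OrthTensor
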