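/-
Commuting self-adjoint maps invariant under the isometries of the first factor are scalars.
-/
import Cfsg.Agent.Lib.Geo.OrthTensor.Siegel

set_option autoImplicit false
set_option linter.unusedSectionVars false

namespace CfsgLib.Geo.OrthTensor

open CfsgLib.Classical Module
open CfsgLib.Geo.MixTensor (SymForm refl refl_apply)
open LinearMap (BilinForm)

variable {F : Type*} [Field F] {U : Type*} [AddCommGroup U] [Module F U] [FiniteDimensional F U]
  (W : Type*) [AddCommGroup W] [Module F W]

/-- Hypotheses on the first factor. -/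
structure Small (f : BilinForm F U) : Prop where
  form : SymForm f
  three : 3 ≤ finrank F U
  big : (∀ u : F, u = 0 ∨ u = 1 ∨ u = -1) → 4 ≤ finrank F U
  four : finrank F U = 4 → ∀ d z, f d d = 0 → d ≠ 0 → f d z = 0 → f z z = 0 → z ∈ Submodule.span F {d}

/-- A set of maps stable under conjugation by the admissible products of reflections. -/
structure Inv (f : BilinForm F U) (S : Set (U →ₗ[F] U)) : Prop where
  pair : ∀ d d', Elig W f d d' → ∀ θ ∈ S, refl f d ∘ₗ refl f d' ∘ₗ θ ∘ₗ refl f d' ∘ₗ refl f d ∈ S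
  quad : ∀ c c' d d', f c c ≠ 0 → f c' c' ≠ 0 → f d d ≠ 0 → f d' d' ≠ 0 →
    IsSquare (f c c * f c' c' * (f d d * f d' d')) → ∀ θ ∈ S,
      refl f c ∘ₗ refl f c' ∘ₗ refl f d ∘ₗ refl f d' ∘ₗ θ ∘ₗ refl f d' ∘ₗ refl f d ∘ₗ refl f c' ∘ₗ refl f c ∈ S

variable {f : BilinForm F U}

/-- The subalgebra generated by an invariant set is invariant. -/
theorem adjoin_conj {S : Set (U →ₗ[F] U)} {A A' : U →ₗ[F] U} (h1 : ∀ x, A (A' x) = x) (h2 : ∀ x, A' (A x) = x)
    (hS : ∀ θ ∈ S, A ∘ₗ θ ∘ₗ A' ∈ S) {θ : U →ₗ[F] U} (hθ : θ ∈ Algebra.adjoin F S) :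
    A ∘ₗ θ ∘ₗ A' ∈ Algebra.adjoin F S := by
  induction hθ using Algebra.adjoin_induction with
  | mem θ h => exact Algebra.subset_adjoin (hS θ h)
  | algebraMap r =>
    convert Subalgebra.algebraMap_mem (Algebra.adjoin F S) r using 1
    refine LinearMap.ext fun x => ?_
    simp [Module.algebraMap_end_apply, h1]
  | add x y _ _ hx hy => rw [LinearMap.add_comp, LinearMap.comp_add]; exact add_mem hx hy
  | mul x y _ _ hx hy =>
    convert mul_mem hx hy using 1
    refine LinearMap.ext fun v => ?_
    simp [Module.End.mul_apply, h2]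

/-- **A commuting invariant family of self-adjoint maps consists of scalars.** -/
theorem scalar_of_comm [Finite F] (hU : Small f) {S : Set (U →ₗ[F] U)} (hS : Inv W f S)
    (hsa : ∀ θ ∈ S, ∀ a b, f (θ a) b = f a (θ b)) (hc : ∀ θ ∈ S, ∀ τ ∈ S, ∀ x, θ (τ x) = τ (θ x))
    {θ : U →ₗ[F] U} (hθ : θ ∈ S) : ∃ μ : F, θ = μ • LinearMap.id := by
  classical
  have hf := hU.form
  have h2 := hf.two
  have hr : f.IsRefl := fun x y h' => by rw [hf.symm]; exact h'
  set 𝒜 := Algebra.adjoin F S with h𝒜
  have hcA : ∀ φ ∈ 𝒜, ∀ ψ ∈ 𝒜, ∀ x, φ (ψ x) = ψ (φ x) := by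
    intro φ hφ ψ hψ x
    have h1 : ∀ τ ∈ S, Commute φ τ := by
      intro τ hτ
      induction hφ using Algebra.adjoin_induction with
      | mem a ha => exact LinearMap.ext fun y => hc a ha τ hτ y
      | algebraMap r => exact Algebra.commutes r τ
      | add a b _ _ ha hb => exact ha.add_left hb
      | mul a b _ _ ha hb => exact ha.mul_left hb
    have h3 : Commute φ ψ := by
      induction hψ using Algebra.adjoin_induction with
      | mem a ha => exact h1 a ha
      | algebraMap r => exact (Algebra.commutes r φ).symm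
      | add a b _ _ ha hb => exact ha.add_right hb
      | mul a b _ _ ha hb => exact ha.mul_right hb
    exact LinearMap.congr_fun h3.eq x
  have hsA : ∀ φ ∈ 𝒜, ∀ a b, f (φ a) b = f a (φ b) := by
    intro φ hφ
    induction hφ using Algebra.adjoin_induction with
    | mem a ha => exact hsa a ha
    | algebraMap r => intro a b; simp [Module.algebraMap_end_apply]
    | add a b _ _ ha hb => intro x y; simp [ha, hb]
    | mul a b ha' hb' ha hb =>
      intro x y
      rw [Module.End.mul_apply, Module.End.mul_apply, ha, hb, hcA a ha' b hb']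
  refine scalar_of_isotropic hf hU.three fun d hd => ?_
  by_cases hd0 : d = 0
  · exact ⟨0, by simp [hd0]⟩
  by_contra! hne
  obtain ⟨e, hee, hde⟩ := exists_iso_partner hf hd hd0
  have hed : f e d = 1 := by rw [hf.symm, hde]
  -- the orbit of `d`
  set M : Submodule F U := (Subalgebra.toSubmodule 𝒜).map (LinearMap.applyₗ d) with hM
  have hmem : ∀ φ ∈ 𝒜, φ d ∈ M := fun φ hφ => ⟨φ, hφ, rfl⟩
  have hMd : d ∈ M := ⟨1, one_mem 𝒜, rfl⟩
  set P := Submodule.span F ({d, e} : Set U)
  have hPnd := pair_nondeg hf hd hee hde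
  have hdP : d ∈ P := Submodule.subset_span (Set.mem_insert _ _)
  have heP : e ∈ P := Submodule.subset_span (Set.mem_insert_of_mem _ rfl)
  have hP2 : finrank F P ≤ 2 := by
    have e' : ({d, e} : Set U) = (({d, e} : Finset U) : Set U) := by simp
    show finrank F (Submodule.span F ({d, e} : Set U)) ≤ 2
    rw [e']
    exact (finrank_span_finset_le_card _).trans Finset.card_le_two
  -- conjugation by a Siegel map fixing `d`
  have hsvS : ∀ z, f d z = 0 → f z z ≠ 0 → ∀ φ ∈ 𝒜,
      sv f d z ∘ₗ φ ∘ₗ sv f d (-z) ∈ 𝒜 ∧ sv f d (-z) d = d := by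
    intro z hdz hz φ hφ
    set z' := z + (f z z / 2) • d
    have hn : f z' z' = f z z := sv_norm hf hd hdz
    have h1 : ∀ x, sv f d z x = refl f z (refl f z' x) := sv_eq_refl hf hd hdz hz
    have h1' : ∀ x, sv f d (-z) x = refl f z' (refl f z x) := by
      intro x
      rw [sv_apply, refl_apply, refl_apply, hn]
      simp only [z', map_add, map_smul, map_sub, map_neg, LinearMap.add_apply, LinearMap.smul_apply,
        LinearMap.neg_apply, smul_eq_mul, hdz, hf.symm d z, hf.symm d x, mul_zero, add_zero, neg_neg]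
      match_scalars <;> field_simp <;> ring
    have helig : Elig W f z z' := ⟨hz, hn.symm ▸ hz, Or.inr ⟨f z z, by rw [hn]⟩⟩
    have hR : ∀ θ ∈ S, (refl f z ∘ₗ refl f z') ∘ₗ θ ∘ₗ (refl f z' ∘ₗ refl f z) ∈ S := fun θ hθ => by
      have := hS.pair z z' helig θ hθ
      simpa [LinearMap.comp_assoc] using this
    refine ⟨?_, sv_fix_iso hf hd (by simp [hdz])⟩
    have h3 := adjoin_conj (A := refl f z ∘ₗ refl f z') (A' := refl f z' ∘ₗ refl f z)
      (fun x => by simp [hf.refl_refl (hn.symm ▸ hz : f z' z' ≠ 0), hf.refl_refl hz])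
      (fun x => by simp [hf.refl_refl (hn.symm ▸ hz : f z' z' ≠ 0), hf.refl_refl hz]) hR hφ
    convert h3 using 1
    exact LinearMap.ext fun x => by simp [h1, h1']
  have hconj : ∀ z, f d z = 0 → f z z ≠ 0 → ∀ φ ∈ 𝒜, sv f d z (φ d) ∈ M := fun z hdz hz φ hφ => by
    obtain ⟨h1, h4⟩ := hsvS z hdz hz φ hφ
    have := hmem _ h1
    rwa [LinearMap.comp_apply, LinearMap.comp_apply, h4] at this
  have hout : ∃ φ ∈ 𝒜, f d (φ d) ≠ 0 := by
    by_contra! hall
    -- totally singular orbit larger than the line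
    have hsing : ∀ x ∈ M, ∀ y ∈ M, f x y = 0 := by
      rintro _ ⟨φ, hφ, rfl⟩ _ ⟨ψ, hψ, rfl⟩
      show f (φ d) (ψ d) = 0
      rw [hsA φ hφ]
      exact hall (φ * ψ) (mul_mem hφ hψ)
    set z := θ d
    have hzM : z ∈ M := hmem θ (Algebra.subset_adjoin hθ)
    have hdz : f d z = 0 := hsing d hMd z hzM
    have hzz : f z z = 0 := hsing z hzM z hzM
    have hzd : z ∉ Submodule.span F {d} := fun h => by
      obtain ⟨c, hc⟩ := Submodule.mem_span_singleton.1 h
      exact hne c hc.symm
    by_cases h3 : finrank F U = 3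
    · obtain ⟨x, hx, hxx⟩ := hf.exists_aniso_mem (Submodule.span F ({d, z} : Set U)) (by
        have h4 : 2 ≤ finrank F (Submodule.span F ({d, z} : Set U)) := by
          have hle : Submodule.span F {d} < Submodule.span F ({d, z} : Set U) :=
            lt_of_le_of_ne (Submodule.span_mono (by simp)) fun e' => hzd (e'.symm ▸ Submodule.subset_span (by simp))
          have := Submodule.finrank_lt_finrank_of_lt hle
          rw [finrank_span_singleton hd0] at this
          omega
        omega)
      obtain ⟨s, t, rfl⟩ := Submodule.mem_span_pair.1 hx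
      simp [hd, hdz, hzz, hf.symm d z] at hxx
    by_cases h4 : finrank F U = 4
    · exact hzd (hU.four h4 d z hd hd0 hdz hzz)
    have h5 : 5 ≤ finrank F U := by have := hU.three; omega
    set z₀ := z - f e z • d
    have hz₀M : z₀ ∈ M := M.sub_mem hzM (M.smul_mem _ hMd)
    have hdz₀ : f d z₀ = 0 := by simp [z₀, hdz, hd]
    have hez₀ : f e z₀ = 0 := by simp [z₀, hed]
    have hz₀0 : z₀ ≠ 0 := fun h => hzd (by
      rw [sub_eq_zero.1 h]; exact Submodule.smul_mem _ _ (Submodule.mem_span_singleton_self d))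
    have hz₀z₀ : f z₀ z₀ = 0 := hsing z₀ hz₀M z₀ hz₀M
    obtain ⟨x₁, hx₁⟩ : ∃ x, f z₀ x ≠ 0 := by
      by_contra! hc'
      exact hz₀0 (hf.nd.1 z₀ hc')
    set y₁ := (f z₀ x₁)⁻¹ • (x₁ - f e x₁ • d - f d x₁ • e)
    set z₁ := y₁ - (f y₁ y₁ / 2) • z₀
    have hzy : f z₀ y₁ = 1 := by simp [y₁, hf.symm d z₀, hf.symm e z₀, hdz₀, hez₀, hx₁]
    have hdy : f d y₁ = 0 := by simp [y₁, hd, hde]
    have hey : f e y₁ = 0 := by simp [y₁, hee, hed]
    have hz01 : f z₀ z₁ = 1 := by simp [z₁, hzy, hz₀z₀]
    have hd1 : f d z₁ = 0 := by simp [z₁, hdy, hdz₀]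
    have he1 : f e z₁ = 0 := by simp [z₁, hey, hez₀]
    have h11 : f z₁ z₁ = 0 := by
      simp [z₁, hzy, hz₀z₀, hf.symm z₀ y₁]
      field_simp
      ring
    set y := z₁ + z₀
    have hy : f y y = 2 := by simp [y, h11, hz01, hz₀z₀, hf.symm z₀ z₁]; norm_num
    have hyz : f y z₀ = 1 := by simp [y, hz₀z₀, hf.symm z₀ z₁, hz01]
    set R := Submodule.span F (({d, e, z₀, z₁} : Finset U) : Set U)
    have hRnd : ∀ x ∈ R, (∀ w ∈ R, f w x = 0) → x = 0 := by
      intro x hx hxR
      simp only [R, Finset.coe_insert, Finset.coe_singleton, Submodule.mem_span_insert,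
        Submodule.mem_span_singleton] at hx
      obtain ⟨a, u, ⟨b, u', ⟨c, u'', ⟨g', rfl⟩, rfl⟩, rfl⟩, rfl⟩ := hx
      have k1 := hxR d (Submodule.subset_span (by simp))
      have k2 := hxR e (Submodule.subset_span (by simp))
      have k3 := hxR z₀ (Submodule.subset_span (by simp))
      have k4 := hxR z₁ (Submodule.subset_span (by simp))
      simp only [map_add, map_smul, smul_eq_mul, hd, hee, hde, hed, hdz₀, hez₀, hd1, he1, hz₀z₀, h11, hz01,
        hf.symm d z₀, hf.symm e z₀, hf.symm d z₁, hf.symm e z₁, hf.symm z₀ z₁, mul_zero, mul_one, add_zero, zero_add]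
        at k1 k2 k3 k4
      simp [k1, k2, k3, k4]
    obtain ⟨y', hy', hy'R⟩ := exists_aniso_perp hf R hRnd (by
      have h6 : finrank F R ≤ 4 := (finrank_span_finset_le_card _).trans Finset.card_le_four
      omega)
    have hdy' : f d y' = 0 := hy'R d (Submodule.subset_span (by simp))
    have hey' : f e y' = 0 := hy'R e (Submodule.subset_span (by simp))
    have hz₀y' : f z₀ y' = 0 := hy'R z₀ (Submodule.subset_span (by simp))
    set l := 2 * f y' y'
    have hl : l ≠ 0 := mul_ne_zero h2 hy'
    have hy0 : f y y ≠ 0 := hy ▸ h2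
    set p := d + e
    set q := d + l • e
    have hp : f p p = 2 := by simp [p, hd, hee, hde, hed]; norm_num
    have hq : f q q = 2 * l := by simp [q, hd, hee, hde, hed]; ring
    have hp0 : f p p ≠ 0 := hp ▸ h2
    have hq0 : f q q ≠ 0 := hq ▸ mul_ne_zero h2 hl
    have hdy0 : f d y = 0 := by simp [y, hd1, hdz₀]
    have hy'd : refl f y' d = d := hf.refl_fix (by rw [hf.symm, hdy'])
    have hyd : refl f y d = d := hf.refl_fix (by rw [hf.symm, hdy0])
    set A : U →ₗ[F] U := refl f y ∘ₗ refl f y' ∘ₗ refl f p ∘ₗ refl f q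
    set A' : U →ₗ[F] U := refl f q ∘ₗ refl f p ∘ₗ refl f y' ∘ₗ refl f y
    have hA1 : ∀ x, A (A' x) = x := fun x => by
      simp [A, A', hf.refl_refl hy0, hf.refl_refl hy', hf.refl_refl hp0, hf.refl_refl hq0]
    have hA2 : ∀ x, A' (A x) = x := fun x => by
      simp [A, A', hf.refl_refl hy0, hf.refl_refl hy', hf.refl_refl hp0, hf.refl_refl hq0]
    have hAd : A d = l • d := by
      have e1 : refl f q d = (-l) • e := by
        rw [refl_apply, hq]
        simp [q, hd, hed]
        match_scalars <;> field_simp <;> ring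
      have e2 : refl f p e = -d := by
        rw [refl_apply, hp]
        simp [p, hee, hde]
        match_scalars <;> field_simp <;> ring
      simp [A, e1, e2, hy'd, hyd]
    have hAz : A z₀ = z₀ - y := by
      have e1 : refl f q z₀ = z₀ := hf.refl_fix (by simp [q, hdz₀, hez₀])
      have e2 : refl f p z₀ = z₀ := hf.refl_fix (by simp [p, hdz₀, hez₀])
      have e3 : refl f y' z₀ = z₀ := hf.refl_fix (by rw [hf.symm, hz₀y'])
      simp only [A, LinearMap.comp_apply, e1, e2, e3]
      rw [refl_apply, hy, hyz, div_self h2, one_mul, one_smul]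
    have hAM : ∀ φ ∈ 𝒜, A (φ d) ∈ M := by
      intro φ hφ
      have h1 := hmem _ (adjoin_conj hA1 hA2 (fun τ hτ => by
        have := hS.quad y y' p q hy0 hy' hp0 hq0 ⟨2 * l, by rw [hy, hp, hq]; simp only [l]; ring⟩ τ hτ
        simpa [A, A', LinearMap.comp_assoc] using this) hφ)
      have e4 : A' d = l⁻¹ • d := by
        conv_lhs => rw [show d = l⁻¹ • A d by rw [hAd, inv_smul_smul₀ hl], map_smul, hA2]
      change A (φ (A' d)) ∈ M at h1
      rw [e4, map_smul, map_smul] at h1
      exact (M.smul_mem_iff (inv_ne_zero hl)).1 h1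
    obtain ⟨φ, hφ, hφd⟩ := id hz₀M
    have h7 : A z₀ ∈ M := by
      have : φ d = z₀ := hφd
      rw [← this]; exact hAM φ hφ
    rw [hAz] at h7
    have h8 : y ∈ M := by simpa using M.sub_mem hz₀M h7
    exact hy0 (hsing y h8 y h8)
  obtain ⟨φ₀, hφ₀, hv⟩ := hout
  have hperp : ∀ z, f d z = 0 → f e z = 0 → f z z ≠ 0 → z ∈ M := by
    intro z hdz hez hz
    have key : ∀ s : F, s * s = 1 → s • f d (φ₀ d) • z - (s * f z (φ₀ d)) • d - (f z z / 2 * f d (φ₀ d)) • d ∈ M := by
      intro s hs
      have h1 := M.sub_mem (hconj (s • z) (by simp [hdz]) (by simp [hz]; intro h0; simp [h0] at hs) φ₀ hφ₀)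
        (hmem φ₀ hφ₀)
      convert h1 using 1
      rw [sv_apply]
      simp [smul_smul]
      match_scalars <;> ring_nf <;> simp [sq, hs]
    have h3 := M.sub_mem (key 1 (one_mul _)) (key (-1) (by ring))
    have h4 : (2 * f d (φ₀ d)) • z ∈ M := by
      convert M.add_mem h3 (M.smul_mem (2 * f z (φ₀ d)) hMd) using 1
      module
    exact (M.smul_mem_iff (mul_ne_zero h2 hv)).1 h4
  obtain ⟨z, hz, hzP⟩ := exists_aniso_perp hf P hPnd (by have := hU.three; omega)
  have hdz : f d z = 0 := hzP d hdP
  have hez : f e z = 0 := hzP e heP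
  obtain ⟨φ, hφ, hφd⟩ := hperp z hdz hez hz
  replace hφd : φ d = z := hφd
  set m := φ z
  have hdm : f d m = f z z := by rw [← hsA φ hφ, hφd]
  -- two elements agreeing at `d` agree on the orbit
  have hagree : ∀ ψ ∈ 𝒜, ∀ χ ∈ 𝒜, ψ d = χ d → ∀ x ∈ M, ψ x = χ x := by
    rintro ψ hψ χ hχ h _ ⟨η, hη, rfl⟩
    show ψ (η d) = χ (η d)
    rw [hcA ψ hψ η hη, hcA χ hχ η hη, h]
  have hzM : z ∈ M := hperp z hdz hez hz
  have hinv : ∀ y, f d y = 0 → ∀ x, sv f d (-y) (sv f d y x) = x := by
    intro y hdy x
    simp only [sv_apply, map_add, map_sub, map_smul, map_neg, LinearMap.neg_apply, smul_eq_mul, hd, hdy,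
      hf.symm d y, mul_zero, add_zero, sub_zero, neg_neg]
    match_scalars <;> field_simp <;> ring
  by_cases h3 : finrank F U = 3
  swap
  · obtain ⟨y, hy, hyR⟩ := exists_aniso_perp hf (Submodule.span F (({d, e, z} : Finset U) : Set U)) (by
        intro x hx hxR
        simp only [Finset.coe_insert, Finset.coe_singleton, Submodule.mem_span_insert,
          Submodule.mem_span_singleton] at hx
        obtain ⟨a, u, ⟨b, u', ⟨c, rfl⟩, rfl⟩, rfl⟩ := hx
        have k1 := hxR d (Submodule.subset_span (by simp))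
        have k2 := hxR e (Submodule.subset_span (by simp))
        have k3 := hxR z (Submodule.subset_span (by simp))
        simp only [map_add, map_smul, smul_eq_mul, hd, hee, hde, hed, hdz, hez, hf.symm d z, hf.symm e z, mul_zero,
          mul_one, add_zero, zero_add, mul_eq_zero, hz, or_false] at k1 k2 k3
        simp [k1, k2, k3])
      (by
        have h6 : finrank F (Submodule.span F (({d, e, z} : Finset U) : Set U)) ≤ 3 :=
          (finrank_span_finset_le_card _).trans Finset.card_le_three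
        have := hU.three
        omega)
    have hdy : f d y = 0 := hyR d (Submodule.subset_span (by simp))
    have hzy : f z y = 0 := hyR z (Submodule.subset_span (by simp))
    have hfix : sv f d y z = z := by simp [sv_apply, hdz, hf.symm z y, hzy]
    obtain ⟨hψ, h4⟩ := hsvS y hdy hy φ hφ
    have h5 := hagree _ hψ φ hφ (by rw [LinearMap.comp_apply, LinearMap.comp_apply, h4, hφd, hfix]) z hzM
    rw [LinearMap.comp_apply, LinearMap.comp_apply] at h5
    have e6 : sv f d (-y) z = z := by
      conv_lhs => rw [← hfix]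
      rw [hinv y hdy]
    rw [e6] at h5
    change sv f d y m = m at h5
    rw [sv_apply] at h5
    have h6 := congrArg (f y) h5
    simp only [map_add, map_sub, map_smul, smul_eq_mul, hf.symm d y, hdy, mul_zero, sub_zero,
      add_eq_left, mul_eq_zero, hy, or_false] at h6
    exact hz (hdm ▸ h6)
  -- dimension three
  have hbasis : ∀ x, x = f e x • d + f d x • e + (f z x / f z z) • z := by
    have hli : LinearIndependent F ![d, e, z] := by
      rw [Fintype.linearIndependent_iff]
      intro c hc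
      simp only [Fin.sum_univ_three, Matrix.cons_val_zero, Matrix.cons_val_one, Matrix.cons_val] at hc
      have k1 := congrArg (f d) hc
      have k2 := congrArg (f e) hc
      have k3 := congrArg (f z) hc
      simp only [map_add, map_smul, smul_eq_mul, hd, hee, hde, hed, hdz, hez, hf.symm d z, hf.symm e z, mul_zero,
        mul_one, add_zero, zero_add, map_zero, mul_eq_zero, hz, or_false] at k1 k2 k3
      exact fun i => by fin_cases i <;> assumption
    have hspan : Submodule.span F (Set.range ![d, e, z]) = ⊤ :=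
      hli.span_eq_top_of_card_eq_finrank (by rw [Fintype.card_fin, h3])
    intro x
    have e1 : (LinearMap.id : U →ₗ[F] U) = (f e).smulRight d + (f d).smulRight e + (f z z)⁻¹ • (f z).smulRight z :=
      LinearMap.ext_on_range hspan fun i => by
        fin_cases i <;> simp [hd, hee, hde, hed, hdz, hez, hf.symm d z, hf.symm e z, hz, smul_smul]
    conv_lhs => rw [← LinearMap.id_apply (R := F) x, e1]
    simp [smul_smul, div_eq_inv_mul]
  have hσz : ∀ t : F, sv f d (t • z) z = z - (t * f z z) • d := fun t => by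
    rw [sv_apply]; simp [hdz, smul_smul]
  have hσφ : ∀ t : F, t ≠ 0 → ∀ x ∈ M, sv f d (t • z) (φ (sv f d (-(t • z)) x)) = φ x - (t * f z z) • x := by
    intro t ht x hx
    obtain ⟨hψ, h4⟩ := hsvS (t • z) (by simp [hdz]) (by simp [ht, hz]) φ hφ
    have h5 := hagree _ hψ (φ - algebraMap F (Module.End F U) (t * f z z))
      (sub_mem hφ (Subalgebra.algebraMap_mem _ _))
      (by rw [LinearMap.comp_apply, LinearMap.comp_apply, h4, hφd, hσz]; simp [hφd, Module.algebraMap_end_apply, smul_smul, mul_comm]) x hx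
    simpa [Module.algebraMap_end_apply, smul_smul, mul_comm] using h5
  have hm : ∀ t : F, t ≠ 0 → sv f d (t • z) m = m - (2 * (t * f z z)) • z + (t * f z z * (t * f z z)) • d := by
    intro t ht
    have h5 := hσφ t ht (sv f d (t • z) z) (by
      rw [hσz]; exact M.sub_mem hzM (M.smul_mem _ hMd))
    rw [hinv (t • z) (by simp [hdz]), hσz, map_sub, map_smul, hφd] at h5
    rw [h5]
    module
  have h30 : (3 : F) = 0 := by
    have h5 := congrArg (f z) (hm 1 one_ne_zero)
    rw [sv_apply] at h5
    simp only [one_smul, one_mul, map_add, map_sub, map_smul, smul_eq_mul, hf.symm d z, hdz, hdm, mul_zero,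
      add_zero, sub_zero] at h5
    exact (mul_eq_zero.1 (show (3 : F) * (f z z * f z z) = 0 by linear_combination h5)).resolve_right
      (mul_ne_zero hz hz)
  have hγ : f z m = 0 := by
    have h5 := congrArg (f e) (hm 1 one_ne_zero)
    rw [sv_apply] at h5
    simp only [one_smul, one_mul, map_add, map_sub, map_smul, smul_eq_mul, hez, hed, hdm, mul_one, mul_zero,
      sub_zero, add_zero] at h5
    field_simp at h5
    have h6 : (2 : F) * f z m = 0 := by linear_combination -h5 - (f z z) ^ 2 * h30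
    exact (mul_eq_zero.1 h6).resolve_left h2
  have hmM : m ∈ M := by
    have e1 : φ z = (φ * φ) d := by rw [Module.End.mul_apply, hφd]
    show φ z ∈ M
    rw [e1]
    exact hmem _ (mul_mem hφ hφ)
  have heM : e ∈ M := by
    have h5 := hbasis m
    rw [hdm, hγ, zero_div, zero_smul, add_zero] at h5
    have h6 : f z z • e ∈ M := by
      rw [show f z z • e = m - f e m • d by rw [eq_sub_iff_add_eq']; exact h5.symm]
      exact M.sub_mem hmM (M.smul_mem _ hMd)
    exact (M.smul_mem_iff hz).1 h6
  set n := φ e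
  have hdn : f d n = 0 := by rw [← hsA φ hφ, hφd, hf.symm, hez]
  have hzn : f z n = f e m := by rw [← hsA φ hφ, hf.symm]
  have hsq : ∀ t : F, t ≠ 0 → t * t * (f z z * f z z) = -4 * f e m := by
    intro t ht
    have hσe : sv f d (t • z) e = e + t • z - (t * t * f z z / 2) • d := by
      rw [sv_apply]
      simp [hde, hf.symm e z, hez, smul_smul]
      module
    have h5 := hσφ t ht (sv f d (t • z) e) (by
      rw [hσe]; exact M.sub_mem (M.add_mem heM (M.smul_mem _ hzM)) (M.smul_mem _ hMd))
    rw [hinv (t • z) (by simp [hdz]), hσe, map_sub, map_add, map_smul, map_smul, hφd] at h5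
    rw [sv_apply] at h5
    have h6 := congrArg (f e) h5
    simp only [map_add, map_sub, map_smul, LinearMap.smul_apply, smul_eq_mul, hdn, hed, hee, hez,
      show φ e = n from rfl, hzn, show φ z = m from rfl, mul_zero, mul_one, sub_zero, add_zero, zero_add] at h6
    field_simp at h6
    have h7 : t * (t * t * (f z z * f z z) + 4 * f e m) = 0 := by linear_combination -h6
    linear_combination (mul_eq_zero.1 h7).resolve_left ht
  have h4a : 4 ≤ finrank F U := hU.big fun u => by
    by_cases hu : u = 0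
    · exact Or.inl hu
    right
    have h1 := hsq 1 one_ne_zero
    have h5 := hsq u hu
    have h6 : u * u = 1 := mul_right_cancel₀ (mul_ne_zero hz hz) (by linear_combination h5 - h1)
    exact mul_self_eq_one_iff.1 h6
  omega

end CfsgLib.Geo.OrthTensor
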