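/-
A map changed only by scalars under conjugation by the isometries of the first factor is a scalar.
-/
import Cfsg.Agent.Lib.Geo.OrthTensor.Over

set_option autoImplicit false
set_option linter.unusedSectionVars false

namespace CfsgLib.Geo.OrthTensor

open CfsgLib.Classical CfsgLib.Classical.Quad Module
open CfsgLib.Geo.MixTensor (SymForm refl)
open QuadraticMap (polar polarBilin)
open LinearMap (BilinForm)

variable {F : Type*} [Field F] [Finite F] {U W V : Type*} [AddCommGroup U] [Module F U] [FiniteDimensional F U]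
  [AddCommGroup W] [Module F W] [FiniteDimensional F W] [AddCommGroup V] [Module F V] [FiniteDimensional F V]
  {Q : QuadraticForm F V} {f : BilinForm F U} {g : BilinForm F W} {T : U →ₗ[F] W →ₗ[F] V}
  {K : Subgroup (OQ Q)}

namespace Over

variable (O : Over Q f g T K)
include O

/-- An isometry of the first factor in the group, with its inverse. -/
def UEl (_O : Over Q f g T K) (A A' : U →ₗ[F] U) : Prop :=
  (∀ a, A' (A a) = a) ∧ (∀ a, A (A' a) = a) ∧ (∀ a b, f (A a) (A b) = f a b) ∧
    ∃ k ∈ K, ∀ a y, (k : V ≃ₗ[F] V) (T a y) = T (A a) y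

theorem uEl_pair {d d' : U} (h : Elig W f d d') :
    O.UEl (refl f d ∘ₗ refl f d') (refl f d' ∘ₗ refl f d) := by
  obtain ⟨k, hk, e⟩ := O.pairU h
  exact ⟨fun a => by simp [O.hf.refl_refl h.1, O.hf.refl_refl h.2.1],
    fun a => by simp [O.hf.refl_refl h.1, O.hf.refl_refl h.2.1],
    fun a b => by simp [O.hf.refl_isometry h.1, O.hf.refl_isometry h.2.1], k, hk, e⟩

theorem uEl_quad {c c' d d' : U} (h1 : f c c ≠ 0) (h2 : f c' c' ≠ 0) (h3 : f d d ≠ 0) (h4 : f d' d' ≠ 0)
    (h : IsSquare (f c c * f c' c' * (f d d * f d' d'))) :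
    O.UEl (refl f c ∘ₗ refl f c' ∘ₗ refl f d ∘ₗ refl f d') (refl f d' ∘ₗ refl f d ∘ₗ refl f c' ∘ₗ refl f c) := by
  obtain ⟨k, hk, e⟩ := O.quadU h1 h2 h3 h4 h
  exact ⟨fun a => by simp [O.hf.refl_refl h1, O.hf.refl_refl h2, O.hf.refl_refl h3, O.hf.refl_refl h4],
    fun a => by simp [O.hf.refl_refl h1, O.hf.refl_refl h2, O.hf.refl_refl h3, O.hf.refl_refl h4],
    fun a b => by simp [O.hf.refl_isometry h1, O.hf.refl_isometry h2, O.hf.refl_isometry h3, O.hf.refl_isometry h4],
    k, hk, e⟩

theorem uEl_sv {d z : U} (hd : f d d = 0) (hdz : f d z = 0) (hz : f z z ≠ 0) :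
    O.UEl (sv f d z) (sv f d (-z)) := by
  have hn := sv_norm O.hf hd hdz
  obtain ⟨h1, h2, h3, k, hk, e⟩ := O.uEl_pair (d := z) (d' := z + (f z z / 2) • d)
    ⟨hz, hn.symm ▸ hz, Or.inr ⟨f z z, by rw [hn]⟩⟩
  have hh : ∀ a, sv f d z a = (refl f z ∘ₗ refl f (z + (f z z / 2) • d)) a := sv_eq_refl O.hf hd hdz hz
  have hinv : ∀ a, sv f d (-z) (sv f d z a) = a := fun a => by
    have := O.two
    simp only [sv_apply, map_add, map_sub, map_smul, map_neg, LinearMap.neg_apply, smul_eq_mul, hd, hdz,
      O.hf.symm d z, mul_zero, add_zero, sub_zero, neg_neg]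
    match_scalars <;> field_simp <;> ring
  refine ⟨hinv, fun a => ?_, fun a b => by rw [hh, hh, h3], k, hk, fun a y => by rw [e, hh]⟩
  obtain ⟨b, rfl⟩ := LinearMap.injective_iff_surjective.1 (fun p q e => by rw [← hinv p, ← hinv q, e]) a
  rw [hinv]

/-- **A map changed by scalars under conjugation is a scalar.** -/
theorem scalar_of_shift {κ : U →ₗ[F] U}
    (h : ∀ A A', O.UEl A A' → ∃ ν : F, ∀ a, A (κ (A' a)) = κ a + ν • a) :
    ∃ μ : F, κ = μ • LinearMap.id := by
  classical
  have hf := O.hf
  have h2 := O.two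
  refine scalar_of_isotropic hf O.small.three fun d hd => ?_
  by_cases hd0 : d = 0
  · exact ⟨0, by simp [hd0]⟩
  obtain ⟨e, hee, hde⟩ := exists_iso_partner hf hd hd0
  have hed : f e d = 1 := by rw [hf.symm, hde]
  set P := Submodule.span F ({d, e} : Set U)
  have hP2 : finrank F P ≤ 2 := by
    have e' : ({d, e} : Set U) = (({d, e} : Finset U) : Set U) := by simp
    show finrank F (Submodule.span F ({d, e} : Set U)) ≤ 2
    rw [e']
    exact (finrank_span_finset_le_card _).trans Finset.card_le_two
  obtain ⟨z₀, hz₀, hz₀P⟩ := exists_aniso_perp hf P (pair_nondeg hf hd hee hde) (by have := O.small.three; omega)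
  have hdz₀ : f d z₀ = 0 := hz₀P d (Submodule.subset_span (Set.mem_insert _ _))
  have hez₀ : f e z₀ = 0 := hz₀P e (Submodule.subset_span (Set.mem_insert_of_mem _ rfl))
  -- the Siegel maps shift by the pairing with the image of `d`
  have hsh : ∀ z, f d z = 0 → f e z = 0 → f z z ≠ 0 → f d (κ d) = 0 ∧
      ∀ a, sv f d z (κ (sv f d (-z) a)) = κ a + (-f z (κ d)) • a := by
    intro z hdz hez hz
    obtain ⟨ν, hν⟩ := h _ _ (O.uEl_sv hd hdz hz)
    have h1 := hν d
    rw [sv_fix_iso hf hd (by simp [hdz]), sv_apply] at h1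
    have k1 := congrArg (f z) h1
    simp only [map_add, map_sub, map_smul, smul_eq_mul, hf.symm d z, hdz, mul_zero, sub_zero, add_zero,
      add_eq_left, mul_eq_zero, hz, or_false] at k1
    have k2 := congrArg (f e) h1
    simp only [map_add, map_sub, map_smul, smul_eq_mul, hed, hez, k1, mul_zero, sub_zero, add_zero, zero_add,
      mul_one] at k2
    have k3 : ν = -f z (κ d) := by linear_combination -k2
    exact ⟨k1, fun a => by rw [← k3]; exact hν a⟩
  have hd1 : f d (κ d) = 0 := (hsh z₀ hdz₀ hez₀ hz₀).1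
  have hzero : ∀ z, f d z = 0 → f e z = 0 → f z z ≠ 0 → f z (κ d) = 0 := by
    intro z hdz hez hz
    by_cases hμ : ∃ μ : F, μ ≠ 0 ∧ μ * μ ≠ 1
    · -- scaling
      obtain ⟨μ, hμ0, hμ1⟩ := hμ
      set l := μ * μ
      have hl : l ≠ 0 := mul_ne_zero hμ0 hμ0
      set p := d + e
      set q := d + l • e
      have hp : f p p = 2 := by simp [p, hd, hee, hde, hed]; norm_num
      have hq : f q q = 2 * l := by simp [q, hd, hee, hde, hed]; ring
      have hp0 : f p p ≠ 0 := hp ▸ h2
      have hq0 : f q q ≠ 0 := hq ▸ mul_ne_zero h2 hl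
      obtain ⟨ν, hν⟩ := h _ _ (O.uEl_pair (d := p) (d' := q) ⟨hp0, hq0, Or.inr ⟨2 * μ, by rw [hp, hq]; ring⟩⟩)
      set A := refl f p ∘ₗ refl f q
      set A' := refl f q ∘ₗ refl f p
      have hA1 : ∀ a, A (A' a) = a := fun a => by simp [A, A', hf.refl_refl hp0, hf.refl_refl hq0]
      have hA2 : ∀ a, A' (A a) = a := fun a => by simp [A, A', hf.refl_refl hp0, hf.refl_refl hq0]
      have hAd : A d = l • d := by
        have e1 : refl f q d = (-l) • e := by
          rw [MixTensor.refl_apply, hq]
          simp [q, hd, hed]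
          match_scalars <;> field_simp <;> ring
        have e2 : refl f p e = -d := by
          rw [MixTensor.refl_apply, hp]
          simp [p, hee, hde]
          match_scalars <;> field_simp <;> ring
        simp [A, e1, e2]
      have hAz : ∀ z, f d z = 0 → f e z = 0 → A z = z := fun z h1 h2 => by
        have e1 : refl f q z = z := hf.refl_fix (by simp [q, h1, h2])
        have e2 : refl f p z = z := hf.refl_fix (by simp [p, h1, h2])
        simp [A, e1, e2]
      have e4 : A' d = l⁻¹ • d := by
        conv_lhs => rw [show d = l⁻¹ • A d by rw [hAd, inv_smul_smul₀ hl], map_smul, hA2]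
      have hk := hν d
      rw [show (refl f p ∘ₗ refl f q) (κ ((refl f q ∘ₗ refl f p) d)) = A (κ (A' d)) from rfl, e4, map_smul,
        map_smul] at hk
      have h5 := congrArg (f z) hk
      have h6 : f z (A (κ d)) = f z (κ d) := by
        conv_lhs => rw [← hAz z hdz hez]
        simp [A, hf.refl_isometry hp0, hf.refl_isometry hq0]
      simp only [map_add, map_smul, smul_eq_mul, h6, hf.symm d z, hdz, mul_zero, add_zero] at h5
      have h7 : (l⁻¹ - 1) * f z (κ d) = 0 := by linear_combination h5
      refine (mul_eq_zero.1 h7).resolve_left fun h8 => hμ1 ?_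
      rw [sub_eq_zero, inv_eq_one] at h8
      exact h8
    · -- a pair negating `z`
      push Not at hμ
      have hnorm : ∀ a : F, a ≠ 0 → a = 1 ∨ a = -1 := fun a ha => mul_self_eq_one_iff.1 (hμ a ha)
      have hsmall : ∀ u : F, u = 0 ∨ u = 1 ∨ u = -1 := fun u => by
        by_cases hu : u = 0
        · exact Or.inl hu
        · exact Or.inr (hnorm u hu)
      have h4 := O.small.big hsmall
      set R := Submodule.span F (({d, e, z} : Finset U) : Set U)
      have hR3 : finrank F R ≤ 3 := (finrank_span_finset_le_card _).trans Finset.card_le_three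
      have hRnd : ∀ x ∈ R, (∀ w ∈ R, f w x = 0) → x = 0 := by
        intro x hx hxR
        simp only [R, Finset.coe_insert, Finset.coe_singleton, Submodule.mem_span_insert,
          Submodule.mem_span_singleton] at hx
        obtain ⟨a, u, ⟨b, u', ⟨c, rfl⟩, rfl⟩, rfl⟩ := hx
        have k1 := hxR d (Submodule.subset_span (by simp))
        have k2 := hxR e (Submodule.subset_span (by simp))
        have k3 := hxR z (Submodule.subset_span (by simp))
        simp only [map_add, map_smul, smul_eq_mul, hd, hee, hde, hed, hdz, hez, hf.symm d z, hf.symm e z, mul_zero,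
          mul_one, add_zero, zero_add, mul_eq_zero, hz, or_false] at k1 k2 k3
        simp [k1, k2, k3]
      obtain ⟨y, hy, hyd, hye, hyz⟩ : ∃ y, f y y = f z z ∧ f d y = 0 ∧ f e y = 0 ∧ f z y = 0 := by
        by_cases h5 : finrank F R + 2 ≤ finrank F U
        · obtain ⟨y, hy, hyR⟩ := hf.exists_norm_perp R hRnd h5 hz
          exact ⟨y, hy, hyR d (Submodule.subset_span (by simp)), hyR e (Submodule.subset_span (by simp)),
            hyR z (Submodule.subset_span (by simp))⟩
        · obtain ⟨y, hy, hyR⟩ := exists_aniso_perp hf R hRnd (by omega)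
          refine ⟨y, ?_, hyR d (Submodule.subset_span (by simp)), hyR e (Submodule.subset_span (by simp)),
            hyR z (Submodule.subset_span (by simp))⟩
          by_contra hne
          have hdy := hyR d (Submodule.subset_span (by simp))
          have hzy := hyR z (Submodule.subset_span (by simp))
          have hsum : f y y + f z z = 0 := by
            rcases hnorm _ hy with h1 | h1 <;> rcases hnorm _ hz with h2 | h2 <;> rw [h1, h2] at hne ⊢ <;>
              first | exact absurd rfl hne | ring
          have h6 := O.small.four (by omega) d (y + z) hd hd0 (by rw [map_add, hdy, hdz, add_zero])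
            (by simp [hf.symm z y, hzy]; linear_combination hsum)
          obtain ⟨c, hc⟩ := Submodule.mem_span_singleton.1 h6
          have h7 := congrArg (f z) hc
          simp only [map_add, map_smul, smul_eq_mul, hf.symm d z, hdz, hzy, mul_zero, zero_add] at h7
          exact hz h7.symm
      have hy0 : f y y ≠ 0 := hy ▸ hz
      obtain ⟨ν, hν⟩ := h _ _ (O.uEl_pair (d := z) (d' := y) ⟨hz, hy0, Or.inr ⟨f z z, by rw [hy]⟩⟩)
      set A := refl f z ∘ₗ refl f y
      have hk := hν d
      have e1 : refl f z d = d := hf.refl_fix (by rw [hf.symm, hdz])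
      have e2 : refl f y d = d := hf.refl_fix (by rw [hf.symm, hyd])
      rw [show (refl f z ∘ₗ refl f y) (κ ((refl f y ∘ₗ refl f z) d)) = A (κ (refl f y (refl f z d))) from rfl,
        e1, e2] at hk
      have h5 := congrArg (f z) hk
      have e3 : A z = -z := by
        have h8 : refl f y z = z := hf.refl_fix (by rw [hf.symm, hyz])
        simp only [A, LinearMap.comp_apply, h8, MixTensor.refl_apply, div_mul_cancel₀ _ hz]
        module
      have h6 : f z (A (κ d)) = -f z (κ d) := by
        have h9 : f (A z) (A (κ d)) = f z (κ d) := by simp [A, hf.refl_isometry hz, hf.refl_isometry hy0]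
        rw [e3, map_neg, LinearMap.neg_apply] at h9
        linear_combination -h9
      simp only [map_add, map_smul, smul_eq_mul, h6, hf.symm d z, hdz, mul_zero, add_zero] at h5
      have h7 : (2 : F) * f z (κ d) = 0 := by linear_combination -h5
      exact (mul_eq_zero.1 h7).resolve_left h2
  refine ⟨f e (κ d), sub_eq_zero.1 (hf.nd.2 _ fun x => ?_)⟩
  have hall : ∀ z, f d z = 0 → f e z = 0 → f z (κ d) = 0 := by
    intro z hdz hez
    by_cases hz : f z z = 0
    swap
    · exact hzero z hdz hez hz
    by_cases hq1 : f (z + z₀) (z + z₀) = 0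
    · have hq2 : f (z - z₀) (z - z₀) ≠ 0 := fun h0 => by
        simp only [map_add, map_sub, LinearMap.add_apply, LinearMap.sub_apply, hz] at hq1 h0
        exact mul_ne_zero h2 hz₀ (by linear_combination hq1 + h0)
      have h9 := hzero (z - z₀) (by simp [hdz, hdz₀]) (by simp [hez, hez₀]) hq2
      rwa [map_sub, LinearMap.sub_apply, hzero z₀ hdz₀ hez₀ hz₀, sub_zero] at h9
    · have h9 := hzero (z + z₀) (by simp [hdz, hdz₀]) (by simp [hez, hez₀]) hq1
      rwa [map_add, LinearMap.add_apply, hzero z₀ hdz₀ hez₀ hz₀, add_zero] at h9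
  have h10 := hall (x - f e x • d - f d x • e) (by simp [hd, hde]) (by simp [hee, hed])
  simp only [map_sub, map_smul, LinearMap.sub_apply, LinearMap.smul_apply, smul_eq_mul, hd1, mul_zero,
    sub_zero] at h10
  simp only [map_sub, map_smul, smul_eq_mul, hf.symm d x]
  linear_combination h10

end Over

end CfsgLib.Geo.OrthTensor
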