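/-
Without central elements an element mapping isotropic lines of pure tensors to such lines is a product.
-/
import Cfsg.Agent.Lib.Geo.OrthTensor.Shift

set_option autoImplicit false
set_option linter.unusedSectionVars false

namespace CfsgLib.Geo.OrthTensor

open CfsgLib.Classical CfsgLib.Classical.Quad Module
open CfsgLib.Geo.MixTensor (SymForm refl)
open QuadraticMap (polar polarBilin)
open LinearMap (BilinForm)

variable {F : Type*} [Field F] [Finite F] {U W V : Type*} [AddCommGroup U] [Module F U] [FiniteDimensional F U]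
  [AddCommGroup W] [Module F W] [FiniteDimensional F W] [AddCommGroup V] [Module F V] [FiniteDimensional F V]
  {Q : QuadraticForm F V} {f : BilinForm F U} {g : BilinForm F W} {T : U →ₗ[F] W →ₗ[F] V}
  {K : Subgroup (OQ Q)}

omit [Finite F] in
theorem span_pair_le (a b : W) : finrank F (Submodule.span F ({a, b} : Set W)) ≤ 2 := by
  classical
  have e' : ({a, b} : Set W) = (({a, b} : Finset W) : Set W) := by simp
  rw [e']
  exact (finrank_span_finset_le_card _).trans Finset.card_le_two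

namespace Over

variable (O : Over Q f g T K)
include O

theorem nontriv : Nontrivial U := Module.nontrivial_of_finrank_pos (R := F) (by have := O.small.three; omega)

theorem nontrivW : Nontrivial W := Module.nontrivial_of_finrank_pos (R := F) (by have := O.five; omega)

/-- An anisotropic vector orthogonal to an isotropic one. -/
theorem exists_aniso_orth {w : W} (hw : g w w = 0) (hw0 : w ≠ 0) :
    ∃ u, g u u = 0 ∧ g w u = 1 ∧ ∃ h, g h h ≠ 0 ∧ g w h = 0 ∧ g u h = 0 := by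
  obtain ⟨u, huu, hwu⟩ := exists_iso_partner O.hg hw hw0
  obtain ⟨h, hh, hhP⟩ := exists_aniso_perp O.hg _ (pair_nondeg O.hg hw huu hwu)
    (by have := O.five; have := span_pair_le (F := F) w u; omega)
  exact ⟨u, huu, hwu, h, hh, hhP w (Submodule.subset_span (Set.mem_insert _ _)),
    hhP u (Submodule.subset_span (Set.mem_insert_of_mem _ rfl))⟩

/-- The anisotropic vectors span the orthogonal of an isotropic vector. -/
theorem perp_induction {w : W} (hw : g w w = 0) (hw0 : w ≠ 0) {P : W → Prop}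
    (sub : ∀ x y, g w x = 0 → g w y = 0 → P x → P y → P (x - y))
    (aniso : ∀ z, g w z = 0 → g z z ≠ 0 → P z) {z : W} (hz : g w z = 0) : P z := by
  by_cases hzz : g z z = 0
  swap
  · exact aniso z hz hzz
  obtain ⟨u, -, -, h, hh, hwh, -⟩ := O.exists_aniso_orth hw hw0
  by_cases h1 : g (z + h) (z + h) = 0
  · have h2 : g (z - h) (z - h) ≠ 0 := fun h0 => by
      simp only [map_add, map_sub, LinearMap.add_apply, LinearMap.sub_apply, hzz] at h1 h0
      exact mul_ne_zero O.two hh (by linear_combination h1 + h0)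
    have h3 := sub (z - h) (-h) (by simp [hz, hwh]) (by simp [hwh]) (aniso _ (by simp [hz, hwh]) h2)
      (aniso _ (by simp [hwh]) (by simpa using hh))
    simpa using h3
  · have h3 := sub (z + h) h (by simp [hz, hwh]) hwh (aniso _ (by simp [hz, hwh]) h1) (aniso _ hwh hh)
    simpa using h3

/-- The reflected difference of a vector. -/
theorem pair_diff {c c' : W} (hcc : g c c' = 0) {k : OQ Q}
    (ek : ∀ a y, (k : V ≃ₗ[F] V) (T a y) = T a (refl g c (refl g c' y))) (v : V) :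
    v - (k : V ≃ₗ[F] V) v = (2 / g c c) • T (O.C c v) c + (2 / g c' c') • T (O.C c' v) c' := by
  refine LinearMap.congr_fun (O.hom_ext (L := LinearMap.id - ((k : V ≃ₗ[F] V) : V →ₗ[F] V))
    (L' := (2 / g c c) • (T.flip c ∘ₗ O.C c) + (2 / g c' c') • (T.flip c' ∘ₗ O.C c')) fun a y => ?_) v
  simp [ek, MixTensor.refl_apply, O.C_T, hcc, smul_smul]
  module

theorem C_refl_fix {w c : W} (h : g c w = 0) : refl g c w = w := O.hg.refl_fix h

/-- **The components of a radical element are scalars.** -/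
theorem comp_scalar {w : W} (hw0 : w ≠ 0) (hw : g w w = 0) {Y : U →ₗ[F] V} (hY : O.Rad w Y) {z : W}
    (hz : g w z = 0) : ∃ μ : F, ∀ a, O.C z (Y a) = μ • a := by
  classical
  have hg := O.hg
  have h2 := O.two
  obtain ⟨u, huu, hwu, -⟩ := O.exists_aniso_orth hw hw0
  let Iso : W → Prop := fun c => g w c = 0 ∧ g c c ≠ 0 ∧ ∃ c' c'', g w c' = 0 ∧ g w c'' = 0 ∧
    g c c' = 0 ∧ g c c'' = 0 ∧ g c' c'' = 0 ∧ g c' c' ≠ 0 ∧ g c'' c'' ≠ 0 ∧
    Elig U g c c' ∧ Elig U g c c''
  -- the component at an isolated vector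
  have hiso : ∀ c, Iso c → ∀ Y, O.Rad w Y → ∃ μ : F, ∀ a, O.C c (Y a) = μ • a := by
    rintro c ⟨hwc, hc, c', c'', hwc', hwc'', hcc', hcc'', hc'c'', hc', hc'', he', he''⟩ Y hY
    have hfix : ∀ x, g w x = 0 → refl g x w = w := fun x hx => O.C_refl_fix (by rw [hg.symm]; exact hx)
    obtain ⟨k₁, hk₁, e₁⟩ := O.pairW he'
    obtain ⟨k₂, hk₂, e₂⟩ := O.pairW he''
    have hdiff : ∀ (Y : U →ₗ[F] V), O.Rad w Y → ∀ (k : OQ Q) (x x' : W), k ∈ K → g w x = 0 → g w x' = 0 →
        g x x ≠ 0 → g x' x' ≠ 0 → (∀ a y, (k : V ≃ₗ[F] V) (T a y) = T a (refl g x (refl g x' y))) →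
        O.Rad w (Y + -(((k : V ≃ₗ[F] V) : V →ₗ[F] V) ∘ₗ Y ∘ₗ LinearMap.id)) := fun Y hY k x x' hk hx hx' hx0 hx'0 ek =>
      O.rad_add hw hY (O.rad_neg hw (O.rad_conj hY hk (A := LinearMap.id) (A' := LinearMap.id)
        (B := refl g x ∘ₗ refl g x') (fun _ _ => rfl) (fun _ => rfl) (by simp [hfix x hx, hfix x' hx']) ek))
    have hY1 := hdiff Y hY k₁ c c' hk₁ hwc hwc' hc hc' e₁
    have hY2 := hdiff _ hY1 k₂ c c'' hk₂ hwc hwc'' hc hc'' e₂
    set τ : U →ₗ[F] U := O.C c ∘ₗ Y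
    set m : F := 2 / g c c * 2
    have hm : m ≠ 0 := mul_ne_zero (div_ne_zero h2 hc) h2
    have hS : O.Rad w (T.flip c ∘ₗ (m • τ)) := by
      convert hY2 using 1
      refine LinearMap.ext fun a => ?_
      simp only [LinearMap.add_apply, LinearMap.neg_apply, LinearMap.comp_apply, LinearMap.id_apply,
        LinearEquiv.coe_coe, LinearMap.flip_apply, LinearMap.smul_apply]
      rw [← sub_eq_add_neg, ← sub_eq_add_neg, O.pair_diff hcc'' e₂, O.pair_diff hcc' e₁]
      simp [O.C_T, hg.symm c c'', hcc'', hcc', hg.symm c' c'', hc'c'', smul_smul, τ, m]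
      match_scalars <;> field_simp
    let S : Set (U →ₗ[F] U) := {θ | O.Rad w (T.flip c ∘ₗ θ)}
    have hadj : ∀ θ : U →ₗ[F] U, ∀ a b, f a (O.adjV (T.flip c ∘ₗ θ) (T b c)) = f (θ a) b * g c c := fun θ a b => by
      rw [O.f_adjV, LinearMap.comp_apply, LinearMap.flip_apply, O.polarT]
    have hsa : ∀ θ ∈ S, ∀ a b, f (θ a) b = f a (θ b) := by
      intro θ hθ a b
      have h1 := congrArg (f a) (O.rad_comm hw0 hw hθ (O.rad_unit hw hwc hc) b)
      rw [LinearMap.flip_apply, hadj, O.f_adjV, LinearMap.comp_apply, LinearMap.flip_apply, LinearMap.flip_apply,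
        O.polarT] at h1
      exact mul_right_cancel₀ hc h1
    have hcomm : ∀ θ ∈ S, ∀ ρ ∈ S, ∀ x, θ (ρ x) = ρ (θ x) := by
      intro θ hθ ρ hρ x
      refine O.fext fun a => mul_right_cancel₀ hc ?_
      have h1 := congrArg (f a) (O.rad_comm hw0 hw hθ hρ x)
      simp only [LinearMap.comp_apply, LinearMap.flip_apply] at h1
      rw [hadj, hadj] at h1
      rwa [hsa θ hθ, hsa ρ hρ] at h1
    have hconj : ∀ A A', O.UEl A A' → ∀ θ ∈ S, A ∘ₗ θ ∘ₗ A' ∈ S := by
      rintro A A' ⟨h1, -, h3, k, hk, ek⟩ θ hθ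
      have h4 := O.rad_conj hθ hk (A := A) (A' := A') (B := LinearMap.id) h3 h1 rfl ek
      show O.Rad w _
      convert h4 using 1
      exact LinearMap.ext fun a => by simp [ek]
    have hinv : Inv W f S :=
      { pair := fun d d' hd θ hθ => by
          simpa [LinearMap.comp_assoc] using hconj _ _ (O.uEl_pair hd) θ hθ
        quad := fun c₁ c₂ d₁ d₂ h1 h2 h3 h4 h θ hθ => by
          simpa [LinearMap.comp_assoc] using hconj _ _ (O.uEl_quad h1 h2 h3 h4 h) θ hθ }
    obtain ⟨μ, hμ⟩ := scalar_of_comm W O.small hinv hsa hcomm (θ := m • τ) hS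
    refine ⟨m⁻¹ * μ, fun a => ?_⟩
    have h5 := LinearMap.congr_fun hμ a
    simp only [LinearMap.smul_apply, LinearMap.id_apply] at h5
    show τ a = _
    rw [mul_smul, ← h5, inv_smul_smul₀ hm]
  -- isolated vectors are stable under reflections
  have hrefl : ∀ c e, Iso c → g w e = 0 → g e e ≠ 0 → Iso (refl g e c) := by
    rintro c e ⟨hwc, hc, c', c'', hwc', hwc'', hcc', hcc'', hc'c'', hc', hc'', he', he''⟩ hwe he
    have hi := hg.refl_isometry he
    have hwr : ∀ x, g w x = 0 → g w (refl g e x) = 0 := fun x hx => by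
      simp [MixTensor.refl_apply, hx, hwe]
    refine ⟨hwr c hwc, by rwa [hi], refl g e c', refl g e c'', hwr _ hwc', hwr _ hwc'', ?_, ?_, ?_, ?_, ?_, ?_, ?_⟩
    all_goals first
      | (rw [hi]; assumption)
      | (unfold Elig; simp only [hi]; first | exact he' | exact he'')
  -- an isolated vector
  have hexI : ∃ c, Iso c := by
    have hwu' : g (w + u) (w - u) = 0 := by simp [hw, huu, hwu, hg.symm w u]
    have hp : g (w + u) (w + u) = 2 := by simp [hw, huu, hwu, hg.symm w u]; norm_num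
    have hq : g (w - u) (w - u) = -2 := by simp [hw, huu, hwu, hg.symm w u]; norm_num
    have hext : ∀ (s : Finset W), (∀ a ∈ s, g w a = 0 ∧ g u a = 0 ∧ g a a ≠ 0 ∧ ∀ b ∈ s, a ≠ b → g a b = 0) →
        ∀ x ∈ Submodule.span F (insert w (insert u (s : Set W))),
          (∀ y ∈ Submodule.span F (insert w (insert u (s : Set W))), g y x = 0) → x = 0 := by
      intro s hs x hx hxP
      simp only [Submodule.mem_span_insert, Submodule.mem_span_finset'] at hx
      obtain ⟨α, x', ⟨β, x'', ⟨γ, rfl⟩, rfl⟩, rfl⟩ := hx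
      have k1 := hxP w (Submodule.subset_span (Set.mem_insert _ _))
      have k2 := hxP u (Submodule.subset_span (Set.mem_insert_of_mem _ (Set.mem_insert _ _)))
      simp only [map_add, map_smul, map_sum, smul_eq_mul, hw, huu, hwu, hg.symm w u, mul_zero, mul_one,
        zero_add] at k1 k2
      rw [Finset.sum_eq_zero (fun a _ => by rw [(hs a a.2).1, mul_zero]), add_zero] at k1
      rw [Finset.sum_eq_zero (fun a _ => by rw [(hs a a.2).2.1, mul_zero]), add_zero] at k2
      have k3 : ∀ a : s, γ a = 0 := fun a => by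
        have k := hxP a (Submodule.subset_span (Set.mem_insert_of_mem _ (Set.mem_insert_of_mem _ a.2)))
        simp only [map_add, map_smul, map_sum, smul_eq_mul, hg.symm w (a : W), hg.symm u (a : W), (hs a a.2).1,
          (hs a a.2).2.1, mul_zero, zero_add] at k
        rw [Finset.sum_eq_single a (fun b _ hb => by
          rw [(hs a a.2).2.2.2 b b.2 (fun e => hb (Subtype.ext e.symm)), mul_zero]) (by simp), mul_eq_zero] at k
        exact k.resolve_right (hs a a.2).2.2.1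
      simp [k1, k2, k3]
    have hdim : ∀ s : Finset W, finrank F (Submodule.span F (insert w (insert u (s : Set W)))) ≤ 2 + s.card := by
      intro s
      classical
      have e' : insert w (insert u (s : Set W)) = ((insert w (insert u s) : Finset W) : Set W) := by simp
      rw [e']
      refine (finrank_span_finset_le_card _).trans ?_
      have h1 := Finset.card_insert_le w (insert u s)
      have h2 := Finset.card_insert_le u s
      omega
    have hnorm : ∀ (s : Finset W), (∀ a ∈ s, g w a = 0 ∧ g u a = 0 ∧ g a a ≠ 0 ∧ ∀ b ∈ s, a ≠ b → g a b = 0) →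
        s.card + 4 ≤ finrank F W → ∀ ν : F, ν ≠ 0 → ∃ c, g c c = ν ∧ g w c = 0 ∧ g u c = 0 ∧ ∀ a ∈ s, g a c = 0 := by
      intro s hs hcard ν hν
      obtain ⟨c, hc, hcP⟩ := hg.exists_norm_perp _ (hext s hs) (by have := hdim s; omega) hν
      exact ⟨c, hc, hcP w (Submodule.subset_span (Set.mem_insert _ _)),
        hcP u (Submodule.subset_span (Set.mem_insert_of_mem _ (Set.mem_insert _ _))),
        fun a ha => hcP a (Submodule.subset_span (Set.mem_insert_of_mem _ (Set.mem_insert_of_mem _ ha)))⟩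
    have haniso : ∀ (s : Finset W), (∀ a ∈ s, g w a = 0 ∧ g u a = 0 ∧ g a a ≠ 0 ∧ ∀ b ∈ s, a ≠ b → g a b = 0) →
        s.card + 3 ≤ finrank F W → ∃ c, g c c ≠ 0 ∧ g w c = 0 ∧ g u c = 0 ∧ ∀ a ∈ s, g a c = 0 := by
      intro s hs hcard
      obtain ⟨c, hc, hcP⟩ := exists_aniso_perp hg _ (hext s hs) (by have := hdim s; omega)
      exact ⟨c, hc, hcP w (Submodule.subset_span (Set.mem_insert _ _)),
        hcP u (Submodule.subset_span (Set.mem_insert_of_mem _ (Set.mem_insert _ _))),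
        fun a ha => hcP a (Submodule.subset_span (Set.mem_insert_of_mem _ (Set.mem_insert_of_mem _ ha)))⟩
    have h5 := O.five
    have hν : ∀ ν : F, ν ≠ 0 → ∃ c c', g c c = ν ∧ g c' c' = ν ∧ g w c = 0 ∧ g u c = 0 ∧ g w c' = 0 ∧ g u c' = 0 ∧
        g c c' = 0 ∧ ∀ a ∈ ({c, c'} : Finset W), g w a = 0 ∧ g u a = 0 ∧ g a a ≠ 0 ∧
          ∀ b ∈ ({c, c'} : Finset W), a ≠ b → g a b = 0 := by
      intro ν hν0
      obtain ⟨c, hc, hwc, huc, -⟩ := hnorm ∅ (by simp) (by simp; omega) ν hν0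
      obtain ⟨c', hc', hwc', huc', hcc'⟩ := hnorm {c} (by simp [hwc, huc, hc, hν0]) (by simp; omega) ν hν0
      have hcc := hcc' c (Finset.mem_singleton_self c)
      exact ⟨c, c', hc, hc', hwc, huc, hwc', huc', hcc, by
        simp [hwc, huc, hwc', huc', hc, hc', hν0, hcc, hg.symm c c']⟩
    by_cases hb : 6 ≤ finrank F W
    · obtain ⟨c, c', hc, hc', hwc, huc, hwc', huc', hcc, hs⟩ := hν 1 one_ne_zero
      obtain ⟨c'', hc'', hwc'', -, hperp⟩ := hnorm {c, c'} hs (by
        have := Finset.card_le_two (a := c) (b := c'); omega) 1 one_ne_zero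
      exact ⟨c, hwc, by simp [hc], c', c'', hwc', hwc'', hcc, hperp c (by simp), hperp c' (by simp), by simp [hc'],
        by simp [hc''], ⟨by simp [hc], by simp [hc'], Or.inr ⟨1, by rw [hc, hc']⟩⟩,
        ⟨by simp [hc], by simp [hc''], Or.inr ⟨1, by rw [hc, hc'']⟩⟩⟩
    · obtain ⟨c₁, c₂, h₁, h₂, hw₁, hu₁, hw₂, hu₂, h₁₂, hs⟩ := hν 1 one_ne_zero
      obtain ⟨c₃, h₃, hw₃, hu₃, hperp₃⟩ := haniso {c₁, c₂} hs (by
        have := Finset.card_le_two (a := c₁) (b := c₂); omega)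
      obtain ⟨c, c', hc, hc', hwc, huc, hwc', huc', hcc, hs'⟩ := hν _ h₃
      obtain ⟨c'', hc'', hwc'', huc'', hperp⟩ := haniso {c, c'} hs' (by
        have := Finset.card_le_two (a := c) (b := c'); omega)
      obtain ⟨t, ht, hprod⟩ := frame_prod hg (n := 5) (by omega) ![w + u, w - u, c₁, c₂, c₃]
        ![w + u, w - u, c, c', c'']
        (fun i j hij => by
          fin_cases i <;> fin_cases j <;> first
            | exact absurd rfl hij
            | simp [hw, huu, hwu, hg.symm w u, hw₁, hw₂, hw₃, hu₁, hu₂, hu₃, hg.symm w c₁, hg.symm w c₂,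
                hg.symm w c₃, hg.symm u c₁, hg.symm u c₂, hg.symm u c₃, h₁₂, hg.symm c₁ c₂,
                hperp₃ c₁ (by simp), hperp₃ c₂ (by simp), hg.symm c₁ c₃, hg.symm c₂ c₃])
        (fun i => by
          fin_cases i <;> simp [hw, huu, hwu, hg.symm w u, h₁, h₂, h₃] <;> norm_num <;>
            simpa using h2)
        (fun i j hij => by
          fin_cases i <;> fin_cases j <;> first
            | exact absurd rfl hij
            | simp [hw, huu, hwu, hg.symm w u, hwc, hwc', hwc'', huc, huc', huc'', hg.symm w c, hg.symm w c',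
                hg.symm w c'', hg.symm u c, hg.symm u c', hg.symm u c'', hcc, hg.symm c c',
                hperp c (by simp), hperp c' (by simp), hg.symm c c'', hg.symm c' c''])
        (fun i => by
          fin_cases i <;> simp [hw, huu, hwu, hg.symm w u, hc, hc', hc'', h₃] <;> norm_num <;>
            simpa using h2)
      simp only [Fin.prod_univ_five, Matrix.cons_val_zero, Matrix.cons_val_one, Matrix.cons_val, hp, hq, h₁, h₂,
        hc, hc'] at hprod
      refine ⟨c, hwc, by rwa [hc], c', c'', hwc', hwc'', hcc, hperp c (by simp), hperp c' (by simp),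
        by rwa [hc'], hc'', ⟨by rwa [hc], by rwa [hc'], Or.inr ⟨g c₃ c₃, by rw [hc, hc']⟩⟩,
        ⟨by rwa [hc], hc'', Or.inr ⟨t⁻¹, ?_⟩⟩⟩
      rw [hc]
      have h4 : (2 : F) * 2 ≠ 0 := mul_ne_zero h2 h2
      have h7 : g c₃ c₃ * g c'' c'' * (t * t) = 1 := mul_left_cancel₀ (mul_ne_zero h4 h₃)
        (by linear_combination hprod)
      field_simp
      linear_combination h7
  -- spreading
  obtain ⟨c, hcI⟩ := hexI
  have hwc : g w c = 0 := hcI.1
  have hc : g c c ≠ 0 := hcI.2.1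
  let Good : W → Prop := fun x => ∃ μ : F, ∀ a, O.C x (Y a) = μ • a
  have hstep : ∀ c e, Iso c → g w e = 0 → g e e ≠ 0 → g e c ≠ 0 → Good e := by
    intro c e hcI hwe he hec
    obtain ⟨μ, hμ⟩ := hiso c hcI Y hY
    obtain ⟨μ', hμ'⟩ := hiso _ (hrefl c e hcI hwe he) Y hY
    refine ⟨(μ - μ') / (2 / g e e * g e c), fun a => ?_⟩
    have h1 := hμ' a
    rw [MixTensor.refl_apply, map_sub, map_smul, LinearMap.sub_apply, LinearMap.smul_apply, hμ,
      sub_eq_iff_eq_add, ← sub_eq_iff_eq_add'] at h1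
    rw [div_eq_inv_mul (μ - μ'), mul_smul, sub_smul, h1,
      inv_smul_smul₀ (mul_ne_zero (div_ne_zero h2 he) hec)]
  refine O.perp_induction hw hw0 (P := Good) ?_ ?_ hz
  · rintro x y - - ⟨μ, hμ⟩ ⟨μ', hμ'⟩
    exact ⟨μ - μ', fun a => by rw [map_sub, LinearMap.sub_apply, hμ, hμ', sub_smul]⟩
  intro e hwe he
  by_cases hec : g e c = 0
  swap
  · exact hstep c e hcI hwe he hec
  obtain ⟨e₁, hwe₁, he₁, he₁c, hee₁⟩ : ∃ e₁, g w e₁ = 0 ∧ g e₁ e₁ ≠ 0 ∧ g e₁ c ≠ 0 ∧ g e e₁ ≠ 0 := by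
    by_cases hn : g (e + c) (e + c) = 0
    swap
    · exact ⟨e + c, by simp [hwe, hwc], hn, by simp [hec, hc], by simp [hec, he]⟩
    have hsum : g e e + g c c = 0 := by
      simpa [map_add, LinearMap.add_apply, hec, hg.symm e c] using hn
    obtain ⟨x, hx⟩ : ∃ x, g w x = 1 := by
      obtain ⟨x, hx⟩ := O.exists_partner hw0
      exact ⟨x, by rw [hg.symm]; exact hx⟩
    set u₀ := x - (g c x / g c c) • c - (g e x / g e e) • e
    set u' := u₀ - (g u₀ u₀ / 2) • w
    have hce : g c e = 0 := by rw [hg.symm]; exact hec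
    have hwu0 : g w u₀ = 1 := by simp [u₀, hwc, hwe, hx]
    have hcu0 : g c u₀ = 0 := by simp [u₀, hce, hc]
    have heu0 : g e u₀ = 0 := by simp [u₀, hec, he]
    have hwu' : g w u' = 1 := by simp [u', hw, hwu0]
    have hcu' : g c u' = 0 := by simp [u', hg.symm w c, hwc, hcu0]
    have heu' : g e u' = 0 := by simp [u', hg.symm w e, hwe, heu0]
    have hu'u' : g u' u' = 0 := by
      simp [u', hw, hg.symm w u₀, hwu0]
      field_simp
      ring
    obtain ⟨h, hh, hhP⟩ := exists_aniso_perp hg (Submodule.span F (({c, e, w, u'} : Finset W) : Set W)) (by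
        intro x hx hxP
        simp only [Finset.coe_insert, Finset.coe_singleton, Submodule.mem_span_insert,
          Submodule.mem_span_singleton] at hx
        obtain ⟨α, _, ⟨β, _, ⟨γ, _, ⟨δ, rfl⟩, rfl⟩, rfl⟩, rfl⟩ := hx
        have k1 := hxP c (Submodule.subset_span (by simp))
        have k2 := hxP e (Submodule.subset_span (by simp))
        have k3 := hxP w (Submodule.subset_span (by simp))
        have k4 := hxP u' (Submodule.subset_span (by simp))
        simp only [map_add, map_smul, smul_eq_mul, hce, hec, hwc, hwe, hw, hwu', hcu', heu', hu'u', hg.symm w c,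
          hg.symm w e, hg.symm c u', hg.symm e u', hg.symm w u', mul_zero, mul_one, add_zero, zero_add,
          mul_eq_zero, hc, he, or_false] at k1 k2 k3 k4
        simp [k1, k2, k3, k4])
      (by
        have h6 : finrank F (Submodule.span F (({c, e, w, u'} : Finset W) : Set W)) ≤ 4 :=
          (finrank_span_finset_le_card _).trans Finset.card_le_four
        have := O.five
        omega)
    have hch : g c h = 0 := hhP c (Submodule.subset_span (by simp))
    have heh : g e h = 0 := hhP e (Submodule.subset_span (by simp))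
    refine ⟨e + c + h, by simp [hwe, hwc, hhP w (Submodule.subset_span (by simp))], ?_, ?_, ?_⟩
    · simp only [map_add, LinearMap.add_apply, hec, hce, hch, heh, hg.symm c h, hg.symm e h, add_zero, zero_add,
        hsum]
      exact hh
    · simp [hec, hc, hg.symm c h, hch]
    · simp [hec, he, heh]
  refine hstep _ e (hrefl c e₁ hcI hwe₁ he₁) hwe he ?_
  simp only [MixTensor.refl_apply, map_sub, map_smul, hec, smul_eq_mul, zero_sub, neg_ne_zero]
  exact mul_ne_zero (mul_ne_zero (div_ne_zero h2 he₁) he₁c) hee₁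

/-- An element with a fixed left factor is a product. -/
theorem tens_of_left {k : OQ Q} {A : U →ₗ[F] U} (hA : ∃ a, A a ≠ 0)
    (h : ∀ y, ∃ r, ∀ a, (k : V ≃ₗ[F] V) (T a y) = T (A a) r) : Tens T k := by
  obtain ⟨a₀, ha⟩ := hA
  choose R hR using h
  exact ⟨A,
    { toFun := R
      map_add' := fun p q => O.T_injective' ha (by rw [← hR, map_add, map_add, hR, hR, map_add])
      map_smul' := fun s p => O.T_injective' ha (by rw [← hR, map_smul, map_smul, hR, map_smul, RingHom.id_apply]) },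
    fun a y => hR y a⟩

/-- An element mapping an isotropic line to such a line acts by scalars modulo the image line. -/
theorem map_scalar {x : OQ Q} (hx : x ∈ K) {w w' : W} (hw0 : w ≠ 0) (hw : g w w = 0) (hw'0 : w' ≠ 0)
    (hw' : g w' w' = 0) {A : U →ₗ[F] U} (hxw : ∀ a, (x : V ≃ₗ[F] V) (T a w) = T (A a) w')
    {z : W} (hz : g w z = 0) {z' : W} (hz' : g w' z' = 0) :
    ∃ μ : F, ∀ b, O.C z' ((x : V ≃ₗ[F] V) (T (f.leftAdjointOfNondegenerate O.hf.nd A b) z)) = μ • b := by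
  set As := f.leftAdjointOfNondegenerate O.hf.nd A
  have hAs : ∀ a b, f (A a) b = f a (As b) := fun a b => by
    rw [O.hf.symm b (A a), O.hf.symm (As b) a]
    exact (LinearMap.BilinForm.isAdjointPairLeftAdjointOfNondegenerate f O.hf.nd A b a).symm
  have hAsurj : Function.Surjective A := LinearMap.injective_iff_surjective.1 fun p q e =>
    O.T_injective hw0 ((x : V ≃ₗ[F] V).injective (by rw [hxw, hxw, e]))
  revert z'
  refine O.perp_induction hw hw0 (P := fun z => ∀ {z' : W}, g w' z' = 0 →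
    ∃ μ : F, ∀ b, O.C z' ((x : V ≃ₗ[F] V) (T (As b) z)) = μ • b) ?_ ?_ hz
  · intro p q _ _ hp hq z' hz'
    obtain ⟨μ, hμ⟩ := hp hz'
    obtain ⟨μ', hμ'⟩ := hq hz'
    exact ⟨μ - μ', fun b => by rw [map_sub, map_sub, map_sub, hμ, hμ', sub_smul]⟩
  intro z hz hzz z' hz'
  obtain ⟨k, hk, e⟩ := O.siegel hw hz hzz
  set X : U →ₗ[F] V := ((x : V ≃ₗ[F] V) : V →ₗ[F] V) ∘ₗ T.flip z ∘ₗ As
  have hCw : ∀ v, O.C w ((x : V ≃ₗ[F] V).symm v) = As (O.C w' v) := fun v => O.fext fun a => by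
    rw [O.f_C, ← OQ.map_polar x, hxw, LinearEquiv.apply_symm_apply, ← O.f_C, hAs]
  have hX0 : ∀ a, O.C w' (X a) = 0 := fun a => O.fext fun b => by
    obtain ⟨b₀, rfl⟩ := hAsurj b
    rw [map_zero, O.f_C, show X a = (x : V ≃ₗ[F] V) (T (As a) z) from rfl, ← hxw, OQ.map_polar, O.polarT, hz,
      mul_zero]
  have hXadj : ∀ v, O.adjV X v = A (O.C z ((x : V ≃ₗ[F] V).symm v)) := fun v => O.fext fun b => by
    rw [O.f_adjV, show X b = (x : V ≃ₗ[F] V) (T (As b) z) from rfl,
      ← LinearEquiv.apply_symm_apply (x : V ≃ₗ[F] V) v, OQ.map_polar, ← O.f_C, LinearEquiv.symm_apply_apply,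
      O.hf.symm (O.C z _) (As b), ← hAs, O.hf.symm b]
  have hRad : O.Rad w' X := by
    refine ⟨hX0, x * k * x⁻¹, K.mul_mem (K.mul_mem hx hk) (K.inv_mem hx), (-(g z z / 2)) • (A ∘ₗ As), fun v => ?_⟩
    show (x : V ≃ₗ[F] V) ((k : V ≃ₗ[F] V) ((x : V ≃ₗ[F] V).symm v)) = _
    have hk' : ∀ v, (k : V ≃ₗ[F] V) v = v + T (O.C w v) z - T (O.C z v) w - (g z z / 2) • T (O.C w v) w := by
      intro v
      refine LinearMap.congr_fun (O.hom_ext (L := ((k : V ≃ₗ[F] V) : V →ₗ[F] V))
        (L' := LinearMap.id + T.flip z ∘ₗ O.C w - T.flip w ∘ₗ O.C z - (g z z / 2) • (T.flip w ∘ₗ O.C w))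
        fun a y => ?_) v
      simp [e, sv_apply, O.C_T, smul_smul]
    rw [hk', map_sub, map_sub, map_add, map_smul, hxw, hxw, LinearEquiv.apply_symm_apply, hCw, hXadj]
    simp [X]
    module
  exact O.comp_scalar hw'0 hw' hRad hz'

/-- **Two lines.** -/
theorem tens_two_lines {x : OQ Q} (hx : x ∈ K) {w u w' u' : W} (hw : g w w = 0) (huu : g u u = 0) (hwu : g w u = 1)
    (hw' : g w' w' = 0) (hu' : g u' u' = 0) {A : U →ₗ[F] U}
    (hxw : ∀ a, (x : V ≃ₗ[F] V) (T a w) = T (A a) w') (hxu : ∀ a, (x : V ≃ₗ[F] V) (T a u) = T (A a) u') :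
    Tens T x := by
  have := O.nontriv
  obtain ⟨a₀, ha₀⟩ := exists_ne (0 : U)
  have hw0 : w ≠ 0 := fun e => by simp [e] at hwu
  have hw'0 : w' ≠ 0 := fun e => ha₀ (O.T_eq_zero hw0 ((x : V ≃ₗ[F] V).injective (by simp [hxw, e])))
  have hiso : ∀ a b, f (A a) (A b) * g w' u' = f a b := fun a b => by
    rw [← O.polarT, ← hxw, ← hxu, OQ.map_polar, O.polarT, hwu, mul_one]
  set γ := g w' u'
  have hγ : γ ≠ 0 := fun h0 => ha₀ (O.hf.nd.1 a₀ fun b => by rw [← hiso, h0, mul_zero])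
  set As := f.leftAdjointOfNondegenerate O.hf.nd A
  have hAs : ∀ a, γ • As (A a) = a := fun a => O.fext fun b => by
    rw [map_smul, smul_eq_mul, O.hf.symm (As (A a)) b, show f (As (A a)) b = f (A a) (A b) from
      LinearMap.BilinForm.isAdjointPairLeftAdjointOfNondegenerate f O.hf.nd A (A a) b, mul_comm, hiso, O.hf.symm b]
  refine O.tens_of_left ⟨a₀, fun e => ha₀ (by rw [← hAs a₀, e, map_zero, smul_zero])⟩ fun y => ?_
  set z := y - g w y • u - g u y • w
  have hz : g w z = 0 := by simp [z, hw, hwu]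
  have huz : g u z = 0 := by simp [z, huu, O.hg.symm w u, hwu]
  obtain ⟨b₀, hb₀⟩ := exists_ne (0 : U)
  obtain ⟨φ, hφ⟩ : ∃ φ : Module.Dual F U, φ b₀ = 1 := by
    obtain ⟨c, hc⟩ : ∃ c, f c b₀ ≠ 0 := by
      by_contra! hc
      exact hb₀ (O.hf.nd.2 b₀ hc)
    exact ⟨(f c b₀)⁻¹ • f c, by simp [hc]⟩
  have hcomp : ∀ z', ∀ b, O.C z' ((x : V ≃ₗ[F] V) (T (As b) z)) =
      φ (O.C z' ((x : V ≃ₗ[F] V) (T (As b₀) z))) • b := by
    intro z' b
    set z'' := z' - (g w' z' / γ) • u'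
    obtain ⟨μ, hμ⟩ := O.map_scalar hx hw0 hw hw'0 hw' hxw hz (z' := z'') (by simp [z'', γ, hγ])
    have hCu : ∀ b, O.C u' ((x : V ≃ₗ[F] V) (T (As b) z)) = 0 := fun b => O.fext fun a => by
      obtain ⟨a', ha'⟩ := LinearMap.injective_iff_surjective.1 (fun p q e => by rw [← hAs p, ← hAs q, e]) a
      rw [map_zero, O.f_C, ← ha', ← hxu, OQ.map_polar, O.polarT, huz, mul_zero]
    have e1 : ∀ b, O.C z' ((x : V ≃ₗ[F] V) (T (As b) z)) = μ • b := fun b => by
      rw [show z' = z'' + (g w' z' / γ) • u' by simp [z''], map_add, map_smul, LinearMap.add_apply,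
        LinearMap.smul_apply, hμ, hCu, smul_zero, add_zero]
    rw [e1, e1, map_smul, hφ, smul_eq_mul, mul_one]
  obtain ⟨ζ, hζ⟩ := O.exists_left_dual
    (φ ∘ₗ O.C.flip ((x : V ≃ₗ[F] V) (T (As b₀) z)))
  have hz2 : ∀ a, (x : V ≃ₗ[F] V) (T a z) = T (A a) (γ • ζ) := fun a => by
    conv_lhs => rw [← hAs a, map_smul, LinearMap.smul_apply, map_smul]
    rw [map_smul (T (A a))]
    congr 1
    refine O.V_ext fun z' => ?_
    rw [hcomp, O.C_T, O.hg.symm ζ z', hζ]
    rfl
  refine ⟨γ • ζ + g w y • u' + g u y • w', fun a => ?_⟩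
  conv_lhs => rw [show y = z + g w y • u + g u y • w by simp only [z]; module]
  simp only [map_add, map_smul, hz2, hxw, hxu]

/-- An element fixing a line pointwise and its orthogonal modulo the line is a radical element. -/
theorem rad_of_fix {s : OQ Q} (hs : s ∈ K) {w u : W} (hw : g w w = 0) (hwu : g w u = 1)
    (h1 : ∀ a, (s : V ≃ₗ[F] V) (T a w) = T a w) {θ : W → U →ₗ[F] U}
    (h2 : ∀ z, g w z = 0 → ∀ b, (s : V ≃ₗ[F] V) (T b z) = T b z + T (θ z b) w) :
    ∀ z, g w z = 0 → ∃ μ : F, ∀ b, θ z b = μ • b := by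
  have hw0 : w ≠ 0 := fun e => by simp [e] at hwu
  set X : U →ₗ[F] V := ((s : V ≃ₗ[F] V) : V →ₗ[F] V) ∘ₗ T.flip u - T.flip u
  have hXa : ∀ a, X a = (s : V ≃ₗ[F] V) (T a u) - T a u := fun a => rfl
  have hCs : ∀ a b, f b (O.C w ((s : V ≃ₗ[F] V) (T a u))) = f b a := fun a b => by
    rw [O.f_C, ← h1 b, OQ.map_polar, O.polarT, hwu, mul_one]
  have hX0 : ∀ a, O.C w (X a) = 0 := fun a => O.fext fun b => by
    rw [hXa, map_sub, map_sub, hCs, O.C_T, hwu, one_smul, sub_self, map_zero]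
  have hadj : ∀ z, g w z = 0 → ∀ b, O.adjV X (T b z) = -θ z b := fun z hz b => O.fext fun a => by
    have h3 : polar Q ((s : V ≃ₗ[F] V) (T a u)) ((s : V ≃ₗ[F] V) (T b z)) = f a b * g u z := by
      rw [OQ.map_polar, O.polarT]
    rw [h2 z hz, polar_add_right', QuadraticMap.polar_comm _ _ (T (θ z b) w), ← O.f_C, hCs, O.hf.symm a (θ z b)]
      at h3
    rw [O.f_adjV, hXa, sub_eq_add_neg, polar_add_left', QuadraticMap.polar_neg_left, O.polarT, map_neg]
    linear_combination h3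
  have hR : O.Rad w X := by
    refine ⟨hX0, s, hs, O.adjV X ∘ₗ T.flip u, fun v => ?_⟩
    refine LinearMap.congr_fun (O.hom_ext (L := ((s : V ≃ₗ[F] V) : V →ₗ[F] V))
      (L' := LinearMap.id + X ∘ₗ O.C w - T.flip w ∘ₗ O.adjV X + T.flip w ∘ₗ (O.adjV X ∘ₗ T.flip u) ∘ₗ O.C w)
      fun a y => ?_) v
    set z := y - g w y • u
    have hz : g w z = 0 := by simp [z, hwu]
    rw [show y = z + g w y • u by simp [z]]
    simp [h2 z hz, hadj z hz, O.C_T, hz, hwu, hXa, smul_sub]
    abel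
  intro z hz
  obtain ⟨μ, hμ⟩ := O.comp_scalar (fun e => hw0 e) hw hR hz
  refine ⟨-μ, fun b => O.fext fun a => ?_⟩
  have h3 := congrArg (f a) (hadj z hz b)
  rw [O.f_adjV, QuadraticMap.polar_comm, ← O.f_C, hμ, map_smul, map_neg, smul_eq_mul, O.hf.symm a b] at h3
  rw [map_smul, smul_eq_mul]
  linear_combination h3

/-- **One line fixed up to sign.** -/
theorem tens_fixed_line {x : OQ Q} (hx : x ∈ K) {w : W} (hw0 : w ≠ 0) (hw : g w w = 0) {ε : F} (hε : ε * ε = 1)
    (hxw : ∀ a, (x : V ≃ₗ[F] V) (T a w) = ε • T a w) : Tens T x := by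
  classical
  have := O.nontriv
  obtain ⟨u, huu, hwu, -⟩ := O.exists_aniso_orth hw hw0
  have hsq : ∀ v : V, ε • ε • v = v := fun v => by rw [smul_smul, hε, one_smul]
  have hxsymm : ∀ a, (x : V ≃ₗ[F] V).symm (T a w) = ε • T a w := fun a => by
    rw [LinearEquiv.symm_apply_eq, map_smul, hxw, hsq]
  have hεx : ∀ a, (x : V ≃ₗ[F] V) (T a w) = T ((ε • LinearMap.id : U →ₗ[F] U) a) w := fun a => by
    rw [hxw, LinearMap.smul_apply, LinearMap.id_apply, map_smul, LinearMap.smul_apply]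
  -- the action modulo the line
  have hmod : ∀ z, g w z = 0 → ∃ ζ : W, g w ζ = 0 ∧ ∃ κ : U →ₗ[F] U, ∀ b,
      ε • (x : V ≃ₗ[F] V) (T b z) = T b ζ + T (κ b) w := by
    intro z hz
    set As := f.leftAdjointOfNondegenerate O.hf.nd (ε • LinearMap.id)
    have hAs : ∀ b, As b = ε • b := fun b => O.fext fun a => by
      rw [O.hf.symm (As b) a, show f (As b) a = f b ((ε • LinearMap.id : U →ₗ[F] U) a) from
        LinearMap.BilinForm.isAdjointPairLeftAdjointOfNondegenerate f O.hf.nd _ b a]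
      simp [O.hf.symm a b]
    have hC : ∀ z', g w z' = 0 → ∃ μ : F, ∀ b, ε • O.C z' ((x : V ≃ₗ[F] V) (T b z)) = μ • b := fun z' hz' => by
      obtain ⟨μ, hμ⟩ := O.map_scalar hx hw0 hw hw0 hw hεx hz hz'
      refine ⟨μ, fun b => ?_⟩
      rw [← hμ b]
      show _ = O.C z' ((x : V ≃ₗ[F] V) (T (As b) z))
      rw [hAs, map_smul, LinearMap.smul_apply, map_smul, map_smul]
    obtain ⟨b₀, hb₀⟩ := exists_ne (0 : U)
    obtain ⟨φ, hφ⟩ : ∃ φ : Module.Dual F U, φ b₀ = 1 := by
      obtain ⟨c, hc⟩ : ∃ c, f c b₀ ≠ 0 := by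
        by_contra! hc
        exact hb₀ (O.hf.nd.2 b₀ hc)
      exact ⟨(f c b₀)⁻¹ • f c, by simp [hc]⟩
    set pr : W →ₗ[F] W := LinearMap.id - (g w).smulRight u
    set κ : U →ₗ[F] U := ε • (O.C u ∘ₗ ((x : V ≃ₗ[F] V) : V →ₗ[F] V) ∘ₗ T.flip z)
    obtain ⟨ζ, hζ⟩ := O.exists_left_dual (ε • (φ ∘ₗ O.C.flip ((x : V ≃ₗ[F] V) (T b₀ z)) ∘ₗ pr))
    have hprw : pr w = w := by simp [pr, hw]
    have hcw : ∀ b, O.C w ((x : V ≃ₗ[F] V) (T b z)) = 0 := fun b => O.fext fun a => by
      have h1 := OQ.map_polar x (T a w) (T b z)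
      rw [hxw, polar_smul_left', ← O.f_C, O.polarT, hz, mul_zero, mul_eq_zero] at h1
      rw [map_zero]
      exact h1.resolve_left fun h0 => by simp [h0] at hε
    have hwζ : g w ζ = 0 := by
      rw [O.hg.symm, hζ]
      simp [hprw, hcw]
    refine ⟨ζ, hwζ, κ, fun b => ?_⟩
    refine O.V_ext fun z' => ?_
    obtain ⟨μ, hμ⟩ := hC (pr z') (by simp [pr, hwu])
    have hζz : g z' ζ = μ := by
      rw [O.hg.symm ζ z', hζ]
      simp only [LinearMap.smul_apply, LinearMap.comp_apply, LinearMap.flip_apply]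
      rw [← map_smul, hμ b₀, map_smul, hφ, smul_eq_mul, mul_one]
    rw [map_smul, map_add, O.C_T, O.C_T, hζz, ← hμ b, O.hg.symm w z']
    conv_lhs => rw [show z' = pr z' + g w z' • u by simp [pr]]
    simp only [map_add, map_smul, LinearMap.add_apply, LinearMap.smul_apply, smul_add, κ, LinearMap.comp_apply,
      LinearEquiv.coe_coe, LinearMap.flip_apply]
    module
  choose! ζ hζw κ hκ using hmod
  -- the line coefficients are scalars
  have hκs : ∀ z, g w z = 0 → ∃ μ : F, κ z = μ • LinearMap.id := fun z hz => O.scalar_of_shift fun A A' hU => by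
    obtain ⟨h1, h2, -, k, hk, ek⟩ := hU
    have ek' : ∀ a y, (k : V ≃ₗ[F] V).symm (T a y) = T (A' a) y := fun a y => by
      rw [LinearEquiv.symm_apply_eq, ek, h2]
    set s : OQ Q := x⁻¹ * k * x * k⁻¹
    have hs : ∀ v, (s : V ≃ₗ[F] V) v =
        (x : V ≃ₗ[F] V).symm ((k : V ≃ₗ[F] V) ((x : V ≃ₗ[F] V) ((k : V ≃ₗ[F] V).symm v))) := fun _ => rfl
    obtain ⟨μ, hμ⟩ := O.rad_of_fix (s := s) (θ := fun z => A ∘ₗ κ z ∘ₗ A' - κ z)
      (K.mul_mem (K.mul_mem (K.mul_mem (K.inv_mem hx) hk) hx) (K.inv_mem hk)) hw hwu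
      (fun a => by rw [hs, ek', hxw, map_smul, ek, h2, map_smul, hxsymm, hsq])
      (fun z hz b => by
        have e0 : ∀ b, (x : V ≃ₗ[F] V) (T b z) = ε • (T b (ζ z) + T (κ z b) w) := fun b => by
          rw [← hκ z hz b, hsq]
        rw [hs, ek', e0, map_smul, map_add, ek, ek, h2,
          show T b (ζ z) = ε • (x : V ≃ₗ[F] V) (T b z) - T (κ z b) w by rw [hκ z hz b, add_sub_cancel_right],
          map_smul, map_add, map_sub, map_smul, LinearEquiv.symm_apply_apply, hxsymm, hxsymm]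
        simp only [smul_add, smul_sub, hsq, LinearMap.sub_apply, LinearMap.comp_apply, map_sub]
        abel) z hz
    exact ⟨μ, fun a => sub_eq_iff_eq_add'.1 (hμ a)⟩
  choose! μ hμ using hκs
  have hperp : ∀ z, g w z = 0 → ∀ b, (x : V ≃ₗ[F] V) (T b z) = T b (ε • (ζ z + μ z • w)) := fun z hz b => by
    rw [map_smul, map_add, map_smul, ← hsq ((x : V ≃ₗ[F] V) (T b z)), hκ z hz, hμ z hz]
    simp
  -- the map on the orthogonal
  set Wp := LinearMap.ker (g w)
  obtain ⟨a₀, ha₀⟩ := exists_ne (0 : U)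
  let B : Wp →ₗ[F] Wp :=
    { toFun := fun z => ⟨ε • (ζ (z : W) + μ (z : W) • w), LinearMap.mem_ker.2 (by simp [hζw _ z.2, hw])⟩
      map_add' := fun p q => Subtype.ext (O.T_injective' ha₀ (by
        simp only [Submodule.coe_add, map_add]
        rw [← hperp _ (by rw [map_add]; simp [LinearMap.mem_ker.1 p.2, LinearMap.mem_ker.1 q.2]),
          ← hperp _ p.2, ← hperp _ q.2, map_add, map_add]))
      map_smul' := fun c p => Subtype.ext (O.T_injective' ha₀ (by
        simp only [Submodule.coe_smul, RingHom.id_apply]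
        rw [map_smul (T a₀) c, ← hperp _ (by simp [LinearMap.mem_ker.1 p.2]), ← hperp _ p.2, map_smul, map_smul])) }
  have hBsurj : Function.Surjective B := LinearMap.injective_iff_surjective.1
    ((injective_iff_map_eq_zero B).2 fun p hp => Subtype.ext (O.T_eq_zero' ha₀ ((x : V ≃ₗ[F] V).injective (by
      rw [hperp _ p.2, show ε • (ζ (p : W) + μ (p : W) • w) = 0 from congrArg Subtype.val hp, map_zero, map_zero]))))
  -- the partner line
  set L : U →ₗ[F] V := ((x : V ≃ₗ[F] V) : V →ₗ[F] V) ∘ₗ T.flip u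
  have hL : ∀ a, L a = (x : V ≃ₗ[F] V) (T a u) := fun a => rfl
  have hLw : ∀ a, O.C w (L a) = ε • a := fun a => O.fext fun b => by
    have h1 := OQ.map_polar x (T b w) (T a u)
    rw [hxw, polar_smul_left', ← O.f_C, O.polarT, hwu, mul_one] at h1
    rw [map_smul, smul_eq_mul, ← h1, ← mul_assoc, hε, one_mul]
    rfl
  have hLp : ∀ z', g w z' = 0 → ∃ σ : F, ∀ a, O.C z' (L a) = σ • a := fun z' hz' => by
    obtain ⟨⟨z, hz⟩, hzB⟩ := hBsurj ⟨z', LinearMap.mem_ker.2 hz'⟩
    have e : ε • (ζ z + μ z • w) = z' := congrArg Subtype.val hzB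
    refine ⟨g z u, fun a => O.fext fun b => ?_⟩
    rw [O.f_C, ← e, ← hperp z hz, hL, OQ.map_polar, O.polarT, map_smul, smul_eq_mul, mul_comm]
  set pr : W →ₗ[F] W := LinearMap.id - (g w).smulRight u
  obtain ⟨φ, hφ⟩ : ∃ φ : Module.Dual F U, φ a₀ = 1 := by
    obtain ⟨c, hc⟩ : ∃ c, f c a₀ ≠ 0 := by
      by_contra! hc
      exact ha₀ (O.hf.nd.2 a₀ hc)
    exact ⟨(f c a₀)⁻¹ • f c, by simp [hc]⟩
  obtain ⟨ζ₁, hζ₁⟩ := O.exists_left_dual (φ ∘ₗ O.C.flip (L a₀) ∘ₗ pr)
  set Φ : U →ₗ[F] U := O.C u ∘ₗ L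
  have hu' : ∀ a, (x : V ≃ₗ[F] V) (T a u) = T a ζ₁ + T (Φ a) w := fun a => O.V_ext fun z' => by
    obtain ⟨σ, hσ⟩ := hLp (pr z') (by simp [pr, hwu])
    have h1 : g z' ζ₁ = σ := by
      rw [O.hg.symm ζ₁ z', hζ₁, LinearMap.comp_apply, LinearMap.comp_apply, LinearMap.flip_apply, hσ, map_smul, hφ,
        smul_eq_mul, mul_one]
    rw [← hL, map_add, O.C_T, O.C_T, h1, O.hg.symm w z', ← hσ]
    conv_lhs => rw [show z' = pr z' + g w z' • u by simp [pr]]
    simp [Φ]
  have hwζ₁ : g w ζ₁ = ε := by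
    rw [O.hg.symm, hζ₁]
    simp [pr, hw, hLw, hφ]
  -- the partner coefficient commutes with the isometries
  have hΦ : ∃ ν : F, Φ = ν • LinearMap.id := O.scalar_of_shift fun A A' hU => by
    obtain ⟨h1, h2, -, k, hk, ek⟩ := hU
    have ek' : ∀ a y, (k : V ≃ₗ[F] V).symm (T a y) = T (A' a) y := fun a y => by
      rw [LinearEquiv.symm_apply_eq, ek, h2]
    set s : OQ Q := x⁻¹ * k * x * k⁻¹
    have hs : ∀ v, (s : V ≃ₗ[F] V) v =
        (x : V ≃ₗ[F] V).symm ((k : V ≃ₗ[F] V) ((x : V ≃ₗ[F] V) ((k : V ≃ₗ[F] V).symm v))) := fun _ => rfl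
    have hs2 : ∀ z, g w z = 0 → ∀ a, (s : V ≃ₗ[F] V) (T a z) = T a z := fun z hz a => by
      rw [hs, ek', hperp z hz, ek, h2, LinearEquiv.symm_apply_eq, hperp z hz]
    have hsu : ∀ a, (s : V ≃ₗ[F] V) (T a u) = T a u + ε • T (A (Φ (A' a)) - Φ a) w := fun a => by
      rw [hs, ek', hu', map_add, ek, ek, h2, LinearEquiv.symm_apply_eq, map_add, hu', map_smul, hxw, hsq]
      simp only [map_sub, LinearMap.sub_apply]
      abel
    have h3 := O.nc s (K.mul_mem (K.mul_mem (K.mul_mem (K.inv_mem hx) hk) hx) (K.inv_mem hk)) w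
      (ε • (A ∘ₗ Φ ∘ₗ A' - Φ)) hw0 hw (fun a y => by
        set z := y - g w y • u
        have hz : g w z = 0 := by simp [z, hwu]
        conv_lhs => rw [show y = z + g w y • u by simp [z]]
        simp only [map_add, map_smul, hs2 z hz, hsu]
        simp [z, smul_add]
        module)
    refine ⟨0, fun a => ?_⟩
    have h4 := LinearMap.congr_fun h3 a
    simp only [LinearMap.smul_apply, LinearMap.sub_apply, LinearMap.comp_apply, LinearMap.zero_apply,
      smul_eq_zero, sub_eq_zero] at h4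
    rcases h4 with h4 | h4
    · simp [h4] at hε
    · rw [h4]; simp
  obtain ⟨ν, hν⟩ := hΦ
  refine O.tens_of_left (A := LinearMap.id) ⟨a₀, ha₀⟩ fun y => ?_
  set z := y - g w y • u
  have hz : g w z = 0 := by simp [z, hwu]
  refine ⟨ε • (ζ z + μ z • w) + g w y • (ζ₁ + ν • w), fun a => ?_⟩
  conv_lhs => rw [show y = z + g w y • u by simp [z]]
  simp only [map_add, map_smul, hperp z hz, hu', hν, LinearMap.smul_apply, LinearMap.id_apply]

end Over

end CfsgLib.Geo.OrthTensor
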