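/-
An element conjugating Siegel maps into products is a product.
-/
import Cfsg.Agent.Lib.Geo.OrthTensor.Line

set_option autoImplicit false
set_option linter.unusedSectionVars false

namespace CfsgLib.Geo.OrthTensor

open CfsgLib.Classical CfsgLib.Classical.Quad Module
open CfsgLib.Geo.MixTensor (SymForm refl)
open QuadraticMap (polar polarBilin)
open LinearMap (BilinForm)

variable {F : Type*} [Field F] [Finite F] {U W V : Type*} [AddCommGroup U] [Module F U] [FiniteDimensional F U]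
  [AddCommGroup W] [Module F W] [FiniteDimensional F W] [AddCommGroup V] [Module F V] [FiniteDimensional F V]
  {Q : QuadraticForm F V} {f : BilinForm F U} {g : BilinForm F W} {T : U →ₗ[F] W →ₗ[F] V}
  {K : Subgroup (OQ Q)}

omit [Finite F] in
/-- The determinant of a similitude. -/
theorem det_sq_of_sim {h : BilinForm F U} (hh : h.Nondegenerate) {A : U →ₗ[F] U} {l : F}
    (hA : ∀ x y, h (A x) (A y) = l * h x y) : LinearMap.det A * LinearMap.det A = l ^ finrank F U := by
  classical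
  let b := Module.finBasis F U
  have h1 : (LinearMap.toMatrix b b A).transpose * LinearMap.BilinForm.toMatrix b h * LinearMap.toMatrix b b A =
      l • LinearMap.BilinForm.toMatrix b h := by
    rw [← LinearMap.BilinForm.toMatrix_comp b b h A A, ← map_smul]
    congr 1
    exact LinearMap.ext fun x => LinearMap.ext fun y => by simp [LinearMap.BilinForm.comp_apply, hA]
  have h2 := congrArg Matrix.det h1
  rw [Matrix.det_mul, Matrix.det_mul, Matrix.det_transpose, Matrix.det_smul, Fintype.card_fin,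
    LinearMap.det_toMatrix] at h2
  exact mul_right_cancel₀ ((LinearMap.BilinForm.nondegenerate_iff_det_ne_zero b).1 hh) (by linear_combination h2)

omit [Finite F] in
/-- A similitude of an odd dimensional space has square multiplier. -/
theorem isSquare_of_sim {h : BilinForm F U} (hh : h.Nondegenerate) {A : U →ₗ[F] U} {l : F} (hl : l ≠ 0)
    (hA : ∀ x y, h (A x) (A y) = l * h x y) (ho : Odd (finrank F U)) : IsSquare l := by
  obtain ⟨m, hm⟩ := ho
  refine ⟨LinearMap.det A / l ^ m, ?_⟩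
  have h1 := det_sq_of_sim hh hA
  rw [hm] at h1
  field_simp
  linear_combination -h1

namespace Over

variable (O : Over Q f g T K)
include O

/-- A product is a product of isometries. -/
theorem normal_form {k : OQ Q} (h : Tens T k) : ∃ (A : U →ₗ[F] U) (B : W →ₗ[F] W),
    (∀ a b, f (A a) (A b) = f a b) ∧ (∀ y z, g (B y) (B z) = g y z) ∧
      ∀ a y, (k : V ≃ₗ[F] V) (T a y) = T (A a) (B y) := by
  obtain ⟨A, B, e⟩ := h
  have hAB : ∀ a b y z, f (A a) (A b) * g (B y) (B z) = f a b * g y z := fun a b y z => by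
    rw [← O.polarT, ← e, ← e, OQ.map_polar, O.polarT]
  have := O.nontriv
  have := O.nontrivW
  obtain ⟨a₀, ha₀⟩ := O.hf.exists_aniso
  obtain ⟨y₀, hy₀⟩ := O.hg.exists_aniso
  have h0 := hAB a₀ a₀ y₀ y₀
  set l := g y₀ y₀ / g (B y₀) (B y₀)
  have hB0 : g (B y₀) (B y₀) ≠ 0 := fun e0 => mul_ne_zero ha₀ hy₀ (by rw [← h0, e0, mul_zero])
  have hl : l ≠ 0 := div_ne_zero hy₀ hB0
  have hA : ∀ a b, f (A a) (A b) = l * f a b := fun a b => by
    have := hAB a b y₀ y₀
    simp only [l]
    field_simp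
    linear_combination this
  have hB : ∀ y z, g (B y) (B z) = l⁻¹ * g y z := fun y z => mul_left_cancel₀ (mul_ne_zero hl ha₀) (by
    have := hAB a₀ a₀ y z
    rw [hA] at this
    rw [this]
    field_simp)
  obtain ⟨r, hr⟩ : IsSquare l := by
    rcases O.odd with ho | ho
    · exact isSquare_of_sim O.hf.nd hl hA ho
    · simpa using (isSquare_of_sim O.hg.nd (inv_ne_zero hl) hB ho).inv
  have hr0 : r ≠ 0 := fun e0 => hl (by rw [hr, e0, mul_zero])
  refine ⟨r⁻¹ • A, r • B, fun a b => ?_, fun y z => ?_, fun a y => ?_⟩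
  · simp only [LinearMap.smul_apply, map_smul, hA, smul_eq_mul, hr]
    field_simp
  · simp only [LinearMap.smul_apply, map_smul, hB, smul_eq_mul, hr]
    field_simp
  · simp [e, hr0, smul_smul]

/-- A product of finite order in each factor. -/
theorem pow_form {k : OQ Q} {A : U →ₗ[F] U} {B : W →ₗ[F] W} (hA : ∀ a b, f (A a) (A b) = f a b)
    (e : ∀ a y, (k : V ≃ₗ[F] V) (T a y) = T (A a) (B y)) {n : ℕ} (hk : k ^ n = 1) :
    ∃ c : F, c * c = 1 ∧ (∀ a, (A ^ n : Module.End F U) a = c • a) ∧ ∀ y, (B ^ n : Module.End F W) y = c • y := by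
  have hn : ∀ n : ℕ, ∀ a y, ((k ^ n : OQ Q) : V ≃ₗ[F] V) (T a y) =
      T ((A ^ n : Module.End F U) a) ((B ^ n : Module.End F W) y) := by
    intro n
    induction n with
    | zero => intro a y; simp
    | succ n ih =>
      intro a y
      rw [pow_succ', pow_succ', pow_succ']
      show (k : V ≃ₗ[F] V) (((k ^ n : OQ Q) : V ≃ₗ[F] V) (T a y)) = _
      rw [ih, e]
      rfl
  have hiso : ∀ n : ℕ, ∀ a b, f ((A ^ n : Module.End F U) a) ((A ^ n : Module.End F U) b) = f a b := by
    intro n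
    induction n with
    | zero => intro a b; simp
    | succ n ih => intro a b; rw [pow_succ', Module.End.mul_apply, Module.End.mul_apply, hA, ih]
  have h1 : ∀ a y, T ((A ^ n : Module.End F U) a) ((B ^ n : Module.End F W) y) = T a y := fun a y => by
    rw [← hn, hk]; rfl
  have := O.nontriv
  have := O.nontrivW
  obtain ⟨a₀, ha₀⟩ := O.hf.exists_aniso
  obtain ⟨y₀, hy₀⟩ := exists_ne (0 : W)
  set R : Module.End F W := B ^ n
  set L : Module.End F U := A ^ n
  have hR0 : R y₀ ≠ 0 := fun e0 => hy₀ (O.T_eq_zero' (a := a₀) (fun h => ha₀ (by simp [h]))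
    (by rw [← h1 a₀ y₀, e0, map_zero]))
  obtain ⟨z, hz⟩ := O.exists_partner hR0
  have hL : ∀ a, L a = g z y₀ • a := fun a => by
    have h2 := congrArg (O.C z) (h1 a y₀)
    rwa [O.C_T, O.C_T, hz, one_smul] at h2
  have hc : g z y₀ * g z y₀ = 1 := by
    have h2 := hiso n a₀ a₀
    rw [show (A ^ n : Module.End F U) a₀ = g z y₀ • a₀ from hL a₀, map_smul, map_smul, LinearMap.smul_apply,
      smul_eq_mul, smul_eq_mul, ← mul_assoc] at h2
    exact mul_eq_right₀ ha₀ |>.1 h2
  refine ⟨g z y₀, hc, hL, fun y => ?_⟩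
  have h2 := h1 a₀ y
  rw [hL, map_smul, LinearMap.smul_apply, ← map_smul] at h2
  have h3 := O.T_injective' (fun h => ha₀ (by simp [h])) h2
  conv_rhs => rw [← h3]
  rw [smul_smul, hc, one_smul]

/-- An involutive product. -/
theorem invol_form {k : OQ Q} (h : Tens T k) (hk : k * k = 1) : ∃ (A : U →ₗ[F] U) (B : W →ₗ[F] W),
    (∀ a b, f (A a) (A b) = f a b) ∧ (∀ y z, g (B y) (B z) = g y z) ∧ (∀ a, A (A a) = a) ∧ (∀ y, B (B y) = y) ∧
      ∀ a y, (k : V ≃ₗ[F] V) (T a y) = T (A a) (B y) := by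
  obtain ⟨A, B, hA, hB, e⟩ := O.normal_form h
  obtain ⟨c, hc, hAc, hBc⟩ := O.pow_form hA e (n := 2) (by rw [pow_two, hk])
  have hAc' : ∀ a, A (A a) = c • a := fun a => by simpa [pow_two] using hAc a
  have hBc' : ∀ y, B (B y) = c • y := fun y => by simpa [pow_two] using hBc y
  rcases mul_self_eq_one_iff.1 hc with rfl | rfl
  · exact ⟨A, B, hA, hB, fun a => by simpa using hAc' a, fun y => by simpa using hBc' y, e⟩
  exfalso
  have h1 : LinearMap.det A * LinearMap.det A = 1 := by
    simpa using det_sq_of_sim (l := (1 : F)) O.hf.nd fun x y => by rw [hA, one_mul]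
  have h1' : LinearMap.det B * LinearMap.det B = 1 := by
    simpa using det_sq_of_sim (l := (1 : F)) O.hg.nd fun x y => by rw [hB, one_mul]
  have h2 : LinearMap.det A * LinearMap.det A = (-1 : F) ^ finrank F U := by
    rw [← LinearMap.det_comp, show A ∘ₗ A = (-1 : F) • LinearMap.id from LinearMap.ext fun a => by simp [hAc'],
      LinearMap.det_smul, LinearMap.det_id, mul_one]
  have h2' : LinearMap.det B * LinearMap.det B = (-1 : F) ^ finrank F W := by
    rw [← LinearMap.det_comp, show B ∘ₗ B = (-1 : F) • LinearMap.id from LinearMap.ext fun a => by simp [hBc'],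
      LinearMap.det_smul, LinearMap.det_id, mul_one]
  refine O.two ?_
  rcases O.odd with ho | ho
  · rw [h1, ho.neg_one_pow] at h2; linear_combination h2
  · rw [h1', ho.neg_one_pow] at h2'; linear_combination h2'

theorem sv_sub {w z : W} (hw : g w w = 0) (h : g w z = 0) (y : W) :
    sv g w z (sv g w z y) - sv g w z y - (sv g w z y - y) = (-(g z z * g w y)) • w := by
  have := O.two
  simp only [sv_apply, map_add, map_sub, map_smul, smul_eq_mul, hw, h, O.hg.symm w z, mul_zero, add_zero, sub_zero]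
  match_scalars <;> field_simp <;> ring

/-- A product conjugate to a Siegel map has a trivial first factor. -/
theorem factor_of_siegel {x σ s : OQ Q} {w z : W} (hw : g w w = 0) (h : g w z = 0)
    (eσ : ∀ a y, (σ : V ≃ₗ[F] V) (T a y) = T a (sv g w z y)) (hs : s = x * σ * x⁻¹) (hT : Tens T s) :
    ∃ B : W →ₗ[F] W, ∀ a y, (s : V ≃ₗ[F] V) (T a y) = T a (B y) := by
  classical
  obtain ⟨A₀, B₀, hA₀, hB₀, e₀⟩ := O.normal_form hT
  have hfin := finite_OQ Q
  -- the exponent
  have hchar : ringChar F ≠ 2 := fun e => O.two (by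
    have := ringChar.eq_iff.1 e
    exact CharTwo.two_eq_zero)
  set p := ringChar F
  have hp : p.Prime := CharP.char_is_prime F p
  have : Fact p.Prime := ⟨hp⟩
  have hp3 : 3 ≤ p := by have := hp.two_le; omega
  set S : Module.End F V := ((σ : V ≃ₗ[F] V) : V →ₗ[F] V)
  have hS3 : (S - 1) ^ 3 = 0 := by
    refine O.hom_ext fun a y => ?_
    have h2 : ∀ a y, (S - 1) (T a y) = T a (sv g w z y - y) := fun a y => by
      rw [map_sub]; exact congrArg (· - T a y) (eσ a y)
    rw [pow_succ', pow_two, Module.End.mul_apply, Module.End.mul_apply, h2, h2, h2, map_sub (sv g w z), O.sv_sub hw h,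
      LinearMap.zero_apply, map_smul]
    simp [sv_apply, hw, h]
  have : CharP (Module.End F V) p := by
    have : Nontrivial (Module.End F V) := by
      have : Nontrivial V := Module.nontrivial_of_finrank_pos (R := F) (by have := O.five_V; omega)
      infer_instance
    exact charP_of_injective_algebraMap (algebraMap F (Module.End F V)).injective p
  have hSp : S ^ p = 1 := by
    have h2 := sub_pow_char_of_commute (p := p) (x := S) (y := 1) (Commute.one_right S)
    rw [one_pow, pow_eq_zero_of_le hp3 hS3] at h2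
    exact sub_eq_zero.1 h2.symm
  have hσp : σ ^ p = 1 := by
    have hn : ∀ n : ℕ, ∀ v, ((σ ^ n : OQ Q) : V ≃ₗ[F] V) v = (S ^ n) v := by
      intro n
      induction n with
      | zero => intro v; simp
      | succ n ih =>
        intro v
        rw [pow_succ', pow_succ', Module.End.mul_apply, ← ih]
        rfl
    exact Subtype.ext (LinearEquiv.ext fun v => by rw [hn, hSp]; rfl)
  have hsp : s ^ p = 1 := by rw [hs, conj_pow, hσp, mul_one, mul_inv_cancel]
  obtain ⟨c, hc, hAc, hBc⟩ := O.pow_form hA₀ e₀ hsp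
  obtain ⟨m, hm⟩ := hp.odd_of_ne_two hchar
  have hcp : c ^ p * c = 1 := by
    rw [← pow_succ, hm, show 2 * m + 1 + 1 = 2 * (m + 1) by ring, pow_mul, pow_two, hc, one_pow]
  set A : Module.End F U := c • A₀
  set B : Module.End F W := c • B₀
  have e : ∀ a y, (s : V ≃ₗ[F] V) (T a y) = T (A a) (B y) := fun a y => by
    simp [A, B, e₀, smul_smul, hc]
  have hA : ∀ a b, f (A a) (A b) = f a b := fun a b => by
    simp [A, hA₀, ← mul_assoc, hc]
  have hAp : A ^ p = 1 := LinearMap.ext fun a => by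
    rw [smul_pow, LinearMap.smul_apply, hAc, smul_smul, hcp, one_smul]; rfl
  have hBp : B ^ p = 1 := LinearMap.ext fun y => by
    rw [smul_pow, LinearMap.smul_apply, hBc, smul_smul, hcp, one_smul]; rfl
  suffices hA1 : ∀ a, A a = a from ⟨B, fun a y => by rw [e, hA1]⟩
  by_contra! hne
  obtain ⟨x₀, hx₀⟩ := hne
  have := O.nontriv
  have := O.nontrivW
  set N : U →ₗ[F] U := A - 1
  have hN : ∀ a, N a = A a - a := fun a => rfl
  have hAu : ∀ v, A v = v → ∀ a, f v (N a) = 0 := fun v hv a => by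
    have h1 := hA v a
    rw [hv] at h1
    rw [hN, map_sub, h1, sub_self]
  -- rank at least two
  obtain ⟨c₁, c₂, hc12⟩ : ∃ c₁ c₂, ∀ α β : F, α • N c₁ + β • N c₂ = 0 → α = 0 ∧ β = 0 := by
    have hNx : N x₀ ≠ 0 := sub_ne_zero.2 hx₀
    suffices ∃ c₂, N c₂ ∉ Submodule.span F {N x₀} by
      obtain ⟨c₂, hc₂⟩ := this
      refine ⟨x₀, c₂, fun α β h0 => ?_⟩
      by_cases hβ : β = 0
      · subst hβ
        rw [zero_smul, add_zero, smul_eq_zero] at h0
        exact ⟨h0.resolve_right hNx, rfl⟩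
      · refine absurd (Submodule.mem_span_singleton.2 ⟨-(β⁻¹ * α), ?_⟩) hc₂
        have h1 := congrArg (fun v => β⁻¹ • v) h0
        simp only [smul_add, smul_smul, inv_mul_cancel₀ hβ, one_smul, smul_zero] at h1
        linear_combination (norm := module) -h1
    by_contra! hall
    set v := N x₀
    choose φ hφ using fun a => Submodule.mem_span_singleton.1 (hall a)
    have hAv : A v = v := by
      have h1 : ∀ n : ℕ, (A ^ n : Module.End F U) v = ((1 + φ v) ^ n) • v := by
        intro n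
        induction n with
        | zero => simp
        | succ n ih =>
          rw [pow_succ', Module.End.mul_apply, ih, map_smul,
            show A v = (1 + φ v) • v by
              rw [add_smul, one_smul, hφ v, hN]; abel, smul_smul, pow_succ]
      have h2 := h1 p
      rw [hAp, Module.End.one_apply] at h2
      have h3 : (1 + φ v) ^ p = 1 := by
        by_contra hne'
        exact hne' (smul_left_injective F hNx (h2.symm.trans (one_smul F v).symm))
      rw [add_pow_char, one_pow, add_eq_left] at h3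
      have h4 : φ v = 0 := pow_eq_zero_iff hp.ne_zero |>.1 h3
      have h5 := hφ v
      rw [h4, zero_smul, hN, eq_comm, sub_eq_zero] at h5
      exact h5
    -- the isometry condition
    have hiso : ∀ a b, φ a * f v b + φ b * f a v + φ a * φ b * f v v = 0 := fun a b => by
      have h1 := hA a b
      rw [show A a = a + φ a • v by rw [hφ, hN]; abel, show A b = b + φ b • v by rw [hφ, hN]; abel] at h1
      simp only [map_add, map_smul, LinearMap.add_apply, LinearMap.smul_apply, smul_eq_mul] at h1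
      linear_combination h1
    have hφx : φ x₀ = 1 := smul_left_injective F hNx ((hφ x₀).trans (one_smul F v).symm)
    have hvv : f v v = 0 := hAu v hAv x₀
    have hxv : f v x₀ = 0 := by
      have h1 := hiso x₀ x₀
      rw [hφx, hvv, O.hf.symm v x₀] at h1
      exact (mul_eq_zero.1 (show (2 : F) * f v x₀ = 0 by linear_combination h1)).resolve_left O.two
    refine hNx (O.hf.nd.1 v fun b => ?_)
    have h1 := hiso x₀ b
    rw [hφx, hvv, O.hf.symm v x₀, hxv] at h1
    linear_combination h1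
  -- the rank of the displacement
  set S' : V →ₗ[F] V := ((s : V ≃ₗ[F] V) : V →ₗ[F] V) - LinearMap.id
  set Lm : (W × W) →ₗ[F] V := S' ∘ₗ (LinearMap.coprod (T c₁) (T c₂))
  have hLm : ∀ y₁ y₂, Lm (y₁, y₂) = T (A c₁) (B y₁) - T c₁ y₁ + (T (A c₂) (B y₂) - T c₂ y₂) := fun y₁ y₂ => by
    simp [Lm, S', e]
    abel
  set M : Module.End F W := B - 1
  have hMp : M ^ p = 0 := by
    have : CharP (Module.End F W) p := charP_of_injective_algebraMap (algebraMap F (Module.End F W)).injective p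
    rw [sub_pow_char_of_commute p (Commute.one_right B), hBp, one_pow, sub_self]
  have hMB : ∀ y, M (B y) = B (M y) := fun y => by simp [M]
  have hker : ∀ j : ℕ, ∀ y₁ y₂, Lm (y₁, y₂) = 0 → (M ^ j) y₁ = 0 → (M ^ j) y₂ = 0 → y₁ = 0 ∧ y₂ = 0 := by
    intro j
    induction j with
    | zero => intro y₁ y₂ _ h1 h2; exact ⟨by simpa using h1, by simpa using h2⟩
    | succ j ih =>
      intro y₁ y₂ h0 h1 h2
      have hlow : Lm (M y₁, M y₂) = 0 := by
        obtain ⟨R, hR⟩ := O.exists_tens LinearMap.id M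
        have e1 := congrArg R h0
        rw [hLm, map_zero] at e1
        simp only [map_add, map_sub, hR, LinearMap.id_apply, hMB] at e1
        rw [hLm]
        exact e1
      obtain ⟨k1, k2⟩ := ih _ _ hlow (by rw [← Module.End.mul_apply, ← pow_succ]; exact h1)
        (by rw [← Module.End.mul_apply, ← pow_succ]; exact h2)
      have b1 : B y₁ = y₁ := sub_eq_zero.1 k1
      have b2 : B y₂ = y₂ := sub_eq_zero.1 k2
      rw [hLm, b1, b2] at h0
      have h4 : ∀ z, g z y₁ • N c₁ + g z y₂ • N c₂ = 0 := fun z => by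
        have h5 := congrArg (O.C z) h0
        simp only [map_add, map_sub, O.C_T, map_zero] at h5
        rw [hN, hN, smul_sub, smul_sub]
        exact h5
      exact ⟨O.hg.nd.2 _ fun z => (hc12 _ _ (h4 z)).1, O.hg.nd.2 _ fun z => (hc12 _ _ (h4 z)).2⟩
  have hinj : Function.Injective Lm := (injective_iff_map_eq_zero Lm).2 fun q h0 => by
    obtain ⟨y₁, y₂⟩ := q
    obtain ⟨h1, h2⟩ := hker p y₁ y₂ h0 (by rw [hMp]; rfl) (by rw [hMp]; rfl)
    rw [h1, h2]; rfl
  have h1 := LinearMap.finrank_range_of_inj hinj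
  rw [Module.finrank_prod] at h1
  have h2 := Submodule.finrank_mono (LinearMap.range_comp_le_range (LinearMap.coprod (T c₁) (T c₂)) S')
  have h3 : LinearMap.range S' ≤ ((LinearMap.range (T.flip w)) ⊔ LinearMap.range (T.flip z)).map
      ((x : V ≃ₗ[F] V) : V →ₗ[F] V) := by
    rintro _ ⟨v, rfl⟩
    obtain ⟨v, rfl⟩ := (x : V ≃ₗ[F] V).surjective v
    refine ⟨(σ : V ≃ₗ[F] V) v - v, ?_, ?_⟩
    · have : ((σ : V ≃ₗ[F] V) : V →ₗ[F] V) - LinearMap.id =
          T.flip z ∘ₗ O.C w - T.flip w ∘ₗ O.C z - (g z z / 2) • (T.flip w ∘ₗ O.C w) :=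
        O.hom_ext fun a y => by simp [eσ, sv_apply, O.C_T, smul_smul]; abel
      rw [show (σ : V ≃ₗ[F] V) v - v = ((((σ : V ≃ₗ[F] V) : V →ₗ[F] V) - LinearMap.id : V →ₗ[F] V)) v from rfl, this]
      refine sub_mem (sub_mem (Submodule.mem_sup_right ⟨_, rfl⟩) (Submodule.mem_sup_left ⟨_, rfl⟩)) ?_
      exact Submodule.smul_mem _ _ (Submodule.mem_sup_left ⟨_, rfl⟩)
    · show (x : V ≃ₗ[F] V) ((σ : V ≃ₗ[F] V) v - v) = (s : V ≃ₗ[F] V) ((x : V ≃ₗ[F] V) v) - (x : V ≃ₗ[F] V) v
      rw [map_sub, hs]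
      show _ = (x : V ≃ₗ[F] V) ((σ : V ≃ₗ[F] V) ((x : V ≃ₗ[F] V).symm ((x : V ≃ₗ[F] V) v))) - _
      rw [LinearEquiv.symm_apply_apply]
  have h4 := (Submodule.finrank_mono h3).trans (Submodule.finrank_map_le _ _)
  have h5 := Submodule.finrank_add_le_finrank_add_finrank (LinearMap.range (T.flip w)) (LinearMap.range (T.flip z))
  have h6 := LinearMap.finrank_range_le (T.flip w)
  have h7 := LinearMap.finrank_range_le (T.flip z)
  have := O.lt
  have h8 : finrank F (LinearMap.range Lm) ≤ finrank F (LinearMap.range S') := h2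
  omega

/-- An element conjugating a Siegel map into a product maps its line to such a line. -/
theorem line_of_siegel {x σ : OQ Q} {w z : W} (hw0 : w ≠ 0) (hw : g w w = 0) (h : g w z = 0) (hz : g z z ≠ 0)
    (eσ : ∀ a y, (σ : V ≃ₗ[F] V) (T a y) = T a (sv g w z y)) (hT : Tens T (x * σ * x⁻¹)) :
    ∃ (A : U →ₗ[F] U) (w' : W), g w' w' = 0 ∧ ∀ a, (x : V ≃ₗ[F] V) (T a w) = T (A a) w' := by
  obtain ⟨B, eB⟩ := O.factor_of_siegel hw h eσ rfl hT
  set s : OQ Q := x * σ * x⁻¹ with hs
  have hsx : ∀ v, (s : V ≃ₗ[F] V) ((x : V ≃ₗ[F] V) v) = (x : V ≃ₗ[F] V) ((σ : V ≃ₗ[F] V) v) := fun v => by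
    show (x : V ≃ₗ[F] V) ((σ : V ≃ₗ[F] V) ((x : V ≃ₗ[F] V).symm ((x : V ≃ₗ[F] V) v))) = _
    rw [LinearEquiv.symm_apply_apply]
  set S : V →ₗ[F] V := ((s : V ≃ₗ[F] V) : V →ₗ[F] V) - LinearMap.id
  set L : U →ₗ[F] V := ((x : V ≃ₗ[F] V) : V →ₗ[F] V) ∘ₗ T.flip w
  have hSS : ∀ v, S (S v) ∈ LinearMap.range L := by
    intro v
    obtain ⟨v, rfl⟩ := (x : V ≃ₗ[F] V).surjective v
    refine ⟨(-(g z z)) • O.C w v, ?_⟩
    have h1 : ∀ v, (σ : V ≃ₗ[F] V) ((σ : V ≃ₗ[F] V) v) - (σ : V ≃ₗ[F] V) v - ((σ : V ≃ₗ[F] V) v - v) =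
        (-(g z z)) • T (O.C w v) w := by
      intro v
      refine LinearMap.congr_fun (O.hom_ext (L := (((σ : V ≃ₗ[F] V) : V →ₗ[F] V) ∘ₗ ((σ : V ≃ₗ[F] V) : V →ₗ[F] V)) -
        ((σ : V ≃ₗ[F] V) : V →ₗ[F] V) - (((σ : V ≃ₗ[F] V) : V →ₗ[F] V) - LinearMap.id))
        (L' := (-(g z z)) • (T.flip w ∘ₗ O.C w)) fun a y => ?_) v
      simp only [LinearMap.sub_apply, LinearMap.comp_apply, LinearEquiv.coe_coe, LinearMap.id_apply, eσ,
        LinearMap.smul_apply, LinearMap.flip_apply, O.C_T, ← map_sub]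
      rw [map_sub (sv g w z), O.sv_sub hw h]
      simp only [map_smul, LinearMap.smul_apply, smul_smul, neg_mul]
    simp only [S, L, LinearMap.sub_apply, LinearEquiv.coe_coe, LinearMap.id_apply, map_sub, LinearMap.comp_apply,
      LinearMap.flip_apply, map_smul, hsx]
    rw [← map_smul (x : V ≃ₗ[F] V), ← h1 v]
    simp only [map_sub]
  have := O.nontriv
  obtain ⟨a₀, ha₀⟩ := exists_ne (0 : U)
  obtain ⟨u, hu⟩ : ∃ u, g w u ≠ 0 := by
    by_contra! hc
    exact hw0 (O.hg.nd.1 w hc)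
  obtain ⟨r, hr⟩ : ∃ r, B (B r) - B r - (B r - r) ≠ 0 := by
    by_contra! hc
    have hzero : ∀ v, S (S v) = 0 := by
      intro v
      refine LinearMap.congr_fun (O.hom_ext (L := S ∘ₗ S) (L' := (0 : V →ₗ[F] V)) fun a y => ?_) v
      simp only [S, LinearMap.comp_apply, LinearMap.sub_apply, LinearEquiv.coe_coe, LinearMap.id_apply,
        map_sub, eB, LinearMap.zero_apply]
      simpa only [map_sub, map_zero] using congrArg (T a) (hc y)
    have h1 := hzero ((x : V ≃ₗ[F] V) (T a₀ u))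
    simp only [S, LinearMap.sub_apply, LinearEquiv.coe_coe, LinearMap.id_apply, map_sub, hsx, eσ] at h1
    replace h1 : (x : V ≃ₗ[F] V) (T a₀ (sv g w z (sv g w z u) - sv g w z u - (sv g w z u - u))) = 0 := by
      simpa only [map_sub] using h1
    rw [LinearEquiv.map_eq_zero_iff, O.sv_sub hw h, map_smul, smul_eq_zero, neg_eq_zero, mul_eq_zero] at h1
    rcases h1 with h1 | h1
    · rcases h1 with h1 | h1
      · exact hz h1
      · exact hu h1
    · exact hw0 (O.T_eq_zero' ha₀ h1)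
  set w' := B (B r) - B r - (B r - r)
  have hsub : LinearMap.range (T.flip w') ≤ LinearMap.range L := by
    rintro _ ⟨a, rfl⟩
    have h2 : S (S (T a r)) = T a w' := by simp [S, eB, w', map_sub]
    rw [LinearMap.flip_apply, ← h2]
    exact hSS _
  have hinj : Function.Injective (T.flip w') := fun p q e => O.T_injective hr e
  have hLinj : Function.Injective L := fun p q e => O.T_injective hw0 ((x : V ≃ₗ[F] V).injective e)
  have heq := Submodule.eq_of_le_of_finrank_eq hsub (by
    rw [LinearMap.finrank_range_of_inj hinj, LinearMap.finrank_range_of_inj hLinj])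
  obtain ⟨d, hd⟩ := O.exists_partner hr
  have hmap : ∀ a, (x : V ≃ₗ[F] V) (T a w) = T (O.C d ((x : V ≃ₗ[F] V) (T a w))) w' := fun a => by
    obtain ⟨b, hb⟩ := heq.ge ⟨a, rfl⟩
    have hb' : T b w' = (x : V ≃ₗ[F] V) (T a w) := hb
    rw [← hb', O.C_T, hd, one_smul]
  refine ⟨O.C d ∘ₗ L, w', ?_, hmap⟩
  obtain ⟨e', he'⟩ := O.hf.exists_aniso
  obtain ⟨a', ha'⟩ : ∃ a', O.C d (L a') = e' := by
    refine (LinearMap.injective_iff_surjective (f := O.C d ∘ₗ L)).1 (fun p q e => hLinj ?_) e'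
    show (x : V ≃ₗ[F] V) (T p w) = (x : V ≃ₗ[F] V) (T q w)
    rw [hmap p, hmap q]
    exact congrArg (fun b => T b w') e
  have h2 := OQ.map_polar x (T a' w) (T a' w)
  rw [hmap a', O.polarT, O.polarT, hw, mul_zero, mul_eq_zero] at h2
  exact h2.resolve_left (by rw [show O.C d ((x : V ≃ₗ[F] V) (T a' w)) = e' from ha']; exact he')

/-- **An element conjugating the Siegel maps of a non-degenerate subspace into products is a product.** -/
theorem tens_of_conj {x : OQ Q} (hx : x ∈ K) {W₁ : Submodule F W}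
    (hW : ∀ y ∈ W₁, (∀ t ∈ W₁, g t y = 0) → y = 0) (h3 : 3 ≤ finrank F W₁)
    (hconj : ∀ w ∈ W₁, ∀ z ∈ W₁, g w w = 0 → g w z = 0 → g z z ≠ 0 → ∀ σ ∈ K,
      (∀ a y, (σ : V ≃ₗ[F] V) (T a y) = T a (sv g w z y)) → Tens T (x * σ * x⁻¹)) : Tens T x := by
  have hr : SymForm (g.restrict W₁) :=
    ⟨O.two, ⟨fun y hy => Subtype.ext (hW y y.2 fun t ht => (O.hg.symm _ _).trans (hy ⟨t, ht⟩)),
      fun y hy => Subtype.ext (hW y y.2 fun t ht => hy ⟨t, ht⟩)⟩, fun a b => O.hg.symm a b⟩
  obtain ⟨w₁, -, hw₁0, hw₁⟩ := hr.exists_isotropic (P := (⊤ : Submodule F W₁)) (by rwa [finrank_top])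
  obtain ⟨u₁, hu₁, hwu₁⟩ := exists_iso_partner hr hw₁ hw₁0
  obtain ⟨z₁, hz₁, hz₁P⟩ := exists_aniso_perp hr _ (pair_nondeg hr hw₁ hu₁ hwu₁)
    (by have := span_pair_le (F := F) w₁ u₁; omega)
  set w : W := (w₁ : W)
  set u : W := (u₁ : W)
  set z : W := (z₁ : W)
  have hw : g w w = 0 := hw₁
  have huu : g u u = 0 := hu₁
  have hwu : g w u = 1 := hwu₁
  have hz : g z z ≠ 0 := hz₁
  have hwz : g w z = 0 := hz₁P w₁ (Submodule.subset_span (Set.mem_insert _ _))
  have huz : g u z = 0 := hz₁P u₁ (Submodule.subset_span (Set.mem_insert_of_mem _ rfl))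
  have hw0 : w ≠ 0 := fun e => by simp [e] at hwu
  have hu0 : u ≠ 0 := fun e => by simp [e] at hwu
  have line : ∀ p q : W, p ∈ W₁ → q ∈ W₁ → p ≠ 0 → g p p = 0 → g p q = 0 → g q q ≠ 0 →
      ∃ (A : U →ₗ[F] U) (p' : W), g p' p' = 0 ∧ ∀ a, (x : V ≃ₗ[F] V) (T a p) = T (A a) p' := by
    intro p q hp hq hp0 hpp hpq hqq
    obtain ⟨σ, hσ, eσ⟩ := O.siegel hpp hpq hqq
    exact O.line_of_siegel hp0 hpp hpq hqq eσ (hconj p hp q hq hpp hpq hqq σ hσ eσ)
  obtain ⟨A, w', hw', eA⟩ := line w z w₁.2 z₁.2 hw0 hw hwz hz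
  obtain ⟨A', u', hu', eA'⟩ := line u z u₁.2 z₁.2 hu0 huu huz hz
  set c := -(g z z / 2)
  have hc : c ≠ 0 := neg_ne_zero.2 (div_ne_zero hz O.two)
  have hother : ∀ s : F, s * s = 1 → ∃ (A₂ : U →ₗ[F] U) (p' : W),
      ∀ a, (x : V ≃ₗ[F] V) (T a (c • w + u + s • z)) = T (A₂ a) p' := by
    intro s hs
    obtain ⟨A₂, p', -, e₂⟩ := line (c • w + u + s • z) (z - (s * g z z) • w)
      (W₁.add_mem (W₁.add_mem (W₁.smul_mem _ w₁.2) u₁.2) (W₁.smul_mem _ z₁.2))
      (W₁.sub_mem z₁.2 (W₁.smul_mem _ w₁.2))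
      (fun e => by
        have h1 := congrArg (g w) e
        simp [hw, hwu, hwz] at h1)
      (by
        have := O.two
        simp [hw, huu, hwu, hwz, huz, O.hg.symm w u, O.hg.symm w z, O.hg.symm u z, c]
        field_simp
        linear_combination (2 * g z z) * hs)
      (by
        simp [hw, hwu, hwz, huz, O.hg.symm w u, O.hg.symm w z])
      (by simpa [hw, hwz, O.hg.symm w z] using hz)
    exact ⟨A₂, p', e₂⟩
  obtain ⟨A₂, p, ep⟩ := hother 1 (one_mul _)
  obtain ⟨A₃, q, eq⟩ := hother (-1) (by ring)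
  have := O.nontriv
  obtain ⟨a₀, ha₀⟩ := exists_ne (0 : U)
  have hA₂ : Function.Surjective A₂ := LinearMap.injective_iff_surjective.1 fun a b e =>
    O.T_injective (r := c • w + u + (1 : F) • z) (fun e' => by
      have h1 := congrArg (g w) e'; simp [hw, hwu, hwz] at h1) ((x : V ≃ₗ[F] V).injective (by rw [ep, ep, e]))
  have hA₃ : Function.Surjective A₃ := LinearMap.injective_iff_surjective.1 fun a b e =>
    O.T_injective (r := c • w + u + (-1 : F) • z) (fun e' => by
      have h1 := congrArg (g w) e'; simp [hw, hwu, hwz] at h1) ((x : V ≃ₗ[F] V).injective (by rw [eq, eq, e]))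
  have hnot : w' ∉ Submodule.span F ({p, q} : Set W) := by
    intro hm
    obtain ⟨α, β, hαβ⟩ := Submodule.mem_span_pair.1 hm
    obtain ⟨a₂, h2⟩ := hA₂ (α • A a₀)
    obtain ⟨a₃, h3'⟩ := hA₃ (β • A a₀)
    have h1 : T a₀ w = T a₂ (c • w + u + (1 : F) • z) + T a₃ (c • w + u + (-1 : F) • z) := by
      refine (x : V ≃ₗ[F] V).injective ?_
      rw [map_add, ep, eq, eA, h2, h3', ← hαβ]
      simp
    have k1 := congrArg (O.C w) h1
    have k2 := congrArg (O.C z) h1
    have k3 := congrArg (O.C u) h1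
    simp only [map_add, O.C_T, map_smul, smul_eq_mul, hw, huu, hwu, hwz, huz, O.hg.symm w u, O.hg.symm w z,
      O.hg.symm u z, mul_zero, add_zero, zero_add, zero_smul, one_smul, mul_one, one_mul, neg_mul, neg_smul, map_neg, neg_zero] at k1 k2 k3
    have h23 : a₂ = a₃ := by
      have h4 : g z z • a₂ = g z z • a₃ := by linear_combination (norm := module) -k2
      exact smul_right_injective U hz h4
    subst h23
    have h5 : a₂ = 0 := by
      have h6 : (2 : F) • a₂ = 0 := by linear_combination (norm := module) -k1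
      exact (smul_eq_zero.1 h6).resolve_left O.two
    rw [h5, smul_zero, add_zero] at k3
    exact ha₀ k3
  obtain ⟨v, hv1, hv2⟩ := Bilin.exists_sep O.hg.nd hnot
  have hrel : ∀ a, A a = (-(g v u' / c)) • A' a := by
    intro a
    have h1 : (x : V ≃ₗ[F] V) (T a (c • w + u + (1 : F) • z)) + (x : V ≃ₗ[F] V) (T a (c • w + u + (-1 : F) • z)) =
        (2 * c) • T (A a) w' + (2 : F) • T (A' a) u' := by
      rw [← eA, ← eA', ← map_smul, ← map_smul, ← map_add, ← map_add]
      congr 1
      simp only [map_add, map_smul]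
      module
    rw [ep, eq] at h1
    have h2 := congrArg (O.C v) h1
    simp only [map_add, map_smul, O.C_T, O.hg.symm p v, O.hg.symm q v, O.hg.symm w' v, hv1,
      hv2 p (Submodule.subset_span (Set.mem_insert _ _)),
      hv2 q (Submodule.subset_span (Set.mem_insert_of_mem _ rfl)), zero_smul, add_zero, one_smul] at h2
    refine smul_right_injective U (mul_ne_zero O.two hc) ?_
    show (2 * c) • A a = (2 * c) • ((-(g v u' / c)) • A' a)
    rw [smul_smul, show 2 * c * -(g v u' / c) = -(2 * g v u') by field_simp]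
    linear_combination (norm := module) -h2
  refine O.tens_two_lines hx hw huu hwu (w' := (-(g v u' / c)) • w') (u' := u') (by simp [hw']) hu' (A := A')
    (fun a => ?_) eA'
  rw [eA, hrel, map_smul, LinearMap.smul_apply, map_smul]

end Over

end CfsgLib.Geo.OrthTensor
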