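/-
Pairs of involutions, eigenspaces of pure involutions and their centralisers in an overgroup.
-/
import Cfsg.Agent.Lib.Geo.OrthTensor.Key

set_option autoImplicit false
set_option linter.unusedSectionVars false

namespace CfsgLib.Geo.OrthTensor

open CfsgLib.Classical CfsgLib.Classical.Quad Module
open CfsgLib.Geo.MixTensor (SymForm refl)
open QuadraticMap (polar polarBilin)
open LinearMap (BilinForm)
open Module.End (eigenspace)

/-- Two involutions: conjugate or commuting with a third one. -/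
theorem dihedral {G : Type*} [Group G] [Finite G] {x y : G} (hx : x * x = 1) (hy : y * y = 1) :
    (Odd (orderOf (x * y)) ∧ ∃ j : ℕ, (x * y) ^ j * y * ((x * y) ^ j)⁻¹ = x) ∨
    ∃ n j : ℕ, orderOf (x * y) = 2 * n ∧ Commute ((x * y) ^ n) x ∧ Commute ((x * y) ^ n) y ∧
      (x * y) ^ n * (x * y) ^ n = 1 ∧ (x * y) ^ n ≠ 1 ∧
      ((Even n ∧ (x * y) ^ j * x * ((x * y) ^ j)⁻¹ = (x * y) ^ n * x ∧
          (x * y) ^ j * y * ((x * y) ^ j)⁻¹ = (x * y) ^ n * y) ∨
        (Odd n ∧ (x * y) ^ j * ((x * y) ^ n * y) * ((x * y) ^ j)⁻¹ = x)) := by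
  set r := x * y with hr
  have hx' : x⁻¹ = x := inv_eq_of_mul_eq_one_right hx
  have hy' : y⁻¹ = y := inv_eq_of_mul_eq_one_right hy
  have hflip : ∀ j : ℕ, x * (r ^ j)⁻¹ = r ^ j * x := fun j => by
    have h : SemiconjBy x r⁻¹ r := by
      show x * r⁻¹ = r * x
      rw [hr, mul_inv_rev, hx', hy', mul_assoc]
    rw [← inv_pow]
    exact h.pow_right j
  have hconj : ∀ i j : ℕ, r ^ j * (r ^ i * x) * (r ^ j)⁻¹ = r ^ (i + 2 * j) * x := fun i j => by
    rw [mul_assoc, mul_assoc, hflip, ← mul_assoc, ← mul_assoc, ← pow_add, ← pow_add]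
    congr 2
    ring
  have hy2 : y = r⁻¹ * x := by
    rw [hr, mul_inv_rev, hx', hy', mul_assoc, hx, mul_one]
  have hpos : 0 < orderOf r := orderOf_pos r
  rcases Nat.even_or_odd (orderOf r) with he | ho
  swap
  · obtain ⟨m, hm⟩ := ho
    refine Or.inl ⟨⟨m, hm⟩, m + 1, ?_⟩
    have h1 : r⁻¹ = r ^ (2 * m) := by
      rw [inv_eq_iff_mul_eq_one, ← pow_succ', ← hm, pow_orderOf_eq_one]
    rw [hy2, h1, hconj, show 2 * m + 2 * (m + 1) = (2 * m + 1) * 2 by ring, pow_mul, ← hm, pow_orderOf_eq_one,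
      one_pow, one_mul]
  obtain ⟨n, hn'⟩ := he
  have hn : orderOf r = 2 * n := by omega
  have hee : r ^ n * r ^ n = 1 := by rw [← pow_add, ← hn', pow_orderOf_eq_one]
  have hcx : Commute (r ^ n) x := by
    have h := hflip n
    rw [inv_eq_of_mul_eq_one_right hee] at h
    exact h.symm
  have hcy : Commute (r ^ n) y := by
    rw [hy2]
    exact (Commute.self_pow r n).symm.inv_right.mul_right hcx
  have hne : r ^ n ≠ 1 := fun h => by
    have h1 := orderOf_le_of_pow_eq_one (by omega) h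
    omega
  rcases Nat.even_or_odd n with hne' | hno
  · obtain ⟨m, hm⟩ := hne'
    refine Or.inr ⟨n, m, hn, hcx, hcy, hee, hne, Or.inl ⟨⟨m, hm⟩, ?_, ?_⟩⟩
    · have h := hconj 0 m
      rw [pow_zero, one_mul] at h
      rw [h, show 0 + 2 * m = n by omega]
    · have h1 : r⁻¹ = r ^ (2 * n - 1) := by
        rw [inv_eq_iff_mul_eq_one, ← pow_succ', show 2 * n - 1 + 1 = orderOf r by omega, pow_orderOf_eq_one]
      rw [hy2, h1, hconj, ← mul_assoc, ← pow_add, show 2 * n - 1 + 2 * m = n + (2 * n - 1) by omega]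
  · obtain ⟨m, hm⟩ := hno
    refine Or.inr ⟨n, m + 1, hn, hcx, hcy, hee, hne, Or.inr ⟨⟨m, hm⟩, ?_⟩⟩
    have h1 : r ^ n * y = r ^ (2 * m) * x := by
      rw [hy2, ← mul_assoc]
      congr 1
      rw [mul_inv_eq_iff_eq_mul, ← pow_succ, ← hm]
    rw [h1, hconj, show 2 * m + 2 * (m + 1) = 2 * n by omega, ← hn, pow_orderOf_eq_one, one_mul]

variable {F : Type*} [Field F] {U W V : Type*} [AddCommGroup U] [Module F U] [FiniteDimensional F U]
  [AddCommGroup W] [Module F W] [FiniteDimensional F W] [AddCommGroup V] [Module F V] [FiniteDimensional F V]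
  {Q : QuadraticForm F V} {f : BilinForm F U} {g : BilinForm F W} {T : U →ₗ[F] W →ₗ[F] V}
  {K : Subgroup (OQ Q)}

/-- An element acting on the second factor alone. -/
def Pure (T : U →ₗ[F] W →ₗ[F] V) (k : OQ Q) (B : W →ₗ[F] W) : Prop :=
  ∀ a y, (k : V ≃ₗ[F] V) (T a y) = T a (B y)

/-- The eigenspace of an element. -/
abbrev eig (k : OQ Q) (l : F) : Submodule F V :=
  eigenspace (((k : V ≃ₗ[F] V) : V →ₗ[F] V) : Module.End F V) l

/-- The eigenspace of a map. -/
abbrev eigW {M : Type*} [AddCommGroup M] [Module F M] (B : M →ₗ[F] M) (l : F) : Submodule F M :=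
  eigenspace (B : Module.End F M) l

theorem mem_eig {k : OQ Q} {l : F} {v : V} : v ∈ eig k l ↔ (k : V ≃ₗ[F] V) v = l • v :=
  Module.End.mem_eigenspace_iff

theorem mem_eigW {M : Type*} [AddCommGroup M] [Module F M] {B : M →ₗ[F] M} {l : F} {v : M} :
    v ∈ eigW B l ↔ B v = l • v :=
  Module.End.mem_eigenspace_iff

/-- The eigenspaces of an involution are complementary. -/
theorem eigW_isCompl {M : Type*} [AddCommGroup M] [Module F M] (h2 : (2 : F) ≠ 0) {B : M →ₗ[F] M}
    (hB : ∀ v, B (B v) = v) : IsCompl (eigW B 1) (eigW B (-1)) := by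
  refine ⟨Submodule.disjoint_def.2 fun v h1 h' => ?_, codisjoint_iff.2 (eq_top_iff.2 fun v _ => ?_)⟩
  · rw [mem_eigW, one_smul] at h1
    rw [mem_eigW, h1, neg_one_smul] at h'
    have h3 : (2 : F) • v = 0 := by rw [two_smul]; nth_rw 1 [h']; exact neg_add_cancel v
    exact (smul_eq_zero.1 h3).resolve_left h2
  · have e : v = (2 : F)⁻¹ • (v + B v) + (2 : F)⁻¹ • (v - B v) := by
      rw [← smul_add, add_add_sub_cancel, ← two_smul F, inv_smul_smul₀ h2]
    rw [e]
    refine Submodule.add_mem_sup (Submodule.smul_mem _ _ ?_) (Submodule.smul_mem _ _ ?_) <;> rw [mem_eigW] <;>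
      simp [hB, add_comm]

theorem eigW_sum {M : Type*} [AddCommGroup M] [Module F M] [FiniteDimensional F M] (h2 : (2 : F) ≠ 0)
    {B : M →ₗ[F] M} (hB : ∀ v, B (B v) = v) :
    finrank F (eigW B 1) + finrank F (eigW B (-1)) = finrank F M :=
  Submodule.finrank_add_eq_of_isCompl (eigW_isCompl h2 hB)

theorem eigW_top {M : Type*} [AddCommGroup M] [Module F M] (h2 : (2 : F) ≠ 0)
    {B : M →ₗ[F] M} (hB : ∀ v, B (B v) = v) {l : F} (hl : l * l = 1) (h : eigW B (-l) = ⊥) (v : M) : B v = l • v := by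
  have h1 : v - l • B v ∈ eigW B (-l) := by
    rw [mem_eigW, map_sub, map_smul, hB, smul_sub, smul_smul, neg_mul, hl, neg_smul, neg_smul, one_smul]
    abel
  rw [h, Submodule.mem_bot, sub_eq_zero] at h1
  conv_rhs => rw [h1, smul_smul, hl, one_smul]

theorem eigW_ne_bot {M : Type*} [AddCommGroup M] [Module F M] (h2 : (2 : F) ≠ 0) {L : M →ₗ[F] M}
    (hL : ∀ v, L (L v) = v) (hns : ¬ ∃ l : F, l * l = 1 ∧ ∀ v, L v = l • v) {l : F} (hl : l = 1 ∨ l = -1) :
    eigW L l ≠ ⊥ := fun hbot => by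
  have hl' : -l * -l = 1 := by rcases hl with rfl | rfl <;> norm_num
  exact hns ⟨-l, hl', eigW_top h2 hL hl' (by rw [neg_neg]; exact hbot)⟩

/-- Conjugation does not change the dimensions of eigenspaces. -/
theorem eig_conj (g' k : OQ Q) (l : F) : finrank F (eig (g' * k * g'⁻¹) l) = finrank F (eig k l) := by
  have e : eig (g' * k * g'⁻¹) l = (eig k l).map ((g' : V ≃ₗ[F] V) : V →ₗ[F] V) := by
    ext v
    obtain ⟨u, rfl⟩ := (g' : V ≃ₗ[F] V).surjective v
    rw [Submodule.mem_map_equiv, LinearEquiv.symm_apply_apply, mem_eig, mem_eig]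
    show (g' : V ≃ₗ[F] V) ((k : V ≃ₗ[F] V) ((g' : V ≃ₗ[F] V).symm ((g' : V ≃ₗ[F] V) u))) = _ ↔ _
    rw [LinearEquiv.symm_apply_apply, ← map_smul, EmbeddingLike.apply_eq_iff_eq]
  rw [e, LinearEquiv.finrank_map_eq]

namespace Tensor

variable (D : Tensor Q f g T)
include D

/-- Independent vectors of the first factor and subspaces of the second. -/
theorem sum_finrank_le {n : ℕ} {u : Fin n → U} (hu : LinearIndependent F u) (P : Fin n → Submodule F W)
    (N : Submodule F V) (h : ∀ i, ∀ y ∈ P i, T (u i) y ∈ N) : ∑ i, finrank F (P i) ≤ finrank F N := by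
  let Φ : (Π i, P i) →ₗ[F] V := ∑ i, (T (u i) ∘ₗ (P i).subtype) ∘ₗ LinearMap.proj i
  have hΦ : Function.Injective Φ := (injective_iff_map_eq_zero Φ).2 fun x hx => by
    funext i
    refine Subtype.ext (D.hg.nd.2 _ fun z => ?_)
    have h1 := congrArg (D.C z) hx
    simp [Φ, D.C_T] at h1
    exact Fintype.linearIndependent_iff.1 hu _ h1 i
  have hN : LinearMap.range Φ ≤ N := by
    rintro _ ⟨x, rfl⟩
    simp only [Φ, LinearMap.sum_apply]
    exact N.sum_mem fun i _ => h i _ (x i).2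
  have h1 := Submodule.finrank_mono hN
  rwa [LinearMap.finrank_range_of_inj hΦ, Module.finrank_pi_fintype] at h1

/-- A product of a subspace with the first factor. -/
theorem mul_finrank_le (P : Submodule F W) (N : Submodule F V) (h : ∀ a, ∀ y ∈ P, T a y ∈ N) :
    finrank F U * finrank F P ≤ finrank F N := by
  have := D.sum_finrank_le (Module.finBasis F U).linearIndependent (fun _ => P) N fun i y hy => h _ y hy
  simpa using this

/-- **The eigenspaces of a pure involution.** -/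
theorem eig_pure {k : OQ Q} {B : W →ₗ[F] W} (hk : Pure T k B) (hB : ∀ y, B (B y) = y) :
    finrank F (eig k 1) = finrank F U * finrank F (eigW B 1) ∧
      finrank F (eig k (-1)) = finrank F U * finrank F (eigW B (-1)) := by
  have h1 : ∀ l : F, finrank F U * finrank F (eigW B l) ≤ finrank F (eig k l) := fun l =>
    D.mul_finrank_le _ _ fun a y hy => by rw [mem_eig, hk, mem_eigW.1 hy, map_smul]
  have hkk : ∀ v, (k : V ≃ₗ[F] V) ((k : V ≃ₗ[F] V) v) = v := fun v =>
    LinearMap.congr_fun (D.hom_ext (L := ((k : V ≃ₗ[F] V) : V →ₗ[F] V) ∘ₗ ((k : V ≃ₗ[F] V) : V →ₗ[F] V))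
      (L' := LinearMap.id) fun a y => by simp [hk _, hB]) v
  have h2 : finrank F (eig k 1) + finrank F (eig k (-1)) = finrank F V :=
    eigW_sum D.two (B := ((k : V ≃ₗ[F] V) : V →ₗ[F] V)) hkk
  rw [D.finrank_eq, ← eigW_sum D.two hB, mul_add] at h2
  have a := h1 1
  have b := h1 (-1)
  constructor <;> omega

/-- A pure element and the contractions. -/
theorem C_pure {k : OQ Q} {B : W →ₗ[F] W} (hk : Pure T k B) (hBi : ∀ y z, g (B y) (B z) = g y z)
    (hB : ∀ y, B (B y) = y) (z : W) (v : V) : D.C z ((k : V ≃ₗ[F] V) v) = D.C (B z) v := D.fext fun a => by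
  conv_lhs => rw [D.f_C, ← hB z, ← hk, OQ.map_polar, ← D.f_C]

theorem exists_pure {B : W →ₗ[F] W} (hBi : ∀ y z, g (B y) (B z) = g y z) : ∃ k : OQ Q, Pure T k B :=
  D.exists_el (A := LinearMap.id) (fun _ _ => rfl) hBi

theorem pure_sq {k : OQ Q} {B : W →ₗ[F] W} (hk : Pure T k B) (hB : ∀ y, B (B y) = y) : k * k = 1 :=
  D.el_ext fun a y => by
    show (k : V ≃ₗ[F] V) ((k : V ≃ₗ[F] V) (T a y)) = T a y
    rw [hk, hk, hB]

theorem pure_mul {k k' : OQ Q} {B B' : W →ₗ[F] W} (hk : Pure T k B) (hk' : Pure T k' B') :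
    Pure T (k * k') (B ∘ₗ B') := fun a y => by
  show (k : V ≃ₗ[F] V) ((k' : V ≃ₗ[F] V) (T a y)) = _
  rw [hk', hk]; rfl

theorem pure_unique [Nontrivial U] {k : OQ Q} {B B' : W →ₗ[F] W} (hk : Pure T k B) (hk' : Pure T k B') (y : W) :
    B y = B' y := by
  obtain ⟨a, ha⟩ := exists_ne (0 : U)
  exact D.T_injective' ha ((hk a y).symm.trans (hk' a y))

/-- An element fixing a line pointwise commutes with its reflection. -/
theorem commute_refl {x k : OQ Q} {c : W} (hx : ∀ a, (x : V ≃ₗ[F] V) (T a c) = T a c)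
    (hk : Pure T k (refl g c)) : Commute x k := by
  have hk' : ∀ v, (k : V ≃ₗ[F] V) v = v - (2 / g c c) • T (D.C c v) c := fun v =>
    LinearMap.congr_fun (D.hom_ext (L := ((k : V ≃ₗ[F] V) : V →ₗ[F] V))
      (L' := LinearMap.id - (2 / g c c) • (T.flip c ∘ₗ D.C c)) fun a y => by
        simp [hk a y, MixTensor.refl_apply, D.C_T, smul_smul]) v
  have hC : ∀ v, D.C c ((x : V ≃ₗ[F] V) v) = D.C c v := fun v => D.fext fun a => by
    conv_lhs => rw [D.f_C, ← hx a, OQ.map_polar, ← D.f_C]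
  refine Subtype.ext (LinearEquiv.ext fun v => ?_)
  show (x : V ≃ₗ[F] V) ((k : V ≃ₗ[F] V) v) = (k : V ≃ₗ[F] V) ((x : V ≃ₗ[F] V) v)
  rw [hk', hk', map_sub, map_smul, hx, hC]

end Tensor

section Refl

variable (hg : SymForm g)
include hg

/-- One more reflection. -/
theorem eigW_refl_mul {B : W →ₗ[F] W} (hBi : ∀ y z, g (B y) (B z) = g y z) {c : W} (hc : g c c ≠ 0)
    (hBc : B c = c) : finrank F (eigW (refl g c ∘ₗ B) (-1)) = finrank F (eigW B (-1)) + 1 := by
  have hc0 : c ≠ 0 := fun e => hc (by simp [e])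
  have hperp : ∀ v, B v = -v → g c v = 0 := fun v hv => by
    have h := hBi c v
    rw [hBc, hv, map_neg] at h
    exact (mul_eq_zero.1 (show (2 : F) * g c v = 0 by linear_combination -h)).resolve_left hg.two
  have e : eigW (refl g c ∘ₗ B) (-1) = eigW B (-1) ⊔ Submodule.span F {c} := by
    refine le_antisymm (fun v hv => ?_) (sup_le (fun v hv => ?_) ((Submodule.span_singleton_le_iff_mem ..).2 ?_))
    · rw [mem_eigW, LinearMap.comp_apply, neg_one_smul] at hv
      have h1 : B v = refl g c (-v) := by rw [← hv, hg.refl_refl hc]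
      refine Submodule.mem_sup.2 ⟨v - (g c v / g c c) • c, ?_, _, Submodule.smul_mem _ _
        (Submodule.mem_span_singleton_self c), sub_add_cancel _ _⟩
      rw [mem_eigW, map_sub, map_smul, hBc, h1, MixTensor.refl_apply, map_neg]
      match_scalars <;> field_simp <;> ring
    · rw [mem_eigW, neg_one_smul] at hv
      rw [mem_eigW, LinearMap.comp_apply, hv, neg_one_smul, map_neg, hg.refl_fix (hperp v hv)]
    · rw [mem_eigW, LinearMap.comp_apply, hBc, MixTensor.refl_apply]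
      match_scalars
      field_simp
      ring
  have hdis : eigW B (-1) ⊓ Submodule.span F {c} = ⊥ := by
    refine eq_bot_iff.2 fun v hv => ?_
    obtain ⟨h1, h2⟩ := Submodule.mem_inf.1 hv
    obtain ⟨t, rfl⟩ := Submodule.mem_span_singleton.1 h2
    rw [mem_eigW, map_smul, hBc, neg_one_smul, eq_neg_iff_add_eq_zero, ← add_smul, smul_eq_zero] at h1
    have ht : t = 0 :=
      (mul_eq_zero.1 (show (2 : F) * t = 0 by linear_combination h1.resolve_right hc0)).resolve_left hg.two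
    simp [ht]
  have h := Submodule.finrank_sup_add_finrank_inf_eq (eigW B (-1)) (Submodule.span F {c})
  rw [hdis, finrank_bot, finrank_span_singleton hc0] at h
  rw [e]; omega

/-- One reflection less. -/
theorem eigW_refl_mul' {B : W →ₗ[F] W} (hBi : ∀ y z, g (B y) (B z) = g y z) {c : W} (hc : g c c ≠ 0)
    (hBc : B c = -c) : finrank F (eigW (refl g c ∘ₗ B) (-1)) + 1 = finrank F (eigW B (-1)) := by
  have h := eigW_refl_mul hg (B := refl g c ∘ₗ B) (fun y z => by simp [hg.refl_isometry hc, hBi]) hc (by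
    rw [LinearMap.comp_apply, hBc, map_neg, MixTensor.refl_apply]
    match_scalars
    field_simp
    ring)
  rw [show refl g c ∘ₗ refl g c ∘ₗ B = B from LinearMap.ext fun y => hg.refl_refl hc (B y)] at h
  exact h.symm

theorem eigW_one_refl {c : W} (hc : g c c ≠ 0) : finrank F (eigW (refl g c) (-1)) = 1 := by
  have h := eigW_refl_mul hg (B := LinearMap.id) (fun _ _ => rfl) hc rfl
  have h0 : eigW (LinearMap.id : W →ₗ[F] W) (-1) = ⊥ := eq_bot_iff.2 fun v hv => by
    rw [mem_eigW, LinearMap.id_apply, neg_one_smul, eq_neg_iff_add_eq_zero, ← two_smul F] at hv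
    exact (smul_eq_zero.1 hv).resolve_left hg.two
  rw [h0, finrank_bot, LinearMap.comp_id] at h
  exact h

theorem eigW_two_refl {c d : W} (hc : g c c ≠ 0) (hd : g d d ≠ 0) (h : g c d = 0) :
    finrank F (eigW (refl g c ∘ₗ refl g d) (-1)) = 2 := by
  rw [eigW_refl_mul hg (hg.refl_isometry hd) hc (hg.refl_fix (by rw [hg.symm, h])), eigW_one_refl hg hd]

/-- An isometry commutes with the reflections of its eigenvectors. -/
theorem refl_comm {B : W →ₗ[F] W} (hBi : ∀ y z, g (B y) (B z) = g y z) {c : W} {l : F} (hl : l * l = 1)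
    (hBc : B c = l • c) (y : W) : B (refl g c y) = refl g c (B y) := by
  have h := hBi c y
  rw [hBc, map_smul, LinearMap.smul_apply, smul_eq_mul] at h
  rw [MixTensor.refl_apply, MixTensor.refl_apply, map_sub, map_smul, hBc, smul_smul,
    show g c (B y) = l * g c y by linear_combination l * h - g c (B y) * hl]
  congr 2
  ring

theorem refl_invol {B : W →ₗ[F] W} (hBi : ∀ y z, g (B y) (B z) = g y z) (hB : ∀ y, B (B y) = y) {c : W}
    (hc : g c c ≠ 0) {l : F} (hl : l * l = 1) (hBc : B c = l • c) (y : W) :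
    (refl g c ∘ₗ B) ((refl g c ∘ₗ B) y) = y := by
  rw [LinearMap.comp_apply, LinearMap.comp_apply, refl_comm hg hBi hl hBc, hg.refl_refl hc, hB]

theorem eig_perp {B : W →ₗ[F] W} (hBi : ∀ y z, g (B y) (B z) = g y z) {y z : W} {l : F} (hl : l * l = 1)
    (hy : B y = l • y) (hz : B z = (-l) • z) : g y z = 0 := by
  have h := hBi y z
  rw [hy, hz] at h
  simp only [map_smul, LinearMap.smul_apply, smul_eq_mul] at h
  exact (mul_eq_zero.1 (show (2 : F) * g y z = 0 by linear_combination -h - g y z * hl)).resolve_left hg.two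

theorem eig_nondeg {B : W →ₗ[F] W} (hBi : ∀ y z, g (B y) (B z) = g y z) (hB : ∀ y, B (B y) = y) {l : F}
    (hl : l = 1 ∨ l = -1) : ∀ y ∈ eigW B l, (∀ t ∈ eigW B l, g t y = 0) → y = 0 := by
  intro y hy h
  refine hg.nd.2 y fun t => ?_
  obtain ⟨t₁, h₁, t₂, h₂, rfl⟩ := Submodule.mem_sup.1 (show t ∈ eigW B 1 ⊔ eigW B (-1) by
    rw [(eigW_isCompl hg.two hB).sup_eq_top]; trivial)
  rw [map_add, LinearMap.add_apply]
  rcases hl with rfl | rfl
  · rw [h t₁ h₁, zero_add, hg.symm, eig_perp hg hBi (one_mul _) (mem_eigW.1 hy) (mem_eigW.1 h₂)]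
  · rw [h t₂ h₂, add_zero, eig_perp hg hBi (one_mul _) (mem_eigW.1 h₁) (mem_eigW.1 hy)]

end Refl

namespace Over

variable [Finite F] (O : Over Q f g T K)
include O

theorem sv_all {σ : OQ Q} {w z : W} (eσ : Pure T σ (sv g w z)) (v : V) :
    (σ : V ≃ₗ[F] V) v = v + T (O.C w v) z - T (O.C z v) w - (g z z / 2) • T (O.C w v) w :=
  LinearMap.congr_fun (O.hom_ext (L := ((σ : V ≃ₗ[F] V) : V →ₗ[F] V))
    (L' := LinearMap.id + T.flip z ∘ₗ O.C w - T.flip w ∘ₗ O.C z - (g z z / 2) • (T.flip w ∘ₗ O.C w))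
    fun a y => by simp [eσ a y, sv_apply, O.C_T, smul_smul]) v

/-- A conjugate of a Siegel element by an element centralising an involution fixes the other eigenspace. -/
theorem fix_of_commute {y k σ : OQ Q} {B : W →ₗ[F] W} (hk : Pure T k B) (hBi : ∀ u v, g (B u) (B v) = g u v)
    (hB : ∀ u, B (B u) = u) (hc : Commute y k) {l : F} (hl : l * l = 1) {w z : W} (hw : B w = l • w)
    (hz : B z = l • z) (eσ : Pure T σ (sv g w z)) {p : W} (hp : B p = (-l) • p) (a : U) :
    ((y * σ * y⁻¹ : OQ Q) : V ≃ₗ[F] V) (T a p) = T a p := by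
  set v := (y : V ≃ₗ[F] V).symm (T a p)
  have hv : (k : V ≃ₗ[F] V) v = (-l) • v := by
    refine (y : V ≃ₗ[F] V).injective ?_
    show ((y * k : OQ Q) : V ≃ₗ[F] V) v = _
    rw [hc.eq]
    show (k : V ≃ₗ[F] V) ((y : V ≃ₗ[F] V) ((y : V ≃ₗ[F] V).symm (T a p))) = _
    rw [LinearEquiv.apply_symm_apply, hk, hp, map_smul, map_smul, LinearEquiv.apply_symm_apply]
  have h0 : ∀ u, B u = l • u → O.C u v = 0 := fun u hu => by
    have h1 := O.C_pure hk hBi hB u v
    rw [hv, map_smul, hu, map_smul, LinearMap.smul_apply, neg_smul, eq_comm, eq_neg_iff_add_eq_zero, ← add_smul,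
      smul_eq_zero] at h1
    refine h1.resolve_left fun h2 => ?_
    have h3 : (2 : F) * (l * l) = 0 := by linear_combination l * h2
    rw [hl, mul_one] at h3
    exact O.two h3
  show (y : V ≃ₗ[F] V) ((σ : V ≃ₗ[F] V) v) = T a p
  rw [O.sv_all eσ, h0 w hw, h0 z hz]
  simp [v]

/-- **An element centralising a pure involution.** -/
theorem tens_of_commute {y k : OQ Q} (hy : y ∈ K) {B : W →ₗ[F] W} (hk : Pure T k B)
    (hBi : ∀ u v, g (B u) (B v) = g u v) (hB : ∀ u, B (B u) = u) (hc : Commute y k) {l : F} (hl : l = 1 ∨ l = -1)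
    (h3 : 3 ≤ finrank F (eigW B l)) {w₀ : W} (hw₀ : B w₀ = (-l) • w₀) (hw₀0 : w₀ ≠ 0) (hiso : g w₀ w₀ = 0) :
    Tens T y := by
  have hl' : l * l = 1 := by rcases hl with rfl | rfl <;> norm_num
  refine O.tens_of_conj hy (eig_nondeg O.hg hBi hB hl) h3 fun w hw z hz _ _ _ σ hσ eσ => ?_
  exact O.tens_fixed_line (K.mul_mem (K.mul_mem hy hσ) (K.inv_mem hy)) hw₀0 hiso (one_mul 1) fun a => by
    rw [one_smul]
    exact O.fix_of_commute hk hBi hB hc hl' (mem_eigW.1 hw) (mem_eigW.1 hz) eσ hw₀ a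

/-- An element centralising an involution with two eigenspaces of dimension at least three. -/
theorem tens_of_three {y k : OQ Q} (hy : y ∈ K) {B : W →ₗ[F] W} (hk : Pure T k B)
    (hBi : ∀ u v, g (B u) (B v) = g u v) (hB : ∀ u, B (B u) = u) (hc : Commute y k)
    (h3 : 3 ≤ finrank F (eigW B 1)) (h3' : 3 ≤ finrank F (eigW B (-1))) : Tens T y := by
  obtain ⟨w₀, hw₀, hw₀0, hiso⟩ := O.hg.exists_isotropic h3'
  exact O.tens_of_commute hy hk hBi hB hc (Or.inl rfl) h3 (mem_eigW.1 hw₀) hw₀0 hiso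

/-- **Conjugating a good involution into a product.** -/
theorem key {p k : OQ Q} (hk : k ∈ K) (hp : p * p = 1) (hC : ∀ y ∈ K, Commute y p → Tens T y)
    (h : Tens T (k * p * k⁻¹)) : Tens T k := by
  have := finite_OQ Q
  obtain ⟨A, B, hA, hB, hA2, hB2, e⟩ := O.invol_form h (by rw [← pow_two, conj_pow, pow_two, hp, mul_one, mul_inv_cancel])
  obtain ⟨l, hl, h3⟩ : ∃ l : F, (l = 1 ∨ l = -1) ∧ 3 ≤ finrank F (eigW B l) := by
    have h1 := eigW_sum O.two hB2
    have := O.five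
    by_cases h3 : 3 ≤ finrank F (eigW B 1)
    · exact ⟨1, Or.inl rfl, h3⟩
    · exact ⟨-1, Or.inr rfl, by omega⟩
  have hl' : l * l = 1 := by rcases hl with rfl | rfl <;> norm_num
  have h2 : Tens T k⁻¹ := by
    refine O.tens_of_conj (K.inv_mem hk) (eig_nondeg O.hg hB hB2 hl) h3 fun w hw z hz _ _ _ σ hσ eσ => ?_
    have hcomm : Commute σ (k * p * k⁻¹) := O.el_ext fun a y => by
      show (σ : V ≃ₗ[F] V) (((k * p * k⁻¹ : OQ Q) : V ≃ₗ[F] V) (T a y)) =
        ((k * p * k⁻¹ : OQ Q) : V ≃ₗ[F] V) ((σ : V ≃ₗ[F] V) (T a y))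
      rw [e, eσ, eσ, e]
      congr 1
      have hgl : ∀ u, B u = l • u → ∀ y, g u (B y) = l * g u y := fun u hu y => by
        have h1 := hB u y
        rw [hu, map_smul, LinearMap.smul_apply, smul_eq_mul] at h1
        linear_combination l * h1 - g u (B y) * hl'
      rw [sv_apply, sv_apply, map_sub, map_sub, map_add, map_smul, map_smul, map_smul, hgl w (mem_eigW.1 hw),
        hgl z (mem_eigW.1 hz), mem_eigW.1 hw, mem_eigW.1 hz]
      match_scalars <;> ring
    refine hC _ (K.mul_mem (K.mul_mem (K.inv_mem hk) hσ) (K.inv_mem (K.inv_mem hk))) ?_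
    have h4 := (Commute.map hcomm (MulAut.conj k⁻¹).toMonoidHom)
    simpa [mul_assoc] using h4
  simpa using h2.inv

/-- An involutive product with a small fixed space. -/
theorem pure_or_pure {k : OQ Q} (h : Tens T k) (hk : k * k = 1) (hfix : finrank F (eig k 1) ≤ finrank F W) :
    (∃ B : W →ₗ[F] W, (∀ u v, g (B u) (B v) = g u v) ∧ (∀ u, B (B u) = u) ∧ Pure T k B) ∨
      ∃ A : U →ₗ[F] U, (∀ a b, f (A a) (A b) = f a b) ∧ (∀ a, A (A a) = a) ∧
        ∀ a y, (k : V ≃ₗ[F] V) (T a y) = T (A a) y := by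
  obtain ⟨A, B, hA, hB, hA2, hB2, e⟩ := O.invol_form h hk
  by_cases hAs : ∃ l : F, l * l = 1 ∧ ∀ a, A a = l • a
  · obtain ⟨l, hl, hAl⟩ := hAs
    refine Or.inl ⟨l • B, fun u v => ?_, fun u => ?_, fun a y => ?_⟩
    · simp [hB, ← mul_assoc, hl]
    · simp [hB2, smul_smul, hl]
    · rw [e, hAl, map_smul, LinearMap.smul_apply, LinearMap.smul_apply, map_smul]
  by_cases hBs : ∃ l : F, l * l = 1 ∧ ∀ y, B y = l • y
  · obtain ⟨l, hl, hBl⟩ := hBs
    refine Or.inr ⟨l • A, fun u v => ?_, fun u => ?_, fun a y => ?_⟩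
    · simp [hA, ← mul_assoc, hl]
    · simp [hA2, smul_smul, hl]
    · rw [e, hBl, map_smul, LinearMap.smul_apply, map_smul, LinearMap.smul_apply]
  exfalso
  obtain ⟨l, hl, h2⟩ : ∃ l : F, (l = 1 ∨ l = -1) ∧ 2 ≤ finrank F (eigW A l) := by
    have h1 := eigW_sum O.two hA2
    have := O.small.three
    by_cases h2 : 2 ≤ finrank F (eigW A 1)
    · exact ⟨1, Or.inl rfl, h2⟩
    · exact ⟨-1, Or.inr rfl, by omega⟩
  have hl' : l * l = 1 := by rcases hl with rfl | rfl <;> norm_num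
  have hml : -l = 1 ∨ -l = -1 := by rcases hl with rfl | rfl <;> simp
  obtain ⟨u₃, hu₃, hu₃0⟩ := Submodule.exists_mem_ne_zero_of_ne_bot (eigW_ne_bot O.two hA2 hAs hml)
  set bl := Module.finBasis F (eigW A l)
  set u₁ : U := (bl ⟨0, by omega⟩ : U)
  set u₂ : U := (bl ⟨1, by omega⟩ : U)
  have hu₁ : A u₁ = l • u₁ := mem_eigW.1 (bl ⟨0, by omega⟩).2
  have hu₂ : A u₂ = l • u₂ := mem_eigW.1 (bl ⟨1, by omega⟩).2
  rw [mem_eigW] at hu₃
  have hli : LinearIndependent F ![u₁, u₂, u₃] := by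
    rw [Fintype.linearIndependent_iff]
    intro c hc
    simp only [Fin.sum_univ_three, Matrix.cons_val_zero, Matrix.cons_val_one, Matrix.cons_val] at hc
    have hc' := congrArg A hc
    simp only [map_add, map_smul, hu₁, hu₂, hu₃, map_zero, smul_smul] at hc'
    have h3 : ((2 : F) * (l * c 2)) • u₃ = 0 := by linear_combination (norm := module) l • hc - hc'
    rw [smul_eq_zero] at h3
    have hl0 : l ≠ 0 := fun h0 => by rw [h0, mul_zero] at hl'; exact zero_ne_one hl'
    have e2 : c 2 = 0 := by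
      have := h3.resolve_right hu₃0
      simpa [O.two, hl0] using this
    rw [e2, zero_smul, add_zero] at hc
    have h4 : c 0 • bl ⟨0, by omega⟩ + c 1 • bl ⟨1, by omega⟩ = 0 := Subtype.ext hc
    have h5 := congrArg bl.repr h4
    have a0 := DFunLike.congr_fun h5 ⟨0, by omega⟩
    have a1 := DFunLike.congr_fun h5 ⟨1, by omega⟩
    simp at a0 a1
    intro i
    fin_cases i <;> assumption
  have h4 := O.sum_finrank_le hli ![eigW B l, eigW B l, eigW B (-l)] (eig k 1) fun i y hy => by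
    fin_cases i <;> simp at hy ⊢ <;> rw [e] <;>
      simp [hu₁, hu₂, hu₃, hy, smul_smul, hl']
  rw [Fin.sum_univ_three] at h4
  replace h4 : finrank F (eigW B l) + finrank F (eigW B l) + finrank F (eigW B (-l)) ≤ finrank F (eig k 1) := h4
  have h6 := eigW_sum O.two hB2
  have hpos : finrank F (eigW B l) ≠ 0 := fun h0 => eigW_ne_bot O.two hB2 hBs hl (Submodule.finrank_eq_zero.1 h0)
  rcases hl with rfl | rfl
  · omega
  · rw [neg_neg] at h4; omega

end Over

end CfsgLib.Geo.OrthTensor
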