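/-
An element of the overgroup fixing a plane of the second factor pointwise, and centralisers of pairs of reflections.
-/
import Cfsg.Agent.Lib.Geo.OrthTensor.Invol

set_option autoImplicit false
set_option linter.unusedSectionVars false

namespace CfsgLib.Geo.OrthTensor

open CfsgLib.Classical CfsgLib.Classical.Quad Module
open CfsgLib.Geo.MixTensor (SymForm refl)
open QuadraticMap (polar polarBilin)
open LinearMap (BilinForm)

variable {F : Type*} [Field F] {U W V : Type*} [AddCommGroup U] [Module F U] [FiniteDimensional F U]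
  [AddCommGroup W] [Module F W] [FiniteDimensional F W] [AddCommGroup V] [Module F V] [FiniteDimensional F V]
  {Q : QuadraticForm F V} {f : BilinForm F U} {g : BilinForm F W} {T : U →ₗ[F] W →ₗ[F] V}
  {K : Subgroup (OQ Q)}

/-- Mutually orthogonal anisotropic vectors. -/
def Frame (g : BilinForm F W) (s : Finset W) : Prop :=
  ∀ a ∈ s, g a a ≠ 0 ∧ ∀ b ∈ s, a ≠ b → g a b = 0

theorem Frame.nondeg {s : Finset W} (hs : Frame g s) :
    ∀ x ∈ Submodule.span F (s : Set W), (∀ y ∈ Submodule.span F (s : Set W), g y x = 0) → x = 0 := by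
  intro x hx hxs
  obtain ⟨c, rfl⟩ := Submodule.mem_span_finset'.1 hx
  refine Finset.sum_eq_zero fun a _ => ?_
  have h := hxs a (Submodule.subset_span a.2)
  rw [map_sum, Finset.sum_eq_single a (fun b _ hb => by
    rw [map_smul, (hs a a.2).2 b b.2 (fun e => hb (Subtype.ext e.symm)), smul_zero]) (by simp), map_smul,
    smul_eq_mul, mul_eq_zero] at h
  rw [h.resolve_right (hs a a.2).1, zero_smul]

theorem Frame.insert [DecidableEq W] (hg : SymForm g) {s : Finset W} (hs : Frame g s) {v : W} (hv : g v v ≠ 0)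
    (h : ∀ a ∈ s, g a v = 0) : Frame g (Insert.insert v s) := by
  intro a ha
  rcases Finset.mem_insert.1 ha with rfl | ha'
  · refine ⟨hv, fun b hb hab => ?_⟩
    rcases Finset.mem_insert.1 hb with rfl | hb'
    · exact absurd rfl hab
    · rw [hg.symm, h b hb']
  · refine ⟨(hs a ha').1, fun b hb hab => ?_⟩
    rcases Finset.mem_insert.1 hb with rfl | hb'
    · exact h a ha'
    · exact (hs a ha').2 b hb' hab

theorem Frame.one (g : BilinForm F W) {c : W} (hc : g c c ≠ 0) : Frame g {c} := by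
  intro a ha
  rw [Finset.mem_singleton] at ha
  subst ha
  exact ⟨hc, fun b hb hab => absurd (Finset.mem_singleton.1 hb).symm hab⟩

theorem Frame.two [DecidableEq W] (hg : SymForm g) {c c' : W} (hc : g c c ≠ 0) (hc' : g c' c' ≠ 0)
    (h : g c c' = 0) : Frame g {c, c'} :=
  (Frame.one g hc').insert hg hc (by simpa [hg.symm c c'] using h)

theorem exists_norm_frame [Finite F] (hg : SymForm g) {s : Finset W} (hs : Frame g s) (h : s.card + 2 ≤ finrank F W)
    {ν : F} (hν : ν ≠ 0) : ∃ v, g v v = ν ∧ ∀ a ∈ s, g a v = 0 := by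
  obtain ⟨v, hv, hvP⟩ := hg.exists_norm_perp _ hs.nondeg (by have := finrank_span_finset_le_card (R := F) s; unfold Set.finrank at this; omega) hν
  exact ⟨v, hv, fun a ha => hvP a (Submodule.subset_span ha)⟩

theorem exists_aniso_frame (hg : SymForm g) {s : Finset W} (hs : Frame g s) (h : s.card < finrank F W) :
    ∃ v, g v v ≠ 0 ∧ ∀ a ∈ s, g a v = 0 := by
  obtain ⟨v, hv, hvP⟩ := exists_aniso_perp hg _ hs.nondeg (by have := finrank_span_finset_le_card (R := F) s; unfold Set.finrank at this; omega)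
  exact ⟨v, hv, fun a ha => hvP a (Submodule.subset_span ha)⟩

/-- An orthogonal basis of a non-degenerate plane. -/
theorem exists_plane_frame (hg : SymForm g) {P : Submodule F W} (hP : ∀ y ∈ P, (∀ t ∈ P, g t y = 0) → y = 0)
    (h2 : finrank F P = 2) : ∃ c ∈ P, ∃ c' ∈ P, g c c ≠ 0 ∧ g c' c' ≠ 0 ∧ g c c' = 0 := by
  have hr : SymForm (g.restrict P) :=
    ⟨hg.two, ⟨fun y hy => Subtype.ext (hP y y.2 fun t ht => (hg.symm _ _).trans (hy ⟨t, ht⟩)),
      fun y hy => Subtype.ext (hP y y.2 fun t ht => hy ⟨t, ht⟩)⟩, fun a b => hg.symm a b⟩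
  have : Nontrivial P := Module.nontrivial_of_finrank_pos (R := F) (by omega)
  obtain ⟨c, hc⟩ := hr.exists_aniso
  obtain ⟨c', hc', h⟩ := exists_aniso_frame hr (Frame.one _ hc) (by simp [h2])
  exact ⟨c, c.2, c', c'.2, hc, hc', h c (Finset.mem_singleton_self c)⟩

namespace Over

variable [Finite F] (O : Over Q f g T K)
include O

theorem commute_sv {σ k : OQ Q} {B : W →ₗ[F] W} (hk : Pure T k B) (hBi : ∀ u v, g (B u) (B v) = g u v) {l : F}
    (hl : l * l = 1) {w z : W} (eσ : Pure T σ (sv g w z)) (hw : B w = l • w) (hz : B z = l • z) : Commute σ k := by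
  refine O.el_ext fun a y => ?_
  show (σ : V ≃ₗ[F] V) ((k : V ≃ₗ[F] V) (T a y)) = (k : V ≃ₗ[F] V) ((σ : V ≃ₗ[F] V) (T a y))
  rw [hk, eσ, eσ, hk]
  congr 1
  have hgl : ∀ u, B u = l • u → ∀ y, g u (B y) = l * g u y := fun u hu y => by
    have h1 := hBi u y
    rw [hu, map_smul, LinearMap.smul_apply, smul_eq_mul] at h1
    linear_combination l * h1 - g u (B y) * hl
  rw [sv_apply, sv_apply, map_sub, map_sub, map_add, map_smul, map_smul, map_smul, hgl w hw, hgl z hz, hw, hz]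
  match_scalars <;> ring

theorem exists_pair {c c' : W} (hc : g c c ≠ 0) (h : g c' c' = g c c) :
    ∃ k ∈ K, Pure T k (refl g c ∘ₗ refl g c') := by
  obtain ⟨k, hk, e⟩ := O.pairW (c := c) (c' := c') ⟨hc, h ▸ hc, Or.inr ⟨g c c, by rw [h]⟩⟩
  exact ⟨k, hk, e⟩

omit [Finite F] in
theorem pair_invol {c c' : W} (hc : g c c ≠ 0) (hc' : g c' c' ≠ 0) (h : g c c' = 0) :
    (∀ u v, g ((refl g c ∘ₗ refl g c') u) ((refl g c ∘ₗ refl g c') v) = g u v) ∧
      ∀ y, (refl g c ∘ₗ refl g c') ((refl g c ∘ₗ refl g c') y) = y :=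
  ⟨fun u v => by simp [O.hg.refl_isometry hc, O.hg.refl_isometry hc'],
    refl_invol O.hg (O.hg.refl_isometry hc') (O.hg.refl_refl hc') hc (one_mul 1)
      (by rw [one_smul]; exact O.hg.refl_fix (by rw [O.hg.symm, h]))⟩

omit [Finite F] in
theorem refl2_fix {a b p : W} (h : g p a = 0) (h' : g p b = 0) : refl g a (refl g b p) = p := by
  have h1 : g a p = 0 := by rw [O.hg.symm, h]
  have h2 : g b p = 0 := by rw [O.hg.symm, h']
  rw [O.hg.refl_fix h2, O.hg.refl_fix h1]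

/-- An involutive product fixing a line. -/
theorem pure_of_fix {k : OQ Q} (h : Tens T k) (hk : k * k = 1) {c : W} (hc : c ≠ 0)
    (hfix : ∀ a, (k : V ≃ₗ[F] V) (T a c) = T a c) :
    ∃ B : W →ₗ[F] W, (∀ u v, g (B u) (B v) = g u v) ∧ (∀ u, B (B u) = u) ∧ Pure T k B ∧ B c = c := by
  have := O.nontriv
  obtain ⟨a₀, ha₀⟩ := exists_ne (0 : U)
  obtain ⟨A, B, hA, hB, hA2, hB2, e⟩ := O.invol_form h hk
  have hBc : B c ≠ 0 := fun h0 => hc (by rw [← hB2 c, h0, map_zero])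
  obtain ⟨z, hz⟩ := O.exists_partner hBc
  have hAs : ∀ a, A a = g z c • a := fun a => by
    have h1 := congrArg (O.C z) (hfix a)
    rwa [e, O.C_T, O.C_T, hz, one_smul] at h1
  have hγ : g z c * g z c = 1 := by
    have h1 := hA2 a₀
    rw [hAs, hAs, smul_smul] at h1
    exact smul_left_injective F ha₀ (h1.trans (one_smul F a₀).symm)
  have hp : Pure T k (g z c • B) := fun a y => by
    rw [e, hAs, map_smul, LinearMap.smul_apply, LinearMap.smul_apply, map_smul]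
  exact ⟨_, fun u v => by simp [hB, ← mul_assoc, hγ], fun u => by simp [hB2, smul_smul, hγ], hp,
    O.T_injective' ha₀ (by rw [← hp, hfix])⟩

/-- Conjugating a pair by an element fixing a plane pointwise. -/
theorem conj_core {s z q : OQ Q} (hs : s ∈ K) (hz : z ∈ K) (hq : q ∈ K) {c c' d y₁ y₂ : W} (hc : g c c ≠ 0)
    (hc' : g c' c' ≠ 0) (hcc : g c c' = 0) (hd0 : g d d ≠ 0) (hcd : g c d = 0) (hc'd : g c' d = 0)
    (hy₁0 : g y₁ y₁ ≠ 0) (hy₂0 : g y₂ y₂ ≠ 0) (hy₁₂ : g y₁ y₂ = 0) (hcy₁ : g c y₁ = 0) (hc'y₁ : g c' y₁ = 0)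
    (hcy₂ : g c y₂ = 0) (hc'y₂ : g c' y₂ = 0) (ez : Pure T z (refl g y₁ ∘ₗ refl g y₂))
    (eq : Pure T q (refl g c ∘ₗ refl g d)) (h1 : ∀ a, (s : V ≃ₗ[F] V) (T a c) = T a c)
    (h2 : ∀ a, (s : V ≃ₗ[F] V) (T a c') = T a c')
    (hgen : ∀ e ∈ K, (∀ a, (e : V ≃ₗ[F] V) (T a c') = T a c') → Commute e q → Tens T e) :
    s * z * s⁻¹ * (s * z * s⁻¹) = 1 ∧ (∀ a, ((s * z * s⁻¹ : OQ Q) : V ≃ₗ[F] V) (T a c) = T a c) ∧
      (∀ a, ((s * z * s⁻¹ : OQ Q) : V ≃ₗ[F] V) (T a c') = T a c') ∧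
      finrank F (eig (s * z * s⁻¹) (-1)) = finrank F U * 2 ∧
      ∃ (e E : OQ Q) (B B₀ : W →ₗ[F] W) (μ : F), e ∈ K ∧ Pure T e B ∧
        (∀ u v, g (B₀ u) (B₀ v) = g u v) ∧ (∀ u, B₀ (B₀ u) = u) ∧ Pure T E B₀ ∧ B₀ c = c ∧ B₀ c' = c' ∧
        B₀ d = μ • d ∧ Commute (s * z * s⁻¹) E ∧
        ((B₀ = B ∧ μ = -1 ∧ finrank F (eigW B₀ (-1)) = 2) ∨
          (B = refl g c ∘ₗ B₀ ∧ ((μ = 1 ∧ finrank F (eigW B₀ (-1)) = 1) ∨
            (μ = -1 ∧ finrank F (eigW B₀ (-1)) = 3)))) := by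
  have hg := O.hg
  have h20 := O.two
  have := finite_OQ Q
  have := O.nontriv
  obtain ⟨a₀, ha₀⟩ := exists_ne (0 : U)
  have hU : 0 < finrank F U := by have := O.small.three; omega
  obtain ⟨hqi, hq2⟩ := O.pair_invol hc hd0 hcd
  obtain ⟨hzi, hz2⟩ := O.pair_invol hy₁0 hy₂0 hy₁₂
  have hzfix : ∀ p, g p y₁ = 0 → g p y₂ = 0 → ∀ a, (z : V ≃ₗ[F] V) (T a p) = T a p := fun p h h' a => by
    rw [ez, LinearMap.comp_apply, O.refl2_fix h h']
  set x := s * z * s⁻¹
  have hxK : x ∈ K := K.mul_mem (K.mul_mem hs hz) (K.inv_mem hs)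
  have hx2 : x * x = 1 := by
    rw [← pow_two, conj_pow, pow_two, O.pure_sq ez hz2, mul_one, mul_inv_cancel]
  have hsinv : ∀ p, (∀ a, (s : V ≃ₗ[F] V) (T a p) = T a p) → ∀ a, (s : V ≃ₗ[F] V).symm (T a p) = T a p :=
    fun p h a => by rw [LinearEquiv.symm_apply_eq, h]
  have hxc : ∀ a, (x : V ≃ₗ[F] V) (T a c) = T a c := fun a => by
    show (s : V ≃ₗ[F] V) ((z : V ≃ₗ[F] V) ((s : V ≃ₗ[F] V).symm (T a c))) = _
    rw [hsinv c h1, hzfix c hcy₁ hcy₂, h1]
  have hxc' : ∀ a, (x : V ≃ₗ[F] V) (T a c') = T a c' := fun a => by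
    show (s : V ≃ₗ[F] V) ((z : V ≃ₗ[F] V) ((s : V ≃ₗ[F] V).symm (T a c'))) = _
    rw [hsinv c' h2, hzfix c' hc'y₁ hc'y₂, h2]
  have hqc : ∀ a, (q : V ≃ₗ[F] V) (T a c) = -T a c := fun a => by
    rw [eq, LinearMap.comp_apply, hg.refl_fix (e := d) (x := c) (by rw [hg.symm, hcd]), MixTensor.refl_apply, ← map_neg]
    congr 1
    match_scalars
    field_simp
    ring
  have hqc' : ∀ a, (q : V ≃ₗ[F] V) (T a c') = T a c' := fun a => by
    rw [eq, LinearMap.comp_apply, O.refl2_fix ((hg.symm _ _).trans hcc) hc'd]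
  have hrc : ∀ m : ℕ, ∀ a, (((x * q) ^ m : OQ Q) : V ≃ₗ[F] V) (T a c) = ((-1 : F) ^ m) • T a c := by
    intro m
    induction m with
    | zero => intro a; simp
    | succ m ih =>
      intro a
      rw [pow_succ']
      show (x : V ≃ₗ[F] V) ((q : V ≃ₗ[F] V) ((((x * q) ^ m : OQ Q) : V ≃ₗ[F] V) (T a c))) = _
      rw [ih, map_smul, hqc, map_smul, map_neg, hxc, pow_succ, mul_neg_one, neg_smul, smul_neg]
  have hrc' : ∀ m : ℕ, ∀ a, (((x * q) ^ m : OQ Q) : V ≃ₗ[F] V) (T a c') = T a c' := by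
    intro m
    induction m with
    | zero => intro a; simp
    | succ m ih =>
      intro a
      rw [pow_succ']
      show (x : V ≃ₗ[F] V) ((q : V ≃ₗ[F] V) ((((x * q) ^ m : OQ Q) : V ≃ₗ[F] V) (T a c'))) = _
      rw [ih, hqc', hxc']
  have hmz : finrank F (eig x (-1)) = finrank F U * 2 := by
    rw [eig_conj, (O.eig_pure ez hz2).2, eigW_two_refl hg hy₁0 hy₂0 hy₁₂]
  have hmq : finrank F (eig q (-1)) = finrank F U * 2 := by
    rw [(O.eig_pure eq hq2).2, eigW_two_refl hg hc hd0 hcd]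
  rcases dihedral hx2 (O.pure_sq eq hq2) with ⟨ho, -⟩ | ⟨n, j, -, hex, heq, he2, hne, hcase⟩
  · exfalso
    have h := hrc (orderOf (x * q)) a₀
    rw [pow_orderOf_eq_one, ho.neg_one_pow, neg_one_smul] at h
    have h0 : (2 : F) • T a₀ c = 0 := by rw [two_smul]; exact eq_neg_iff_add_eq_zero.1 h
    exact hc (by simp [O.T_eq_zero' ha₀ ((smul_eq_zero.1 h0).resolve_left h20)])
  set e := (x * q) ^ n
  have heK : e ∈ K := K.pow_mem (K.mul_mem hxK hq) n
  have hme : finrank F (eig (e * q) (-1)) = finrank F U * 2 := by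
    rcases hcase with ⟨-, -, hk⟩ | ⟨-, hk⟩
    · rw [← hk, eig_conj, hmq]
    · rw [← eig_conj ((x * q) ^ j), hk, hmz]
  obtain ⟨Rc, eRc⟩ := O.exists_pure (hg.refl_isometry hc)
  obtain ⟨Rc', eRc'⟩ := O.exists_pure (hg.refl_isometry hc')
  have hTe : Tens T e := hgen e heK (hrc' n) heq
  have hc'0 : c' ≠ 0 := fun h => hc' (by simp [h])
  obtain ⟨B, hBi, hB2, eB, hBc'⟩ := O.pure_of_fix hTe he2 hc'0 (hrc' n)
  have hBc : B c = ((-1 : F) ^ n) • c := O.T_injective' ha₀ (by rw [← eB, hrc, map_smul])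
  obtain ⟨μ, hμ, hBd⟩ : ∃ μ : F, μ * μ = 1 ∧ B d = μ • d := by
    have h := heq.eq
    have h' : ∀ y, B ((refl g c ∘ₗ refl g d) y) = (refl g c ∘ₗ refl g d) (B y) :=
      fun y => O.pure_unique (O.pure_mul eB eq) (by rw [h]; exact O.pure_mul eq eB) y
    have hl : ((-1 : F) ^ n) * (-1) ^ n = 1 := by rw [← pow_add, ← two_mul, pow_mul]; norm_num
    have h'' := h' d
    rw [LinearMap.comp_apply, LinearMap.comp_apply, refl_comm hg hBi hl hBc] at h''
    have h3 := congrArg (refl g c) h''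
    rw [hg.refl_refl hc, hg.refl_refl hc, MixTensor.refl_apply, MixTensor.refl_apply, map_sub, map_smul] at h3
    have h4 : B d = (g d (B d) / g d d) • d := by
      have h5 : (2 : F) • B d = (2 : F) • ((g d (B d) / g d d) • d) := by
        have e1 : (2 / g d d * g d d) = 2 := by field_simp
        rw [e1] at h3
        linear_combination (norm := (match_scalars <;> field_simp <;> ring)) -h3
      exact smul_right_injective W h20 h5
    refine ⟨_, ?_, h4⟩
    have h6 := hBi d d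
    rw [h4, map_smul, map_smul, LinearMap.smul_apply, smul_eq_mul, smul_eq_mul] at h6
    exact mul_right_cancel₀ hd0 (by linear_combination h6)
  have heq' : Pure T (e * q) (refl g c ∘ₗ B ∘ₗ refl g d) := fun a y => by
    rw [O.pure_mul eB eq a y, LinearMap.comp_apply, LinearMap.comp_apply, LinearMap.comp_apply,
      LinearMap.comp_apply, refl_comm hg hBi (l := (-1 : F) ^ n)
        (by rw [← pow_add, ← two_mul, pow_mul]; norm_num) hBc]
  have hBd' : ∀ y, B (refl g d y) = refl g d (B y) := refl_comm hg hBi hμ hBd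
  -- the reduced involution
  obtain ⟨E, B₀, hB₀i, hB₀2, eB₀, hB₀c, hB₀c', hB₀d, hrel, hxE⟩ : ∃ (E : OQ Q) (B₀ : W →ₗ[F] W),
      (∀ u v, g (B₀ u) (B₀ v) = g u v) ∧ (∀ u, B₀ (B₀ u) = u) ∧ Pure T E B₀ ∧ B₀ c = c ∧ B₀ c' = c' ∧
      B₀ d = μ • d ∧ ((Even n ∧ B₀ = B) ∨ (Odd n ∧ B₀ = refl g c ∘ₗ B)) ∧ Commute x E := by
    rcases Nat.even_or_odd n with hn | hn
    · rw [hn.neg_one_pow, one_smul] at hBc
      exact ⟨e, B, hBi, hB2, eB, hBc, hBc', hBd, Or.inl ⟨hn, rfl⟩, hex.symm⟩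
    · rw [hn.neg_one_pow, neg_one_smul] at hBc
      refine ⟨Rc * e, refl g c ∘ₗ B, fun u v => by simp [hg.refl_isometry hc, hBi],
        refl_invol hg hBi hB2 hc (l := -1) (by norm_num) (by rw [hBc, neg_one_smul]),
        O.pure_mul eRc eB, ?_, by rw [LinearMap.comp_apply, hBc', hg.refl_fix hcc], ?_, Or.inr ⟨hn, rfl⟩,
        (O.commute_refl hxc eRc).mul_right hex.symm⟩
      · rw [LinearMap.comp_apply, hBc, MixTensor.refl_apply, map_neg]
        match_scalars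
        field_simp
        ring
      · rw [LinearMap.comp_apply, hBd, map_smul, hg.refl_fix hcd]
  refine ⟨hx2, hxc, hxc', hmz, e, E, B, B₀, μ, heK, eB, hB₀i, hB₀2, eB₀, hB₀c, hB₀c', hB₀d, hxE, ?_⟩
  set j₀ := finrank F (eigW B₀ (-1)) with hj₀
  have hBq : ∀ y, (refl g c ∘ₗ B ∘ₗ refl g d) ((refl g c ∘ₗ B ∘ₗ refl g d) y) = y := fun y =>
    O.pure_unique (k := (e * q) * (e * q)) (B' := LinearMap.id) (O.pure_mul heq' heq')
      (fun a y => by
        rw [show e * q * (e * q) = 1 by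
          rw [heq.symm.mul_mul_mul_comm, he2, O.pure_sq eq hq2, one_mul]]
        rfl) y
  have h3 := hme
  rw [(O.eig_pure heq' hBq).2] at h3
  replace h3 := Nat.eq_of_mul_eq_mul_left hU h3
  have hsw : refl g c ∘ₗ B ∘ₗ refl g d = refl g d ∘ₗ (refl g c ∘ₗ B) := LinearMap.ext fun y => by
    simp only [LinearMap.comp_apply]
    rw [hBd']
    exact (refl_comm hg (hg.refl_isometry hc) (one_mul 1) (by rw [one_smul, hg.refl_fix hcd]) _)
  rw [hsw] at h3
  have hμd : μ = 1 ∨ μ = -1 := mul_self_eq_one_iff.1 hμ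
  rcases hrel with ⟨hn, hB0⟩ | ⟨hn, hB0⟩
  · refine Or.inl ⟨hB0, ?_⟩
    rw [hB0] at hj₀ hB₀c
    have hi : ∀ u v, g ((refl g c ∘ₗ B) u) ((refl g c ∘ₗ B) v) = g u v := fun u v => by
      simp [hg.refl_isometry hc, hBi]
    have hdd : (refl g c ∘ₗ B) d = μ • d := by rw [LinearMap.comp_apply, hBd, map_smul, hg.refl_fix hcd]
    have h4 := eigW_refl_mul hg hBi hc hB₀c
    rcases hμd with rfl | rfl
    · rw [one_smul] at hdd
      have h5 := eigW_refl_mul hg hi hd0 hdd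
      exfalso
      have hbot : eigW B (-1) = ⊥ := Submodule.finrank_eq_zero.1 (by omega)
      exact hne (O.el_ext fun a y => by
        rw [eB, eigW_top h20 hB2 (one_mul 1) hbot, one_smul]; rfl)
    · rw [neg_one_smul] at hdd
      have h5 := eigW_refl_mul' hg hi hd0 hdd
      exact ⟨rfl, by omega⟩
  · refine Or.inr ⟨?_, ?_⟩
    · rw [hB0]; exact LinearMap.ext fun y => (hg.refl_refl hc (B y)).symm
    rw [← hB0] at h3
    rcases hμd with rfl | rfl
    · rw [one_smul] at hB₀d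
      have h5 := eigW_refl_mul hg hB₀i hd0 hB₀d
      exact Or.inl ⟨rfl, by omega⟩
    · rw [neg_one_smul] at hB₀d
      have h5 := eigW_refl_mul' hg hB₀i hd0 hB₀d
      exact Or.inr ⟨rfl, by omega⟩

/-- **An element fixing a plane pointwise.** -/
theorem fix_six (h6 : 6 ≤ finrank F W) {s : OQ Q} (hs : s ∈ K) {c c' : W} (hc : g c c ≠ 0) (hc' : g c' c' ≠ 0)
    (hcc : g c c' = 0) (h1 : ∀ a, (s : V ≃ₗ[F] V) (T a c) = T a c)
    (h2 : ∀ a, (s : V ≃ₗ[F] V) (T a c') = T a c') : Tens T s := by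
  classical
  have hg := O.hg
  have h20 := O.two
  have := finite_OQ Q
  have := O.nontriv
  obtain ⟨a₀, ha₀⟩ := exists_ne (0 : U)
  have hU : 0 < finrank F U := by have := O.small.three; omega
  have hF := Frame.two hg hc hc' hcc
  have hcard : ({c, c'} : Finset W).card ≤ 2 := Finset.card_le_two
  obtain ⟨d, hd, hdp⟩ := exists_norm_frame hg hF (by omega) hc
  obtain ⟨y₁, hy₁, hy₁p⟩ := exists_norm_frame hg hF (by omega) (one_ne_zero (α := F))
  obtain ⟨y₂, hy₂, hy₂p⟩ := exists_norm_frame hg (hF.insert hg (by rw [hy₁]; exact one_ne_zero) hy₁p)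
    (by have := Finset.card_insert_le y₁ ({c, c'} : Finset W); omega) (one_ne_zero (α := F))
  have hy₁0 : g y₁ y₁ ≠ 0 := hy₁.symm ▸ one_ne_zero
  have hy₂0 : g y₂ y₂ ≠ 0 := hy₂.symm ▸ one_ne_zero
  have hd0 : g d d ≠ 0 := hd ▸ hc
  have hcd : g c d = 0 := hdp c (by simp)
  have hc'd : g c' d = 0 := hdp c' (by simp)
  have hcy₁ : g c y₁ = 0 := hy₁p c (by simp)
  have hc'y₁ : g c' y₁ = 0 := hy₁p c' (by simp)
  have hcy₂ : g c y₂ = 0 := hy₂p c (by simp)
  have hc'y₂ : g c' y₂ = 0 := hy₂p c' (by simp)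
  have hy₁₂ : g y₁ y₂ = 0 := hy₂p y₁ (by simp)
  obtain ⟨q, hq, eq⟩ := O.exists_pair hc hd
  obtain ⟨hqi, hq2⟩ := O.pair_invol hc hd0 hcd
  obtain ⟨z, hz, ez⟩ := O.exists_pair hy₁0 (hy₂.trans hy₁.symm)
  obtain ⟨hzi, hz2⟩ := O.pair_invol hy₁0 hy₂0 hy₁₂
  have hzfix : ∀ p, g p y₁ = 0 → g p y₂ = 0 → ∀ a, (z : V ≃ₗ[F] V) (T a p) = T a p := fun p h h' a => by
    rw [ez, LinearMap.comp_apply, O.refl2_fix h h']
  set x := s * z * s⁻¹
  have hxK : x ∈ K := K.mul_mem (K.mul_mem hs hz) (K.inv_mem hs)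
  obtain ⟨Rc, eRc⟩ := O.exists_pure (hg.refl_isometry hc)
  obtain ⟨Rc', eRc'⟩ := O.exists_pure (hg.refl_isometry hc')
  have hc'0 : c' ≠ 0 := fun h => hc' (by simp [h])
  obtain ⟨hx2, hxc, hxc', hmz, e, E, B, B₀, μ, -, -, hB₀i, hB₀2, eB₀, hB₀c, hB₀c', -, hxE, hcases⟩ :=
    O.conj_core hs hz hq hc hc' hcc hd0 hcd hc'd hy₁0 hy₂0 hy₁₂ hcy₁ hc'y₁ hcy₂ hc'y₂ ez eq h1 h2
      fun e heK hfix heq => by
        have hB3 := refl_invol hg hqi hq2 hc' (one_mul 1) (by
          rw [one_smul, LinearMap.comp_apply, O.refl2_fix ((hg.symm _ _).trans hcc) hc'd])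
        have hd3 := eigW_refl_mul hg hqi hc' (by
          rw [LinearMap.comp_apply, O.refl2_fix ((hg.symm _ _).trans hcc) hc'd])
        rw [eigW_two_refl hg hc hd0 hcd] at hd3
        have hsum := eigW_sum h20 hB3
        exact O.tens_of_three heK (O.pure_mul eRc' eq)
          (fun u v => (hg.refl_isometry hc' _ _).trans (hqi u v)) hB3
          ((O.commute_refl hfix eRc').mul_right heq) (by omega) (by omega)
  have hj : finrank F (eigW B₀ (-1)) = 1 ∨ finrank F (eigW B₀ (-1)) = 2 ∨ finrank F (eigW B₀ (-1)) = 3 := by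
    rcases hcases with ⟨-, -, h⟩ | ⟨-, ⟨-, h⟩ | ⟨-, h⟩⟩ <;> omega
  -- the conjugate is a product
  have hTx : Tens T x := by
    have hB1i : ∀ u v, g ((refl g c' ∘ₗ B₀) u) ((refl g c' ∘ₗ B₀) v) = g u v := fun u v => by
      simp [hg.refl_isometry hc', hB₀i]
    have hB1 := refl_invol hg hB₀i hB₀2 hc' (one_mul 1) (by rw [one_smul, hB₀c'])
    have hB1c : (refl g c' ∘ₗ B₀) c = c := by rw [LinearMap.comp_apply, hB₀c, hg.refl_fix (by rw [hg.symm, hcc])]
    have hB2 := refl_invol hg hB1i hB1 hc (one_mul 1) (by rw [one_smul, hB1c])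
    have d1 := eigW_refl_mul hg hB₀i hc' hB₀c'
    have d2 := eigW_refl_mul hg hB1i hc hB1c
    have s0 := eigW_sum h20 hB₀2
    have s1 := eigW_sum h20 hB1
    have s2 := eigW_sum h20 hB2
    have c1 := (O.commute_refl hxc' eRc').mul_right hxE
    rcases hj with h | h | h
    · exact O.tens_of_three hxK (O.pure_mul eRc (O.pure_mul eRc' eB₀))
        (fun u v => (hg.refl_isometry hc _ _).trans (hB1i u v)) hB2
        ((O.commute_refl hxc eRc).mul_right c1) (by omega) (by omega)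
    · exact O.tens_of_three hxK (O.pure_mul eRc' eB₀) hB1i hB1 c1 (by omega) (by omega)
    · exact O.tens_of_three hxK eB₀ hB₀i hB₀2 hxE (by omega) (by omega)
  obtain ⟨Bx, hxi, hxx, ex, hBxc'⟩ := O.pure_of_fix hTx hx2 hc'0 hxc'
  have hBxc : Bx c = c := O.T_injective' ha₀ (by rw [← ex, hxc])
  have hmB : finrank F (eigW Bx (-1)) = 2 := by
    have h := hmz
    rw [(O.eig_pure ex hxx).2] at h
    exact Nat.eq_of_mul_eq_mul_left hU h
  -- transporting the Siegel maps of the fixed space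
  have h5i : ∀ u v, g ((refl g c ∘ₗ Bx) u) ((refl g c ∘ₗ Bx) v) = g u v := fun u v => by
    simp [hg.refl_isometry hc, hxi]
  have h5 := refl_invol hg hxi hxx hc (one_mul 1) (by rw [one_smul, hBxc])
  have hd5 := eigW_refl_mul hg hxi hc hBxc
  have hs5 := eigW_sum h20 h5
  have hsplit : ∀ w, (refl g c ∘ₗ Bx) w = w → g c w = 0 ∧ Bx w = w := by
    intro w hw
    have h : g c w = 0 := by
      rw [hg.symm]
      exact eig_perp hg h5i (one_mul 1) (by rw [one_smul, hw]) (by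
        rw [LinearMap.comp_apply, hBxc, MixTensor.refl_apply]
        match_scalars
        field_simp
        ring)
    refine ⟨h, ?_⟩
    rw [LinearMap.comp_apply] at hw
    have h' := congrArg (refl g c) hw
    rwa [hg.refl_refl hc, hg.refl_fix h] at h'
  suffices Tens T s⁻¹ by simpa using this.inv
  refine O.tens_of_conj (K.inv_mem hs) (eig_nondeg hg h5i h5 (Or.inl rfl)) (by omega) ?_
  intro w hw z' hz' _ _ _ σ hσ eσ
  rw [mem_eigW, one_smul] at hw hz'
  obtain ⟨hcw, hBw⟩ := hsplit w hw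
  obtain ⟨hcz, hBz⟩ := hsplit z' hz'
  have hzR : Commute z Rc := (O.commute_refl (hzfix c hcy₁ hcy₂) eRc)
  have hsR : Commute s Rc := O.commute_refl h1 eRc
  have hσx : Commute σ x := O.commute_sv ex hxi (one_mul 1) eσ (by rw [hBw, one_smul]) (by rw [hBz, one_smul])
  have hσR : Commute σ Rc := O.commute_refl (fun a => by
    rw [eσ, sv_apply, hg.symm c w, hg.symm c z', hcw, hcz]; simp) eRc
  have hB6 := refl_invol hg hzi hz2 hc (one_mul 1) (by
    rw [one_smul, LinearMap.comp_apply, O.refl2_fix hcy₁ hcy₂])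
  have hd6 := eigW_refl_mul hg hzi hc (by
    rw [LinearMap.comp_apply, O.refl2_fix hcy₁ hcy₂])
  rw [eigW_two_refl hg hy₁0 hy₂0 hy₁₂] at hd6
  have hs6 := eigW_sum h20 hB6
  rw [inv_inv]
  refine O.tens_of_three (K.mul_mem (K.mul_mem (K.inv_mem hs) hσ) hs) (O.pure_mul eRc ez)
    (fun u v => (hg.refl_isometry hc _ _).trans (hzi u v)) hB6
    (Commute.mul_right ?_ ?_) (by omega) (by omega)
  · exact ((hsR.inv_left).mul_left hσR).mul_left hsR
  · have h := Commute.map hσx (MulAut.conj s⁻¹).toMonoidHom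
    simpa [x, mul_assoc] using h

/-- An element centralising an involution with an eigenspace of dimension two. -/
theorem tens_of_two (h6 : 6 ≤ finrank F W) {y k : OQ Q} (hy : y ∈ K) {B : W →ₗ[F] W} (hk : Pure T k B)
    (hBi : ∀ u v, g (B u) (B v) = g u v) (hB : ∀ u, B (B u) = u) (hc : Commute y k)
    (h2 : 2 ≤ finrank F (eigW B 1)) (h2' : 2 ≤ finrank F (eigW B (-1))) : Tens T y := by
  have hsum := eigW_sum O.two hB
  by_cases h3 : 3 ≤ finrank F (eigW B 1) ∧ 3 ≤ finrank F (eigW B (-1))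
  · exact O.tens_of_three hy hk hBi hB hc h3.1 h3.2
  obtain ⟨l, hl, hd, hd'⟩ : ∃ l : F, (l = 1 ∨ l = -1) ∧ 3 ≤ finrank F (eigW B l) ∧
      finrank F (eigW B (-l)) = 2 := by
    by_cases h : 3 ≤ finrank F (eigW B 1)
    · exact ⟨1, Or.inl rfl, h, by omega⟩
    · exact ⟨-1, Or.inr rfl, by omega, by rw [neg_neg]; omega⟩
  have hl' : l * l = 1 := by rcases hl with rfl | rfl <;> norm_num
  obtain ⟨c, hcm, c', hc'm, hc0, hc'0, hcc⟩ :=
    exists_plane_frame O.hg (eig_nondeg O.hg hBi hB (by rcases hl with rfl | rfl <;> simp)) hd'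
  refine O.tens_of_conj hy (eig_nondeg O.hg hBi hB hl) hd fun w hw z hz _ _ _ σ hσ eσ => ?_
  have hfix : ∀ p, B p = (-l) • p → ∀ a, ((y * σ * y⁻¹ : OQ Q) : V ≃ₗ[F] V) (T a p) = T a p := fun p hp a =>
    O.fix_of_commute hk hBi hB hc hl' (mem_eigW.1 hw) (mem_eigW.1 hz) eσ hp a
  exact O.fix_six h6 (K.mul_mem (K.mul_mem hy hσ) (K.inv_mem hy)) hc0 hc'0 hcc (hfix c (mem_eigW.1 hcm))
    (hfix c' (mem_eigW.1 hc'm))

end Over

end CfsgLib.Geo.OrthTensor
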