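/-
A second factor of dimension five without hyperbolic pairs of reflections.
-/
import Cfsg.Agent.Lib.Geo.OrthTensor.Fix

set_option autoImplicit false
set_option linter.unusedSectionVars false

namespace CfsgLib.Geo.OrthTensor

open CfsgLib.Classical CfsgLib.Classical.Quad Module
open CfsgLib.Geo.MixTensor (SymForm refl)
open CfsgLib.Known.OmegaCriterion
open QuadraticMap (polar polarBilin)
open LinearMap (BilinForm)

variable {F : Type*} [Field F] {U W V : Type*} [AddCommGroup U] [Module F U] [FiniteDimensional F U]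
  [AddCommGroup W] [Module F W] [FiniteDimensional F W] [AddCommGroup V] [Module F V] [FiniteDimensional F V]
  {Q : QuadraticForm F V} {f : BilinForm F U} {g : BilinForm F W} {T : U →ₗ[F] W →ₗ[F] V}
  {K : Subgroup (OQ Q)}

theorem sq_or_neg [Finite F] (h2 : (2 : F) ≠ 0) (hm : ¬ IsSquare (-1 : F)) (x : F) :
    IsSquare x ∨ IsSquare (-x) := by
  have := Fintype.ofFinite F
  have hF : ringChar F ≠ 2 := fun h => h2 (by
    have := ringChar.eq_iff.1 h
    exact CharTwo.two_eq_zero)
  by_cases hx : x = 0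
  · subst hx; exact Or.inl ⟨0, by simp⟩
  have hm0 : (-1 : F) ≠ 0 := neg_ne_zero.2 one_ne_zero
  rcases FiniteField.pow_dichotomy hF hx with h | h
  · exact Or.inl ((FiniteField.isSquare_iff hF hx).2 h)
  rcases FiniteField.pow_dichotomy hF hm0 with h' | h'
  · exact absurd ((FiniteField.isSquare_iff hF hm0).2 h') hm
  refine Or.inr ((FiniteField.isSquare_iff hF (neg_ne_zero.2 hx)).2 ?_)
  rw [neg_eq_neg_one_mul, mul_pow, h, h', neg_one_mul, neg_neg]

/-- The vectors of a full frame determine a linear map. -/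
theorem Frame.ext {s : Finset W} (hs : Frame g s) (hcard : s.card = finrank F W) {M : Type*} [AddCommGroup M]
    [Module F M] {L L' : W →ₗ[F] M} (h : ∀ a ∈ s, L a = L' a) : L = L' := by
  have hli : LinearIndependent F (fun a : s => (a : W)) := by
    rw [Fintype.linearIndependent_iff]
    intro c hc a
    have h1 := congrArg (g (a : W)) hc
    rw [map_sum, map_zero, Finset.sum_eq_single a (fun b _ hb => by
      rw [map_smul, (hs a a.2).2 b b.2 (fun e => hb (Subtype.ext e.symm)), smul_zero]) (by simp), map_smul,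
      smul_eq_mul, mul_eq_zero] at h1
    exact h1.resolve_right (hs a a.2).1
  exact LinearMap.ext_on_range (hli.span_eq_top_of_card_eq_finrank' (by simpa using hcard)) fun a => h a a.2

section Refl

variable (hg : SymForm g)
include hg

/-- An isometric involution with a reflected line is a reflection. -/
theorem eq_refl_of_one {B : W →ₗ[F] W} (hBi : ∀ u v, g (B u) (B v) = g u v) (hB : ∀ u, B (B u) = u)
    (h : finrank F (eigW B (-1)) = 1) : ∃ m, g m m ≠ 0 ∧ B m = -m ∧ B = refl g m := by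
  obtain ⟨m, hm, hm0⟩ := Submodule.exists_mem_ne_zero_of_ne_bot (p := eigW B (-1))
    (fun e => by rw [e, finrank_bot] at h; omega)
  have hspan : ∀ v ∈ eigW B (-1), ∃ t : F, t • m = v := fun v hv => by
    obtain ⟨t, ht⟩ := exists_smul_eq_of_finrank_eq_one h (x := (⟨m, hm⟩ : eigW B (-1)))
      (fun e => hm0 (congrArg Subtype.val e)) ⟨v, hv⟩
    exact ⟨t, congrArg Subtype.val ht⟩
  have hmm : g m m ≠ 0 := fun h0 => hm0 (eig_nondeg hg hBi hB (Or.inr rfl) m hm fun t ht => by
    obtain ⟨s, rfl⟩ := hspan t ht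
    rw [map_smul, LinearMap.smul_apply, h0, smul_zero])
  rw [mem_eigW, neg_one_smul] at hm
  refine ⟨m, hmm, hm, LinearMap.ext fun y => ?_⟩
  obtain ⟨t, ht⟩ := hspan (y - B y) (by rw [mem_eigW, map_sub, hB, neg_one_smul, neg_sub])
  have h1 : g m (B y) = -g m y := by
    have := hBi m y
    rw [hm, map_neg, LinearMap.neg_apply] at this
    linear_combination -this
  have h2 := congrArg (g m) ht
  rw [map_smul, smul_eq_mul, map_sub, h1] at h2
  rw [MixTensor.refl_apply, show 2 / g m m * g m y = t by field_simp; linear_combination -h2, ht, sub_sub_cancel]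

end Refl

namespace Over

variable [Finite F] (O : Over Q f g T K)
include O

theorem sqc_pow_odd (x : SqClass F) {n : ℕ} (hn : Odd n) : x ^ n = x := by
  obtain ⟨m, rfl⟩ := hn
  rw [pow_succ, pow_mul, pow_two, sqClass_mul_self, one_pow, one_mul]

/-- The spinor norm of a pair. -/
theorem sq_of_pair (ha : Odd (finrank F U)) {e : OQ Q} (he : e ∈ K) {c d : W} (hc : g c c ≠ 0) (hd : g d d ≠ 0)
    (ee : Pure T e (refl g c ∘ₗ refl g d)) : IsSquare (g c c * g d d) := by
  have hR : reflGroup Q = ⊤ := reflGroup_eq_top O.hQ (Or.inr (by have := O.five_V; omega))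
  obtain ⟨K₀, hK⟩ := O.refl_invariants O.five_V
  obtain ⟨k, hk, -, hs⟩ := hK c hc
  obtain ⟨k', hk', -, hs'⟩ := hK d hd
  have h : e = k * k' := O.el_ext fun a y => by
    show _ = (k : V ≃ₗ[F] V) ((k' : V ≃ₗ[F] V) (T a y))
    rw [hk', hk, ee]; rfl
  have h1 := ((mem_commutator_iff O.hQ hR e).1 (O.sub he)).2
  rw [h, spinor_mul O.hQ hR, hs, hs', mul_mul_mul_comm, sqClass_mul_self, one_mul, ← mul_pow, ← sqc_mul hc hd,
    O.sqc_pow_odd _ ha, sqc_eq_one_iff (mul_ne_zero hc hd)] at h1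
  exact h1

/-- The spinor norm of four reflections. -/
theorem sq_of_four (ha : Odd (finrank F U)) {e : OQ Q} (he : e ∈ K) {c c' d d' : W} (h1 : g c c ≠ 0)
    (h2 : g c' c' ≠ 0) (h3 : g d d ≠ 0) (h4 : g d' d' ≠ 0)
    (ee : Pure T e (refl g c ∘ₗ refl g c' ∘ₗ refl g d ∘ₗ refl g d')) :
    IsSquare (g c c * g c' c' * (g d d * g d' d')) := by
  have hR : reflGroup Q = ⊤ := reflGroup_eq_top O.hQ (Or.inr (by have := O.five_V; omega))
  obtain ⟨K₀, hK⟩ := O.refl_invariants O.five_V
  obtain ⟨k₁, e₁, -, s₁⟩ := hK c h1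
  obtain ⟨k₂, e₂, -, s₂⟩ := hK c' h2
  obtain ⟨k₃, e₃, -, s₃⟩ := hK d h3
  obtain ⟨k₄, e₄, -, s₄⟩ := hK d' h4
  have h : e = k₁ * k₂ * (k₃ * k₄) := O.el_ext fun a y => by
    show _ = (k₁ : V ≃ₗ[F] V) ((k₂ : V ≃ₗ[F] V) ((k₃ : V ≃ₗ[F] V) ((k₄ : V ≃ₗ[F] V) (T a y))))
    rw [e₄, e₃, e₂, e₁, ee]; rfl
  have h5 := ((mem_commutator_iff O.hQ hR e).1 (O.sub he)).2
  rw [h, spinor_mul O.hQ hR, spinor_mul O.hQ hR, spinor_mul O.hQ hR, s₁, s₂, s₃, s₄, mul_mul_mul_comm K₀,
    mul_mul_mul_comm K₀ _ K₀, sqClass_mul_self, one_mul, one_mul, ← mul_pow, ← mul_pow,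
    ← mul_pow, ← sqc_mul h1 h2, ← sqc_mul h3 h4, ← sqc_mul (mul_ne_zero h1 h2) (mul_ne_zero h3 h4),
    O.sqc_pow_odd _ ha, sqc_eq_one_iff (mul_ne_zero (mul_ne_zero h1 h2) (mul_ne_zero h3 h4))] at h5
  exact h5

theorem scale_norm {p : W} {ν : F} (hν : ν ≠ 0) (hp : g p p ≠ 0) (h : IsSquare (ν * g p p)) :
    ∃ t : F, g (t • p) (t • p) = ν := by
  obtain ⟨r, hr⟩ := h
  refine ⟨r / g p p, ?_⟩
  simp only [map_smul, LinearMap.smul_apply, smul_eq_mul]
  field_simp
  linear_combination -hr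

/-- The last vector of a frame of five vectors. -/
theorem fifth (h5 : finrank F W = 5) {ν : F} (hν : ν ≠ 0) (b b' : Fin 5 → W)
    (hb : ∀ i j, i ≠ j → g (b i) (b j) = 0) (hb' : ∀ i j, i ≠ j → g (b' i) (b' j) = 0)
    (hb0 : ∀ i, g (b i) (b i) ≠ 0) (hb'0 : ∀ i, g (b' i) (b' i) ≠ 0) {r : F}
    (h : (∏ i, g (b' i) (b' i)) * r = ν * g (b 4) (b 4) * (∏ i, g (b i) (b i))) (hr : IsSquare r) :
    IsSquare (ν * g (b 4) (b 4)) := by
  obtain ⟨t, ht, e⟩ := frame_prod O.hg h5 b b' hb hb0 hb' hb'0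
  obtain ⟨s, hs⟩ := hr
  refine ⟨s / t, ?_⟩
  have h1 : (∏ i, g (b' i) (b' i)) ≠ 0 := Finset.prod_ne_zero_iff.2 fun i _ => hb'0 i
  rw [e, hs] at h
  have h2 : ν * g (b 4) (b 4) * (t * t) = s * s := mul_right_cancel₀ h1 (by linear_combination -h)
  field_simp
  linear_combination h2

/-- **An element fixing a plane pointwise, five dimensions.** -/
theorem fix_five (h5 : finrank F W = 5) (ha : Odd (finrank F U)) (hm : ¬ IsSquare (-1 : F))
    (hq : ∃ t : F, t ≠ 0 ∧ t ≠ 1 ∧ t ≠ -1) {s : OQ Q} (hs : s ∈ K) {c₀ c₀' : W} (hc₀ : g c₀ c₀ ≠ 0)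
    (hc₀' : g c₀' c₀' = g c₀ c₀) (hcc₀ : g c₀ c₀' = 0) (h1 : ∀ a, (s : V ≃ₗ[F] V) (T a c₀) = T a c₀)
    (h2 : ∀ a, (s : V ≃ₗ[F] V) (T a c₀') = T a c₀') : Tens T s := by
  classical
  have hg := O.hg
  have h20 := O.two
  have := finite_OQ Q
  have := O.nontriv
  obtain ⟨a₀, ha₀⟩ := exists_ne (0 : U)
  have hU : 0 < finrank F U := by have := O.small.three; omega
  -- a frame for a given norm of the plane
  have build : ∀ ν : F, ν ≠ 0 → ∃ c c' d p p' : W, (∀ a, (s : V ≃ₗ[F] V) (T a c) = T a c) ∧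
      (∀ a, (s : V ≃ₗ[F] V) (T a c') = T a c') ∧ g c c = ν ∧ g c' c' = ν ∧ g d d = ν ∧ g p p = -ν ∧
      g p' p' ≠ 0 ∧ ∀ i j : Fin 5, i ≠ j → g (![c, c', d, p, p'] i) (![c, c', d, p, p'] j) = 0 := by
    intro ν hν
    obtain ⟨x, y, hxy⟩ := MixTensor.exists_two_squares h20 (ν / g c₀ c₀)
    have hxy' : (x ^ 2 + y ^ 2) * g c₀ c₀ = ν := by rw [hxy]; field_simp
    set c := x • c₀ + y • c₀'
    set c' := (-y) • c₀ + x • c₀'
    have hc : g c c = ν := by
      simp [c, hc₀', hcc₀, hg.symm c₀ c₀']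
      linear_combination hxy'
    have hc' : g c' c' = ν := by
      simp [c', hc₀', hcc₀, hg.symm c₀ c₀']
      linear_combination hxy'
    have hcc : g c c' = 0 := by
      simp [c, c', hc₀', hcc₀, hg.symm c₀ c₀']
      ring
    have hF := Frame.two hg (hc ▸ hν) (hc' ▸ hν) hcc
    have hcard : ({c, c'} : Finset W).card ≤ 2 := Finset.card_le_two
    obtain ⟨d, hd, hdp⟩ := exists_norm_frame hg hF (by omega) hν
    have hF3 := hF.insert hg (hd ▸ hν) hdp
    have hcard3 := Finset.card_insert_le d ({c, c'} : Finset W)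
    obtain ⟨p, hp, hpp⟩ := exists_norm_frame hg hF3 (by omega) (neg_ne_zero.2 hν)
    have hF4 := hF3.insert hg (hp ▸ neg_ne_zero.2 hν) hpp
    have hcard4 := Finset.card_insert_le p (Insert.insert d ({c, c'} : Finset W))
    obtain ⟨p', hp', hp'p⟩ := exists_aniso_frame hg hF4 (by omega)
    refine ⟨c, c', d, p, p', fun a => ?_, fun a => ?_, hc, hc', hd, hp, hp', fun i j hij => ?_⟩
    · simp [c, h1, h2]
    · simp [c', h1, h2]
    · have e1 := hdp c (by simp)
      have e2 := hdp c' (by simp)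
      have e3 := hpp c (by simp)
      have e4 := hpp c' (by simp)
      have e5 := hpp d (by simp)
      have e6 := hp'p c (by simp)
      have e7 := hp'p c' (by simp)
      have e8 := hp'p d (by simp)
      have e9 := hp'p p (by simp)
      fin_cases i <;> fin_cases j <;> first
        | exact absurd rfl hij
        | (simp only [Matrix.cons_val]; first | assumption | (rw [hg.symm]; assumption))
  obtain ⟨ν, hν, c, c', d, p, p', hsc, hsc', hc, hc', hd, hp, hp', horth, hsq⟩ :
      ∃ ν : F, ν ≠ 0 ∧ ∃ c c' d p p' : W, (∀ a, (s : V ≃ₗ[F] V) (T a c) = T a c) ∧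
      (∀ a, (s : V ≃ₗ[F] V) (T a c') = T a c') ∧ g c c = ν ∧ g c' c' = ν ∧ g d d = ν ∧ g p p = -ν ∧
      g p' p' ≠ 0 ∧ (∀ i j : Fin 5, i ≠ j → g (![c, c', d, p, p'] i) (![c, c', d, p, p'] j) = 0) ∧
      IsSquare (ν * g p' p') := by
    obtain ⟨c, c', d, p, p', x1, x2, hc, hc', hd, hp, hp', horth⟩ := build 1 one_ne_zero
    rcases sq_or_neg h20 hm (g p' p') with hsq | hsq
    · exact ⟨1, one_ne_zero, c, c', d, p, p', x1, x2, hc, hc', hd, hp, hp', horth, by rwa [one_mul]⟩
    obtain ⟨e, e', k, r, r', y1, y2, he, he', hk, hr, hr', horth'⟩ := build (-1) (neg_ne_zero.2 one_ne_zero)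
    refine ⟨-1, neg_ne_zero.2 one_ne_zero, e, e', k, r, r', y1, y2, he, he', hk, hr, hr', horth', ?_⟩
    obtain ⟨t, ht, eprod⟩ := frame_prod hg h5 ![c, c', d, p, p'] ![e, e', k, r, r'] horth
      (fun i => by fin_cases i <;> simp [hc, hc', hd, hp, hp']) horth'
      (fun i => by fin_cases i <;> simp [he, he', hk, hr, hr'])
    simp only [Fin.prod_univ_five, Matrix.cons_val_zero, Matrix.cons_val_one, Matrix.cons_val, hc, hc', hd, hp,
      he, he', hk, hr] at eprod
    obtain ⟨u, hu⟩ := hsq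
    refine ⟨u / t, ?_⟩
    field_simp
    linear_combination hu - eprod
  obtain ⟨t₀, ht₀⟩ := O.scale_norm hν hp' hsq
  set q₀ := t₀ • p'
  have hcd : g c d = 0 := horth 0 2 (by decide)
  have hcp : g c p = 0 := horth 0 3 (by decide)
  have hcq : g c q₀ = 0 := by rw [map_smul, show g c p' = 0 from horth 0 4 (by decide), smul_zero]
  have hcc : g c c' = 0 := horth 0 1 (by decide)
  have hc'd : g c' d = 0 := horth 1 2 (by decide)
  have hc'p : g c' p = 0 := horth 1 3 (by decide)
  have hc'q : g c' q₀ = 0 := by rw [map_smul, show g c' p' = 0 from horth 1 4 (by decide), smul_zero]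
  have hdp : g d p = 0 := horth 2 3 (by decide)
  have hdq : g d q₀ = 0 := by rw [map_smul, show g d p' = 0 from horth 2 4 (by decide), smul_zero]
  have hpq : g p q₀ = 0 := by rw [map_smul, show g p p' = 0 from horth 3 4 (by decide), smul_zero]
  have hc0 : g c c ≠ 0 := hc ▸ hν
  have hc'0 : g c' c' ≠ 0 := hc' ▸ hν
  have hd0 : g d d ≠ 0 := hd ▸ hν
  have hp0 : g p p ≠ 0 := hp ▸ neg_ne_zero.2 hν
  have hq0 : g q₀ q₀ ≠ 0 := ht₀ ▸ hν
  have hc'ne : c' ≠ 0 := fun h => hc'0 (by simp [h])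
  set b' : Fin 5 → W := ![c, c', d, p, q₀] with hb'
  have hbo : ∀ i j, i ≠ j → g (b' i) (b' j) = 0 := fun i j hij => by
    fin_cases i <;> fin_cases j <;> first
      | exact absurd rfl hij
      | (simp only [hb', Matrix.cons_val]; first | assumption | (rw [hg.symm]; assumption))
  have hb0 : ∀ i, g (b' i) (b' i) ≠ 0 := fun i => by
    fin_cases i <;> simp [hb', hc0, hc'0, hd0, hp0, hq0]
  have hbprod : (∏ i, g (b' i) (b' i)) = -(ν ^ 5) := by
    simp only [hb', Fin.prod_univ_five, Matrix.cons_val_zero, Matrix.cons_val_one, Matrix.cons_val, hc, hc', hd, hp,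
      ht₀]
    ring
  -- the image of a line of the complementary norm
  have hline : ∀ l, g c l = 0 → g c' l = 0 → g l l = -ν → ∃ (A : U →ₗ[F] U) (l' : W),
      ∀ a, (s : V ≃ₗ[F] V) (T a l) = T (A a) l' := by
    intro l hcl hc'l hl
    have hl0 : g l l ≠ 0 := hl ▸ neg_ne_zero.2 hν
    have hF := (Frame.two hg hc0 hc'0 hcc).insert hg hl0 (by simp [hcl, hc'l])
    have hcard := Finset.card_insert_le l ({c, c'} : Finset W)
    have hcard2 : ({c, c'} : Finset W).card ≤ 2 := Finset.card_le_two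
    obtain ⟨y₁, hy₁, hy₁p⟩ := exists_norm_frame hg hF (by omega) hν
    have hy₁0 : g y₁ y₁ ≠ 0 := hy₁ ▸ hν
    have hcard4 := Finset.card_insert_le y₁ (Insert.insert l ({c, c'} : Finset W))
    obtain ⟨y, hy, hyp⟩ := exists_aniso_frame hg (hF.insert hg hy₁0 hy₁p) (by omega)
    have f1 := hy₁p c (by simp)
    have f2 := hy₁p c' (by simp)
    have f3 := hy₁p l (by simp)
    have f4 := hyp c (by simp)
    have f5 := hyp c' (by simp)
    have f6 := hyp l (by simp)
    have f7 := hyp y₁ (by simp)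
    have hcy : IsSquare (ν * g y y) := O.fifth h5 hν ![c, c', l, y₁, y] b'
      (fun i j hij => by
        fin_cases i <;> fin_cases j <;> first
          | exact absurd rfl hij
          | (simp only [Matrix.cons_val]; first | assumption | (rw [hg.symm]; assumption)))
      hbo (fun i => by fin_cases i <;> simp [hc0, hc'0, hl0, hy₁0, hy]) hb0 (r := g y y * g y y)
      (by
        rw [hbprod]
        simp only [Fin.prod_univ_five, Matrix.cons_val_zero, Matrix.cons_val_one, Matrix.cons_val, hc, hc', hl, hy₁]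
        ring) ⟨_, rfl⟩
    obtain ⟨t, ht⟩ := O.scale_norm hν hy hcy
    set y₂ := t • y
    have hy₂0 : g y₂ y₂ ≠ 0 := ht ▸ hν
    have hcy₂ : g c y₂ = 0 := by rw [map_smul, f4, smul_zero]
    have hc'y₂ : g c' y₂ = 0 := by rw [map_smul, f5, smul_zero]
    have hly₂ : g l y₂ = 0 := by rw [map_smul, f6, smul_zero]
    have hy₁₂ : g y₁ y₂ = 0 := by rw [map_smul, f7, smul_zero]
    obtain ⟨q, hqK, eq⟩ := O.exists_pair hc0 (hd.trans hc.symm)
    obtain ⟨hqi, hq2⟩ := O.pair_invol hc0 hd0 hcd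
    obtain ⟨z, hz, ez⟩ := O.exists_pair hy₁0 (ht.trans hy₁.symm)
    set x := s * z * s⁻¹ with hx
    have hxK : x ∈ K := K.mul_mem (K.mul_mem hs hz) (K.inv_mem hs)
    obtain ⟨Rc, eRc⟩ := O.exists_pure (hg.refl_isometry hc0)
    obtain ⟨Rc', eRc'⟩ := O.exists_pure (hg.refl_isometry hc'0)
    obtain ⟨hx2, hxc, hxc', hmz, e, E, B, B₀, μ, heK, eB, hB₀i, hB₀2, eB₀, hB₀c, hB₀c', hB₀d, hxE, hcases⟩ :=
      O.conj_core hs hz hqK hc0 hc'0 hcc hd0 hcd hc'd hy₁0 hy₂0 hy₁₂ f1 f2 hcy₂ hc'y₂ ez eq hsc hsc'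
        fun e heK hfix heq => by
          have hB3 := refl_invol hg hqi hq2 hc'0 (one_mul 1) (by
            rw [one_smul, LinearMap.comp_apply, O.refl2_fix ((hg.symm _ _).trans hcc) hc'd])
          have hd3 := eigW_refl_mul hg hqi hc'0 (by
            rw [LinearMap.comp_apply, O.refl2_fix ((hg.symm _ _).trans hcc) hc'd])
          rw [eigW_two_refl hg hc0 hd0 hcd] at hd3
          refine O.tens_of_commute heK (O.pure_mul eRc' eq)
            (fun u v => (hg.refl_isometry hc'0 _ _).trans (hqi u v)) hB3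
            ((O.commute_refl hfix eRc').mul_right heq) (l := -1) (Or.inr rfl) (by omega) (w₀ := p + q₀) ?_ ?_ ?_
          · rw [neg_neg, one_smul, LinearMap.comp_apply, LinearMap.comp_apply,
              O.refl2_fix (a := c) (b := d) (p := p + q₀) (by simp [hg.symm c p, hg.symm c q₀, hcp, hcq])
                (by simp [hg.symm d p, hg.symm d q₀, hdp, hdq]),
              hg.refl_fix (by simp [hc'p, hc'q])]
          · intro h0
            have h' := congrArg (g p) h0
            rw [map_add, hpq, add_zero, map_zero] at h'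
            exact hp0 h'
          · simp [hpq, hg.symm p q₀, hp, ht₀]
    obtain ⟨B₁, E₁, hsel⟩ : ∃ (B₁ : W →ₗ[F] W) (E₁ : OQ Q), (μ = -1 ∧ B₁ = B₀ ∧ E₁ = E) ∨
        (μ ≠ -1 ∧ B₁ = refl g c ∘ₗ B₀ ∧ E₁ = Rc * E) := by
      by_cases h : μ = -1
      · exact ⟨_, _, Or.inl ⟨h, rfl, rfl⟩⟩
      · exact ⟨_, _, Or.inr ⟨h, rfl, rfl⟩⟩
    -- a vector fixed by the central involution
    obtain ⟨w₀, hw₀, hw₀0, hiso, hj3, hxm⟩ : ∃ w₀, (refl g c' ∘ₗ B₁) w₀ = w₀ ∧
        w₀ ≠ 0 ∧ g w₀ w₀ = 0 ∧ 3 ≤ finrank F (eigW (refl g c' ∘ₗ B₁) (-1)) ∧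
        ((μ = -1 ∧ finrank F (eigW B₀ (-1)) = 2) ∨ (μ = 1 ∧ finrank F (eigW B₀ (-1)) = 1)) := by
      have hne : (1 : F) ≠ -1 := fun h => h20 (by linear_combination h)
      -- the remaining vector
      have hrest : ∀ m, g m m ≠ 0 → g c m = 0 → g c' m = 0 → g d m = 0 → IsSquare (ν * g m m) →
          ∃ v, g v v = -ν ∧ g c v = 0 ∧ g c' v = 0 ∧ g d v = 0 ∧ g m v = 0 := by
        intro m hm0 g1 g2 g3 hνm
        obtain ⟨t', ht'⟩ := O.scale_norm hν hm0 hνm
        have hF4 := ((Frame.two hg hc0 hc'0 hcc).insert hg hd0 (by simp [hcd, hc'd])).insert hg hm0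
          (by simp [g1, g2, g3])
        have hc4 := Finset.card_insert_le m (Insert.insert d ({c, c'} : Finset W))
        have hc3 := Finset.card_insert_le d ({c, c'} : Finset W)
        obtain ⟨v, hv, hvp⟩ := exists_aniso_frame hg hF4 (by omega)
        have v1 := hvp c (by simp)
        have v2 := hvp c' (by simp)
        have v3 := hvp d (by simp)
        have v4 := hvp m (by simp)
        have v4' : g (t' • m) v = 0 := by rw [map_smul, LinearMap.smul_apply, v4, smul_zero]
        have g1' : g c (t' • m) = 0 := by rw [map_smul, g1, smul_zero]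
        have g2' : g c' (t' • m) = 0 := by rw [map_smul, g2, smul_zero]
        have g3' : g d (t' • m) = 0 := by rw [map_smul, g3, smul_zero]
        have hsqv : IsSquare (-ν * g v v) := O.fifth h5 (neg_ne_zero.2 hν) ![c, c', d, t' • m, v] b'
          (fun i j hij => by
            fin_cases i <;> fin_cases j <;> first
              | exact absurd rfl hij
              | (simp only [Matrix.cons_val]; first | assumption | (rw [hg.symm]; assumption)))
          hbo (fun i => by
            have htm : g (t' • m) (t' • m) ≠ 0 := ht' ▸ hν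
            fin_cases i <;> simp only [Matrix.cons_val, Fin.zero_eta, Fin.reduceFinMk] <;> assumption) hb0 (r := g v v * g v v)
          (by
            rw [hbprod]
            simp only [Fin.prod_univ_five, Matrix.cons_val_zero, Matrix.cons_val_one, Matrix.cons_val, hc, hc', hd,
              ht']
            ring) ⟨_, rfl⟩
        obtain ⟨t'', ht''⟩ := O.scale_norm (neg_ne_zero.2 hν) hv hsqv
        exact ⟨t'' • v, ht'', by rw [map_smul, v1, smul_zero], by rw [map_smul, v2, smul_zero],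
          by rw [map_smul, v3, smul_zero], by rw [map_smul, v4, smul_zero]⟩
      rcases hcases with ⟨hB, rfl, h2⟩ | ⟨hB, ⟨rfl, h1'⟩ | ⟨rfl, h3⟩⟩
      · rw [show B₁ = B₀ from hsel.elim (fun h => h.2.1) fun h => absurd rfl h.1]
        subst hB
        rw [neg_one_smul] at hB₀d
        have hd1 := eigW_refl_mul' hg hB₀i hd0 hB₀d
        obtain ⟨m, hm0, hmm, hm'⟩ := eq_refl_of_one hg (B := refl g d ∘ₗ B₀)
          (fun u v => by simp [hg.refl_isometry hd0, hB₀i])
          (refl_invol hg hB₀i hB₀2 hd0 (l := -1) (by norm_num) (by rw [hB₀d, neg_one_smul])) (by omega)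
        have hfix : ∀ v, (refl g d ∘ₗ B₀) v = v → g m v = 0 := fun v hv => by
          rw [hm', MixTensor.refl_apply, sub_eq_self, smul_eq_zero] at hv
          have := hv.resolve_right fun h => hm0 (by simp [h])
          simpa [h20, hm0] using this
        have g1 : g c m = 0 := by
          rw [hg.symm]
          exact hfix c (by rw [LinearMap.comp_apply, hB₀c, hg.refl_fix (by rw [hg.symm, hcd])])
        have g2 : g c' m = 0 := by
          rw [hg.symm]
          exact hfix c' (by rw [LinearMap.comp_apply, hB₀c', hg.refl_fix (by rw [hg.symm, hc'd])])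
        have g3 : g d m = 0 := by
          rw [hg.symm]
          refine hfix d ?_
          rw [LinearMap.comp_apply, hB₀d, MixTensor.refl_apply, map_neg]
          match_scalars
          field_simp
          ring
        have hBdm : B₀ = refl g d ∘ₗ refl g m := by
          rw [← hm']; exact LinearMap.ext fun v => (hg.refl_refl hd0 _).symm
        have hνm : IsSquare (ν * g m m) := hd ▸ O.sq_of_pair ha heK hd0 hm0 (hBdm ▸ eB)
        obtain ⟨v, hv, v1, v2, v3, v4⟩ := hrest m hm0 g1 g2 g3 hνm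
        refine ⟨c + v, ?_, ?_, by simp [hc, hv, v1, hg.symm c v], ?_, Or.inl ⟨rfl, h2⟩⟩
        · rw [LinearMap.comp_apply, map_add, hB₀c, hBdm, LinearMap.comp_apply, hg.refl_fix v4, hg.refl_fix v3,
            hg.refl_fix (by simp [hg.symm c c', hcc, v2])]
        · intro h0
          have h' := congrArg (g c) h0
          rw [map_add, v1, add_zero, map_zero] at h'
          exact hc0 h'
        · rw [eigW_refl_mul hg hB₀i hc'0 hB₀c', h2]
      · rw [show B₁ = refl g c ∘ₗ B₀ from hsel.elim (fun h => absurd h.1 hne) fun h => h.2.1]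
        obtain ⟨m, hm0, hmm, hm'⟩ := eq_refl_of_one hg hB₀i hB₀2 h1'
        have hfix : ∀ v, B₀ v = v → g m v = 0 := fun v hv => by
          rw [hm', MixTensor.refl_apply, sub_eq_self, smul_eq_zero] at hv
          have := hv.resolve_right fun h => hm0 (by simp [h])
          simpa [h20, hm0] using this
        rw [one_smul] at hB₀d
        have g1 : g c m = 0 := by rw [hg.symm]; exact hfix c hB₀c
        have g2 : g c' m = 0 := by rw [hg.symm]; exact hfix c' hB₀c'
        have g3 : g d m = 0 := by rw [hg.symm]; exact hfix d hB₀d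
        have hνm : IsSquare (ν * g m m) := hc ▸ O.sq_of_pair ha heK hc0 hm0 (by rw [← hm', ← hB]; exact eB)
        obtain ⟨v, hv, v1, v2, v3, v4⟩ := hrest m hm0 g1 g2 g3 hνm
        have hi2 : ∀ u u', g ((refl g c ∘ₗ B₀) u) ((refl g c ∘ₗ B₀) u') = g u u' := fun u u' => by
          simp [hg.refl_isometry hc0, hB₀i]
        refine ⟨d + v, ?_, ?_, by simp [hd, hv, v3, hg.symm d v], ?_, Or.inr ⟨rfl, h1'⟩⟩
        · rw [LinearMap.comp_apply, LinearMap.comp_apply, map_add, hB₀d, hm', hg.refl_fix v4,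
            hg.refl_fix (e := c) (x := d + v) (by simp [hcd, v1]), hg.refl_fix (e := c') (x := d + v) (by simp [hc'd, v2])]
        · intro h0
          have h' := congrArg (g d) h0
          rw [map_add, v3, add_zero, map_zero] at h'
          exact hd0 h'
        · rw [eigW_refl_mul hg hi2 hc'0 (by
            rw [LinearMap.comp_apply, hB₀c', hg.refl_fix hcc]), eigW_refl_mul hg hB₀i hc0 hB₀c, h1']
      · exfalso
        -- the reflection in the hyperplane is not in the group
        have hj : ∀ y, g c y = 0 → g c' y = 0 → B₀ y = -y := by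
          intro y gy gy'
          have hE := eigW_sum h20 hB₀2
          set P := eigW B₀ 1
          have hcP : c ∈ P := by rw [mem_eigW, one_smul, hB₀c]
          have hc'P : c' ∈ P := by rw [mem_eigW, one_smul, hB₀c']
          have hspan : Submodule.span F ({c, c'} : Set W) = P := by
            have hli : LinearIndependent F ![c, c'] := by
              rw [LinearIndependent.pair_iff]
              intro s t hst
              have k1 := congrArg (g c) hst
              have k2 := congrArg (g c') hst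
              simp [hc0, hc'0, hcc, hg.symm c c'] at k1 k2
              exact ⟨k1, k2⟩
            refine Submodule.eq_of_le_of_finrank_eq (Submodule.span_le.2 (by
              rintro v (rfl | rfl) <;> assumption)) ?_
            have hr : Set.range ![c, c'] = ({c, c'} : Set W) := by simp [Matrix.range_cons, Set.pair_comm]
            have h2' := finrank_span_eq_card hli
            rw [hr, Fintype.card_fin] at h2'
            omega
          obtain ⟨α, β, hαβ⟩ := Submodule.mem_span_pair.1 (hspan ▸ show y + B₀ y ∈ P by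
            rw [mem_eigW, one_smul, map_add, hB₀2, add_comm])
          have e1 : g c (B₀ y) = 0 := by rw [← hB₀c, hB₀i, gy]
          have e2 : g c' (B₀ y) = 0 := by rw [← hB₀c', hB₀i, gy']
          have k1 := congrArg (g c) hαβ
          have k2 := congrArg (g c') hαβ
          simp [gy, gy', e1, e2, hcc, hg.symm c c', hc0, hc'0] at k1 k2
          rw [k1, k2, zero_smul, zero_smul, add_zero, eq_comm, add_eq_zero_iff_eq_neg'] at hαβ
          exact hαβ
        have hB4 : B = refl g c ∘ₗ refl g d ∘ₗ refl g p ∘ₗ refl g q₀ := by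
          rw [hB]
          congr 1
          have hneg : ∀ u, g u u ≠ 0 → refl g u u = -u := fun u hu => by
            rw [MixTensor.refl_apply]
            match_scalars
            field_simp
            ring
          refine (Frame.ext (g := g) (s := Finset.univ.image b') ?_ ?_ ?_)
          · intro v hv
            obtain ⟨i, -, rfl⟩ := Finset.mem_image.1 hv
            refine ⟨hb0 i, fun w hw hne' => ?_⟩
            obtain ⟨j, -, rfl⟩ := Finset.mem_image.1 hw
            exact hbo i j fun h => hne' (h ▸ rfl)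
          · rw [Finset.card_image_of_injective _ fun i j h => by
              by_contra hne'
              have := hbo i j hne'
              rw [h] at this
              exact hb0 j this, Finset.card_univ, Fintype.card_fin, h5]
          · intro v hv
            obtain ⟨i, -, rfl⟩ := Finset.mem_image.1 hv
            simp only [LinearMap.comp_apply]
            fin_cases i <;> simp only [hb', Matrix.cons_val, Fin.reduceFinMk, Fin.zero_eta, Fin.isValue]
            · rw [hB₀c, hg.refl_fix ((hg.symm _ _).trans hcq), hg.refl_fix ((hg.symm _ _).trans hcp),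
                hg.refl_fix ((hg.symm _ _).trans hcd)]
            · rw [hB₀c', hg.refl_fix ((hg.symm _ _).trans hc'q), hg.refl_fix ((hg.symm _ _).trans hc'p),
                hg.refl_fix ((hg.symm _ _).trans hc'd)]
            · rw [hj d hcd hc'd, hg.refl_fix ((hg.symm _ _).trans hdq), hg.refl_fix ((hg.symm _ _).trans hdp),
                hneg d hd0]
            · rw [hj p hcp hc'p, hg.refl_fix ((hg.symm _ _).trans hpq), hneg p hp0, map_neg, hg.refl_fix hdp]
            · rw [hj q₀ hcq hc'q, hneg q₀ hq0, map_neg, map_neg, hg.refl_fix hpq, hg.refl_fix hdq]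
        have h4 := O.sq_of_four ha heK hc0 hd0 hp0 hq0 (hB4 ▸ eB)
        rw [hc, hd, hp, ht₀] at h4
        obtain ⟨r, hr⟩ := h4
        refine hm ⟨r / (ν * ν), ?_⟩
        field_simp
        linear_combination hr
    have hB'i : ∀ u v, g (B₁ u) (B₁ v) =
        g u v := fun u v => by rcases hsel with ⟨-, h, -⟩ | ⟨-, h, -⟩ <;> simp [h, hg.refl_isometry hc0, hB₀i]
    have hB'2 : ∀ u, B₁ (B₁ u) = u :=
      fun u => by
        rcases hsel with ⟨-, h, -⟩ | ⟨-, h, -⟩ <;> rw [h]
        · exact hB₀2 u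
        · exact refl_invol hg hB₀i hB₀2 hc0 (one_mul 1) (by rw [one_smul, hB₀c]) u
    have hB'c' : B₁ c' = c' := by
      rcases hsel with ⟨-, h, -⟩ | ⟨-, h, -⟩ <;> rw [h]
      · exact hB₀c'
      · rw [LinearMap.comp_apply, hB₀c', hg.refl_fix hcc]
    have hTx : Tens T x := by
      refine O.tens_of_commute (y := x) (k := Rc' * E₁) (B := refl g c' ∘ₗ B₁) hxK ?_
        (fun u v => (hg.refl_isometry hc'0 _ _).trans (hB'i u v))
        (refl_invol hg hB'i hB'2 hc'0 (one_mul 1) (by rw [one_smul, hB'c'])) ?_ (l := -1) (Or.inr rfl) hj3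
        (w₀ := w₀) (by rw [neg_neg, one_smul]; exact hw₀) hw₀0 hiso
      · refine O.pure_mul eRc' ?_
        rcases hsel with ⟨-, h, h'⟩ | ⟨-, h, h'⟩ <;> rw [h, h']
        · exact eB₀
        · exact O.pure_mul eRc eB₀
      · refine (O.commute_refl hxc' eRc').mul_right ?_
        rcases hsel with ⟨-, -, h'⟩ | ⟨-, -, h'⟩ <;> rw [h']
        · exact hxE
        · exact (O.commute_refl hxc eRc).mul_right hxE
    obtain ⟨Bx, hxi, hxx, ex, hBxc'⟩ := O.pure_of_fix hTx hx2 hc'ne hxc'
    have hBxc : Bx c = c := O.T_injective' ha₀ (by rw [← ex, hxc])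
    have hmB : finrank F (eigW Bx (-1)) = 2 := by
      have h := hmz
      rw [(O.eig_pure ex hxx).2] at h
      exact Nat.eq_of_mul_eq_mul_left hU h
    -- the fixed line outside the plane
    have h6i : ∀ u v, g ((refl g c ∘ₗ Bx) u) ((refl g c ∘ₗ Bx) v) = g u v := fun u v => by
      simp [hg.refl_isometry hc0, hxi]
    have h6c : (refl g c ∘ₗ Bx) c' = c' := by rw [LinearMap.comp_apply, hBxc', hg.refl_fix hcc]
    have h6 := refl_invol hg hxi hxx hc0 (one_mul 1) (by rw [one_smul, hBxc])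
    have h7 := refl_invol hg h6i h6 hc'0 (one_mul 1) (by rw [one_smul, h6c])
    have d6 := eigW_refl_mul hg hxi hc0 hBxc
    have d7 := eigW_refl_mul hg h6i hc'0 h6c
    set B7 := refl g c' ∘ₗ refl g c ∘ₗ Bx
    have s7 := eigW_sum h20 h7
    have hneg1 : eigW (-B7) (-1) = eigW B7 1 := Submodule.ext fun v => by
      simp only [mem_eigW, LinearMap.neg_apply, neg_one_smul, one_smul, neg_inj]
    obtain ⟨l', hl'0, -, hl'⟩ := eq_refl_of_one hg (B := -B7)
      (fun u v => by simp [B7, hg.refl_isometry hc'0, hg.refl_isometry hc0, hxi])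
      (fun u => by simp only [LinearMap.neg_apply, map_neg, neg_neg]; exact h7 u) (by rw [hneg1]; omega)
    have hB7 : ∀ v, g l' v = 0 → B7 v = -v := fun v hv => by
      have h := LinearMap.congr_fun hl' v
      rw [LinearMap.neg_apply, hg.refl_fix hv, neg_eq_iff_eq_neg] at h
      exact h
    refine ⟨(g l' l')⁻¹ • (O.C l' ∘ₗ ((s : V ≃ₗ[F] V) : V →ₗ[F] V) ∘ₗ T.flip l), l', fun a => ?_⟩
    set v := (s : V ≃ₗ[F] V) (T a l) with hv
    have hxv : (x : V ≃ₗ[F] V) v = v := by
      show (s : V ≃ₗ[F] V) ((z : V ≃ₗ[F] V) ((s : V ≃ₗ[F] V).symm ((s : V ≃ₗ[F] V) (T a l)))) = _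
      rw [LinearEquiv.symm_apply_apply, ez, LinearMap.comp_apply, O.refl2_fix f3 hly₂]
    have hCv : ∀ u, (∀ b, (s : V ≃ₗ[F] V) (T b u) = T b u) → g u l = 0 → O.C u v = 0 := fun u hu hul =>
      O.fext fun b => by
        rw [O.f_C, ← hu b, OQ.map_polar, O.polarT, hul, mul_zero, map_zero]
    refine O.V_ext fun z' => ?_
    rw [show T (((g l' l')⁻¹ • (O.C l' ∘ₗ ((s : V ≃ₗ[F] V) : V →ₗ[F] V) ∘ₗ T.flip l)) a) l' =
      T ((g l' l')⁻¹ • O.C l' v) l' from rfl, O.C_T, smul_smul]
    set u := z' - (g l' z' / g l' l') • l'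
    have hu : g l' u = 0 := by simp [u, hl'0]
    have hBu : Bx u = refl g c (refl g c' (-u)) := by
      rw [← hB7 u hu]
      show Bx u = refl g c (refl g c' (refl g c' (refl g c (Bx u))))
      rw [hg.refl_refl hc'0, hg.refl_refl hc0]
    have h0 : O.C u v = 0 := by
      have h := O.C_pure ex hxi hxx u v
      rw [hxv, hBu, MixTensor.refl_apply, MixTensor.refl_apply] at h
      simp only [map_sub, map_smul, map_neg, LinearMap.sub_apply, LinearMap.smul_apply, LinearMap.neg_apply,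
        hCv c hsc hcl, hCv c' hsc' hc'l, smul_zero, sub_zero] at h
      have h' : (2 : F) • O.C u v = 0 := by rw [two_smul]; nth_rw 1 [h]; exact neg_add_cancel _
      exact (smul_eq_zero.1 h').resolve_left h20
    conv_lhs => rw [show z' = u + (g l' z' / g l' l') • l' by simp [u]]
    rw [map_add, LinearMap.add_apply, h0, zero_add, map_smul, LinearMap.smul_apply, hg.symm l' z', div_eq_mul_inv]
  -- three lines
  have hFr := Frame.two hg hc0 hc'0 hcc
  have hc2 : ({c, c'} : Finset W).card ≤ 2 := Finset.card_le_two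
  obtain ⟨l₁, hl₁, hl₁p⟩ := exists_norm_frame hg hFr (by omega) (neg_ne_zero.2 hν)
  have hl₁0 : g l₁ l₁ ≠ 0 := hl₁ ▸ neg_ne_zero.2 hν
  have hFr3 := hFr.insert hg hl₁0 hl₁p
  have hc3 := Finset.card_insert_le l₁ ({c, c'} : Finset W)
  obtain ⟨l₂, hl₂, hl₂p⟩ := exists_norm_frame hg hFr3 (by omega) (neg_ne_zero.2 hν)
  have hl₂0 : g l₂ l₂ ≠ 0 := hl₂ ▸ neg_ne_zero.2 hν
  have hc4 := Finset.card_insert_le l₂ (Insert.insert l₁ ({c, c'} : Finset W))
  obtain ⟨r, hr, hrp⟩ := exists_aniso_frame hg (hFr3.insert hg hl₂0 hl₂p) (by omega)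
  have o1 := hl₁p c (by simp)
  have o2 := hl₁p c' (by simp)
  have o3 := hl₂p c (by simp)
  have o4 := hl₂p c' (by simp)
  have o5 := hl₂p l₁ (by simp)
  have o6 := hrp c (by simp)
  have o7 := hrp c' (by simp)
  have o8 := hrp l₁ (by simp)
  have o9 := hrp l₂ (by simp)
  obtain ⟨t₃, ht₃⟩ := O.scale_norm (neg_ne_zero.2 hν) hr (O.fifth h5 (neg_ne_zero.2 hν) ![c, c', l₁, l₂, r] b'
    (fun i j hij => by
      fin_cases i <;> fin_cases j <;> first
        | exact absurd rfl hij
        | (simp only [Matrix.cons_val]; first | assumption | (rw [hg.symm]; assumption)))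
    hbo (fun i => by fin_cases i <;> simp [hc0, hc'0, hl₁0, hl₂0, hr]) hb0 (r := g r r * g r r)
    (by
      rw [hbprod]
      simp only [Fin.prod_univ_five, Matrix.cons_val_zero, Matrix.cons_val_one, Matrix.cons_val, hc, hc', hl₁, hl₂]
      ring) ⟨_, rfl⟩)
  set l₃ := t₃ • r
  have hl₃0 : g l₃ l₃ ≠ 0 := ht₃ ▸ neg_ne_zero.2 hν
  have o13 : g l₁ l₃ = 0 := by rw [map_smul, o8, smul_zero]
  have o23 : g l₂ l₃ = 0 := by rw [map_smul, o9, smul_zero]
  have o3c : g c l₃ = 0 := by rw [map_smul, o6, smul_zero]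
  have o3c' : g c' l₃ = 0 := by rw [map_smul, o7, smul_zero]
  obtain ⟨A₁, p₁, e₁⟩ := hline l₁ o1 o2 hl₁
  obtain ⟨t₁, t₂, htt, ht₁, ht₂⟩ : ∃ x y : F, x * x + y * y = 1 ∧ x ≠ 0 ∧ y ≠ 0 := by
    obtain ⟨t, h0, h1', hm1⟩ := hq
    have hd' : 1 + t * t ≠ 0 := fun h => hm ⟨t, by linear_combination -h⟩
    refine ⟨(1 - t * t) / (1 + t * t), 2 * t / (1 + t * t), by
      rw [div_mul_div_comm, div_mul_div_comm, ← add_div, div_eq_one_iff_eq (mul_ne_zero hd' hd')]; ring, div_ne_zero (fun h => ?_) hd',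
      div_ne_zero (mul_ne_zero h20 h0) hd'⟩
    rcases mul_self_eq_one_iff.1 (show t * t = 1 by linear_combination -h) with h' | h'
    · exact h1' h'
    · exact hm1 h'
  -- equal first factors
  have hsame : ∀ l, g c l = 0 → g c' l = 0 → g l l = -ν → g l₁ l = 0 → ∃ q' : W,
      ∀ a, (s : V ≃ₗ[F] V) (T a l) = T (A₁ a) q' := by
    intro l k1 k2 k3 k4
    obtain ⟨A, q', e⟩ := hline l k1 k2 k3
    obtain ⟨A', r', e'⟩ := hline (t₁ • l₁ + t₂ • l) (by simp [o1, k1]) (by simp [o2, k2]) (by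
      simp [hl₁, k3, k4, hg.symm l₁ l]; linear_combination (-ν) * htt)
    have hcomb : ∀ a, T (A' a) r' = t₁ • T (A₁ a) p₁ + t₂ • T (A a) q' := fun a => by
      rw [← e', ← e₁, ← e, map_add, map_add, map_smul, map_smul, map_smul, map_smul]
    have hinj : ∀ {l : W} {A : U →ₗ[F] U} {q : W}, g l l ≠ 0 → (∀ a, (s : V ≃ₗ[F] V) (T a l) = T (A a) q) →
        Function.Surjective A := fun {l A q} hl e => LinearMap.injective_iff_surjective.1 fun a b h =>
      O.T_injective (fun h0 : l = 0 => hl (by simp [h0])) ((s : V ≃ₗ[F] V).injective (by rw [e, e, h]))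
    have hs1 := hinj hl₁0 e₁
    have hs2 := hinj (k3 ▸ neg_ne_zero.2 hν) e
    obtain ⟨b, hb⟩ := O.hf.exists_aniso
    have hgp : g p₁ p₁ ≠ 0 := fun h0 => by
      have h := OQ.map_polar s (T b l₁) (T b l₁)
      rw [e₁, O.polarT, O.polarT, h0, mul_zero] at h
      exact mul_ne_zero hb hl₁0 h.symm
    have hpq' : g p₁ q' = 0 := by
      obtain ⟨a₁, ha₁⟩ := hs1 b
      obtain ⟨a₂, ha₂⟩ := hs2 b
      have h := OQ.map_polar s (T a₁ l₁) (T a₂ l)
      rw [e₁, e, O.polarT, O.polarT, ha₁, ha₂, k4, mul_zero, mul_eq_zero] at h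
      exact h.resolve_left hb
    have hgq : g q' q' ≠ 0 := fun h0 => by
      have h := OQ.map_polar s (T b l) (T b l)
      rw [e, O.polarT, O.polarT, h0, mul_zero, k3] at h
      exact mul_ne_zero hb (neg_ne_zero.2 hν) h.symm
    have c1 : ∀ a, g p₁ r' • A' a = (t₁ * g p₁ p₁) • A₁ a := fun a => by
      have h := congrArg (O.C p₁) (hcomb a)
      rw [map_add, map_smul, map_smul, O.C_T, O.C_T, O.C_T, hpq', zero_smul, smul_zero, add_zero, smul_smul] at h
      exact h
    have c2 : ∀ a, g q' r' • A' a = (t₂ * g q' q') • A a := fun a => by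
      have h := congrArg (O.C q') (hcomb a)
      rw [map_add, map_smul, map_smul, O.C_T, O.C_T, O.C_T, hg.symm p₁ q', hpq', zero_smul, smul_zero, zero_add,
        smul_smul] at h
      exact h
    have hpr : g p₁ r' ≠ 0 := fun h0 => by
      obtain ⟨a₁, ha₁⟩ := hs1 b
      have h := c1 a₁
      rw [h0, zero_smul, ha₁, eq_comm, smul_eq_zero] at h
      exact h.elim (mul_ne_zero ht₁ hgp) fun h' => hb (by simp [h'])
    set γ := (t₂ * g q' q')⁻¹ * (g q' r' * ((g p₁ r')⁻¹ * (t₁ * g p₁ p₁)))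
    refine ⟨γ • q', fun a => ?_⟩
    have hA : A a = γ • A₁ a := by
      rw [← inv_smul_smul₀ (mul_ne_zero ht₂ hgq) (A a), ← c2, ← inv_smul_smul₀ hpr (A' a), c1]
      simp only [γ, smul_smul]
    rw [e, hA, map_smul, LinearMap.smul_apply, map_smul]
  obtain ⟨p₂, e₂⟩ := hsame l₂ o3 o4 hl₂ o5
  obtain ⟨p₃, e₃⟩ := hsame l₃ o3c o3c' ht₃ o13
  obtain ⟨α, β, hαβ⟩ := MixTensor.exists_two_squares h20 (-1 : F)
  have hcomb : ∀ (x y z' : F) a, (s : V ≃ₗ[F] V) (T a (x • l₁ + y • l₂ + z' • l₃)) =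
      T (A₁ a) (x • p₁ + y • p₂ + z' • p₃) := fun x y z' a => by
    simp only [map_add, map_smul, e₁, e₂, e₃]
  set k := (-(2 * ν))⁻¹
  have hk : k * -(2 * ν) = 1 := inv_mul_cancel₀ (neg_ne_zero.2 (mul_ne_zero h20 hν))
  set w := α • l₁ + β • l₂ + (1 : F) • l₃
  set u := (-(α * k)) • l₁ + (-(β * k)) • l₂ + k • l₃
  have hw : g w w = 0 := by
    simp [w, hl₁, hl₂, ht₃, o5, o13, o23, hg.symm l₁ l₂, hg.symm l₁ l₃, hg.symm l₂ l₃]
    linear_combination (-ν) * hαβ
  have hu : g u u = 0 := by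
    simp [u, hl₁, hl₂, ht₃, o5, o13, o23, hg.symm l₁ l₂, hg.symm l₁ l₃, hg.symm l₂ l₃]
    linear_combination (-(ν * k * k)) * hαβ
  have hwu : g w u = 1 := by
    simp [w, u, hl₁, hl₂, ht₃, o5, o13, o23, hg.symm l₁ l₂, hg.symm l₁ l₃, hg.symm l₂ l₃]
    linear_combination hk + (ν * k) * hαβ
  obtain ⟨b, hb⟩ := O.hf.exists_aniso
  have hiso : ∀ v v' : W, g v v = 0 → (∀ a, (s : V ≃ₗ[F] V) (T a v) = T (A₁ a) v') → g v' v' = 0 := by
    intro v v' hv ev
    have hsurj : Function.Surjective A₁ := LinearMap.injective_iff_surjective.1 fun a b h =>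
      O.T_injective (fun h0 : l₁ = 0 => hl₁0 (by simp [h0])) ((s : V ≃ₗ[F] V).injective (by rw [e₁, e₁, h]))
    obtain ⟨a₁, ha₁⟩ := hsurj b
    have h := OQ.map_polar s (T a₁ v) (T a₁ v)
    rw [ev, O.polarT, O.polarT, hv, mul_zero, ha₁, mul_eq_zero] at h
    exact h.resolve_left hb
  exact O.tens_two_lines hs hw hu hwu (hiso w _ hw (hcomb α β 1)) (hiso u _ hu (hcomb _ _ _)) (hcomb α β 1)
    (hcomb _ _ _)

end Over

end CfsgLib.Geo.OrthTensor
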