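/-
A larger second factor of odd dimension: every element of the overgroup is a product.
-/
import Cfsg.Agent.Lib.Geo.OrthTensor.Five

set_option autoImplicit false
set_option linter.unusedSectionVars false

namespace CfsgLib.Geo.OrthTensor

open CfsgLib.Classical CfsgLib.Classical.Quad Module
open CfsgLib.Geo.MixTensor (SymForm refl)
open QuadraticMap (polar polarBilin)
open LinearMap (BilinForm)

variable {F : Type*} [Field F] [Finite F] {U W V : Type*} [AddCommGroup U] [Module F U] [FiniteDimensional F U]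
  [AddCommGroup W] [Module F W] [FiniteDimensional F W] [AddCommGroup V] [Module F V] [FiniteDimensional F V]
  {Q : QuadraticForm F V} {f : BilinForm F U} {g : BilinForm F W} {T : U →ₗ[F] W →ₗ[F] V}
  {K : Subgroup (OQ Q)}

/-- Products of pairs reach the negative of a reflection in odd dimension. -/
theorem exists_neg_refl {X : Type*} [AddCommGroup X] [Module F X] [FiniteDimensional F X] {h : BilinForm F X}
    (hh : SymForm h) (ho : Odd (finrank F X)) (P : (X →ₗ[F] X) → Prop) (h1 : P LinearMap.id)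
    (step : ∀ B y₁ y₂, P B → h y₁ y₁ = 1 → h y₂ y₂ = 1 → P (B ∘ₗ refl h y₁ ∘ₗ refl h y₂)) :
    ∃ c, h c c ≠ 0 ∧ P (-refl h c) := by
  classical
  obtain ⟨m, hm⟩ := ho
  have key : ∀ k : ℕ, k ≤ m → ∃ (s : Finset X) (B : X →ₗ[F] X), Frame h s ∧ s.card = 2 * k ∧ P B ∧
      (∀ a ∈ s, B a = -a) ∧ ∀ y, (∀ a ∈ s, h a y = 0) → B y = y := by
    intro k
    induction k with
    | zero => exact fun _ => ⟨∅, LinearMap.id, by simp [Frame], by simp, h1, by simp, fun y _ => rfl⟩
    | succ k ih =>
      intro hk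
      obtain ⟨s, B, hs, hsc, hB, hneg, hfix⟩ := ih (by omega)
      obtain ⟨y₁, hy₁, hy₁p⟩ := exists_norm_frame hh hs (by omega) (one_ne_zero (α := F))
      have hy₁0 : h y₁ y₁ ≠ 0 := hy₁ ▸ one_ne_zero
      have hs1 := hs.insert hh hy₁0 hy₁p
      have hy₁s : y₁ ∉ s := fun hmem => hy₁0 (hy₁p y₁ hmem)
      have hc1 : (Insert.insert y₁ s).card = 2 * k + 1 := by rw [Finset.card_insert_of_notMem hy₁s, hsc]
      obtain ⟨y₂, hy₂, hy₂p⟩ := exists_norm_frame hh hs1 (by omega) (one_ne_zero (α := F))
      have hy₂0 : h y₂ y₂ ≠ 0 := hy₂ ▸ one_ne_zero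
      have hy₂s : y₂ ∉ Insert.insert y₁ s := fun hmem => hy₂0 (hy₂p y₂ hmem)
      have h12 : h y₁ y₂ = 0 := hy₂p y₁ (Finset.mem_insert_self _ _)
      have hneg' : ∀ u, h u u ≠ 0 → refl h u u = -u := fun u hu => by
        rw [MixTensor.refl_apply]
        match_scalars
        field_simp
        ring
      refine ⟨Insert.insert y₂ (Insert.insert y₁ s), B ∘ₗ refl h y₁ ∘ₗ refl h y₂, hs1.insert hh hy₂0 hy₂p,
        by rw [Finset.card_insert_of_notMem hy₂s, hc1]; ring, step B y₁ y₂ hB hy₁ hy₂, ?_, ?_⟩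
      · intro a ha
        rw [LinearMap.comp_apply, LinearMap.comp_apply]
        rcases Finset.mem_insert.1 ha with rfl | ha
        · rw [hneg' a hy₂0, map_neg, hh.refl_fix h12, map_neg,
            hfix a fun b hb => hy₂p b (Finset.mem_insert_of_mem hb)]
        rcases Finset.mem_insert.1 ha with rfl | ha
        · rw [hh.refl_fix (e := y₂) (x := a) (by rw [hh.symm, h12]), hneg' a hy₁0, map_neg, hfix a hy₁p]
        · rw [hh.refl_fix (e := y₂) (x := a) (by rw [hh.symm]; exact hy₂p a (Finset.mem_insert_of_mem ha)),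
            hh.refl_fix (e := y₁) (x := a) (by rw [hh.symm]; exact hy₁p a ha), hneg a ha]
      · intro y hy
        rw [LinearMap.comp_apply, LinearMap.comp_apply, hh.refl_fix (hy y₂ (Finset.mem_insert_self _ _)),
          hh.refl_fix (hy y₁ (Finset.mem_insert_of_mem (Finset.mem_insert_self _ _))),
          hfix y fun a ha => hy a (Finset.mem_insert_of_mem (Finset.mem_insert_of_mem ha))]
  obtain ⟨s, B, hs, hsc, hB, hneg, hfix⟩ := key m le_rfl
  obtain ⟨c, hc, hcp⟩ := exists_aniso_frame hh hs (by omega)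
  refine ⟨c, hc, ?_⟩
  have hcs : c ∉ s := fun hmem => hc (hcp c hmem)
  convert hB using 1
  refine Frame.ext (hs.insert hh hc hcp) (by rw [Finset.card_insert_of_notMem hcs, hsc, hm]) fun a ha => ?_
  rcases Finset.mem_insert.1 ha with rfl | ha
  · rw [hfix a hcp, LinearMap.neg_apply, MixTensor.refl_apply]
    match_scalars
    field_simp
    ring
  · rw [hneg a ha, LinearMap.neg_apply, hh.refl_fix (by rw [hh.symm]; exact hcp a ha)]

namespace Over

variable (O : Over Q f g T K)
include O

omit [Finite F] in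
/-- An involution on an invariant eigenspace. -/
theorem split_eig {x e : OQ Q} (hx : x * x = 1) (hc : Commute e x) (l : F) :
    finrank F (eig e l) = finrank F (eig e l ⊓ eig x 1 : Submodule F V) +
      finrank F (eig e l ⊓ eig x (-1) : Submodule F V) := by
  have hxx : ∀ v, (x : V ≃ₗ[F] V) ((x : V ≃ₗ[F] V) v) = v := fun v => by
    show ((x * x : OQ Q) : V ≃ₗ[F] V) v = v
    rw [hx]; rfl
  have hC := eigW_isCompl O.two (B := ((x : V ≃ₗ[F] V) : V →ₗ[F] V)) hxx
  have hsup : (eig e l ⊓ eig x 1) ⊔ (eig e l ⊓ eig x (-1)) = eig e l := by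
    refine le_antisymm (sup_le inf_le_left inf_le_left) fun v hv => ?_
    obtain ⟨p, hp, q, hq, rfl⟩ := Submodule.mem_sup.1 (show v ∈ eig x 1 ⊔ eig x (-1) by
      rw [show eig x 1 ⊔ eig x (-1) = ⊤ from hC.sup_eq_top]; trivial)
    have h' : (e : V ≃ₗ[F] V) ((x : V ≃ₗ[F] V) (p + q)) = l • (x : V ≃ₗ[F] V) (p + q) := by
      show ((e * x : OQ Q) : V ≃ₗ[F] V) (p + q) = _
      rw [hc.eq]
      show (x : V ≃ₗ[F] V) ((e : V ≃ₗ[F] V) (p + q)) = _
      rw [mem_eig.1 hv, map_smul]
    have hxpq : (x : V ≃ₗ[F] V) (p + q) = p - q := by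
      rw [map_add, mem_eig.1 hp, mem_eig.1 hq, one_smul, neg_one_smul, sub_eq_add_neg]
    rw [hxpq, map_sub, smul_sub] at h'
    have h := mem_eig.1 hv
    rw [map_add, smul_add] at h
    have hp' : (e : V ≃ₗ[F] V) p = l • p := smul_right_injective V O.two (by
      linear_combination (norm := module) h + h')
    refine Submodule.add_mem_sup ⟨mem_eig.2 hp', hp⟩ ⟨mem_eig.2 ?_, hq⟩
    linear_combination (norm := module) h - hp'
  have h := Submodule.finrank_sup_add_finrank_inf_eq (eig e l ⊓ eig x 1) (eig e l ⊓ eig x (-1))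
  rw [hsup, show (eig e l ⊓ eig x 1) ⊓ (eig e l ⊓ eig x (-1)) = ⊥ from eq_bot_iff.2 fun v hv =>
    Submodule.disjoint_def.1 hC.disjoint v hv.1.2 hv.2.2, finrank_bot] at h
  omega

/-- **The conjugates of the negative of a reflection are products.** -/
theorem neg_refl_tens (hb : Odd (finrank F W)) {ε : F} (hε : ε ≠ 0)
    (hE : ∀ c c' : W, g c c ≠ 0 → g c' c' = ε * g c c → Elig U g c c')
    (hG : ∀ c c' : W, g c c ≠ 0 → g c' c' = ε * g c c → g c c' = 0 → ∀ y ∈ K, ∀ k : OQ Q,
      Pure T k (refl g c ∘ₗ refl g c') → Commute y k → Tens T y)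
    {t : OQ Q} (ht : t ∈ K) {c : W} (hc : g c c ≠ 0) (et : Pure T t (-refl g c)) {g' : OQ Q} (hg' : g' ∈ K) :
    Tens T (g' * t * g'⁻¹) := by
  classical
  have hg := O.hg
  have h20 := O.two
  have := finite_OQ Q
  have := O.nontriv
  have hU : 0 < finrank F U := by have := O.small.three; omega
  have hb5 := O.five
  obtain ⟨a₀, ha₀⟩ := exists_ne (0 : U)
  have hti : ∀ y, (-refl g c) ((-refl g c) y) = y := fun y => by
    simp only [LinearMap.neg_apply, map_neg, neg_neg, hg.refl_refl hc]
  set x := g' * t * g'⁻¹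
  have hxK : x ∈ K := K.mul_mem (K.mul_mem hg' ht) (K.inv_mem hg')
  have hx2 : x * x = 1 := by rw [← pow_two, conj_pow, pow_two, O.pure_sq et hti, mul_one, mul_inv_cancel]
  have hneg : eigW (-refl g c) 1 = eigW (refl g c) (-1) := Submodule.ext fun v => by
    simp only [mem_eigW, LinearMap.neg_apply, neg_one_smul, one_smul, neg_eq_iff_eq_neg]
  have hx1 : finrank F (eig x 1) = finrank F U := by
    rw [eig_conj, (O.eig_pure et hti).1, hneg, eigW_one_refl hg hc, mul_one]
  have done : ∀ w : W, w ≠ 0 → g w w = 0 → (∀ a, (x : V ≃ₗ[F] V) (T a w) = -T a w) → Tens T x :=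
    fun w hw0 hw hxw => O.tens_fixed_line hxK hw0 hw (ε := -1) (by norm_num) fun a => by
      rw [hxw, neg_one_smul]
  have grow : ∀ Z : Submodule F W, (∀ z ∈ Z, ∀ a, (x : V ≃ₗ[F] V) (T a z) = -T a z) → finrank F Z ≤ 2 →
      Tens T x ∨ ∃ Z' : Submodule F W, (∀ z ∈ Z', ∀ a, (x : V ≃ₗ[F] V) (T a z) = -T a z) ∧
        finrank F Z < finrank F Z' := by
    intro Z hZ hZ2
    by_cases hiso : ∃ w ∈ Z, w ≠ 0 ∧ g w w = 0
    · obtain ⟨w, hw, hw0, hww⟩ := hiso
      exact Or.inl (done w hw0 hww (hZ w hw))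
    push Not at hiso
    have hZnd : ∀ y ∈ Z, (∀ z ∈ Z, g z y = 0) → y = 0 := fun y hy h => by
      by_contra hy0
      exact hiso y hy hy0 (h y hy)
    -- a pair in general position
    obtain ⟨p, p', hp, hp', hpp', hSZ, hZp⟩ : ∃ p p' : W, g p p ≠ 0 ∧ g p' p' = ε * g p p ∧ g p p' = 0 ∧
        (∀ α β : F, α • p + β • p' ∈ Z → α = 0 ∧ β = 0) ∧ (Z = ⊥ ∨ ∃ z ∈ Z, g p z ≠ 0) := by
      by_cases hZ0 : Z = ⊥
      · have := O.nontrivW
        obtain ⟨p, hp⟩ := hg.exists_aniso
        obtain ⟨p', hp', hpp'⟩ := exists_norm_frame hg (Frame.one g hp) (by simp; omega) (mul_ne_zero hε hp)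
        have hpp := hpp' p (Finset.mem_singleton_self p)
        refine ⟨p, p', hp, hp', hpp, fun α β h => ?_, Or.inl hZ0⟩
        rw [hZ0, Submodule.mem_bot] at h
        have k1 := congrArg (g p) h
        have k2 := congrArg (g p') h
        simp [hp, hpp, hg.symm p p', hp', hε] at k1 k2
        exact ⟨k1, k2⟩
      obtain ⟨z, hz, hz0⟩ := Submodule.exists_mem_ne_zero_of_ne_bot hZ0
      have hzz : g z z ≠ 0 := hiso z hz hz0
      obtain ⟨y, hy, hyZ⟩ := hg.exists_norm_perp Z hZnd (by omega) hzz
      have hy0 : g y y ≠ 0 := hy ▸ hzz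
      have hynd : ∀ v ∈ Z ⊔ Submodule.span F {y}, (∀ u ∈ Z ⊔ Submodule.span F {y}, g u v = 0) → v = 0 := by
        intro v hv h
        obtain ⟨u, hu, u', hu', rfl⟩ := Submodule.mem_sup.1 hv
        obtain ⟨r, rfl⟩ := Submodule.mem_span_singleton.1 hu'
        have k1 := h y (Submodule.mem_sup_right (Submodule.mem_span_singleton_self y))
        rw [map_add, map_smul, hg.symm u y, hyZ u hu, zero_add, smul_eq_mul, mul_eq_zero] at k1
        rw [k1.resolve_right hy0, zero_smul, add_zero] at h ⊢
        exact hZnd u hu fun w hw => h w (Submodule.mem_sup_left hw)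
      have hn : g (z + y) (z + y) = 2 * g z z := by simp [hyZ z hz, hg.symm z y, hy]; ring
      have hdim : finrank F (Z ⊔ Submodule.span F {y} : Submodule F W) ≤ finrank F Z + 1 :=
        (Submodule.finrank_add_le_finrank_add_finrank Z (Submodule.span F {y})).trans
          (by rw [finrank_span_singleton (fun h => hy0 (by simp [h]))])
      obtain ⟨p', hp', hp'P⟩ := hg.exists_norm_perp _ hynd (by omega) (mul_ne_zero hε (mul_ne_zero h20 hzz))
      have hzp' : g z p' = 0 := hp'P z (Submodule.mem_sup_left hz)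
      have hyp' : g y p' = 0 := hp'P y (Submodule.mem_sup_right (Submodule.mem_span_singleton_self y))
      have hp'0 : g p' p' ≠ 0 := hp' ▸ mul_ne_zero hε (mul_ne_zero h20 hzz)
      refine ⟨z + y, p', by rw [hn]; exact mul_ne_zero h20 hzz, by rw [hn, hp'], by simp [hzp', hyp'],
        fun α β h => ?_, Or.inr ⟨z, hz, by simp [hg.symm z y, hyZ z hz, hzz]⟩⟩
      have k1 := hyZ _ h
      have k2 := hp'P _ (Submodule.mem_sup_left h)
      simp [hyZ z hz, hg.symm y p', hyp', hy0, hzp', hy, hzz] at k1 k2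
      subst k1
      simp [hg.symm p' p', hp'0] at k2
      exact ⟨rfl, k2⟩
    have hp'0 : g p' p' ≠ 0 := hp' ▸ mul_ne_zero hε hp
    obtain ⟨q, hq, eq⟩ := O.pairW (hE p p' hp hp')
    obtain ⟨hqi, hq2⟩ := O.pair_invol hp hp'0 hpp'
    set Bq : W →ₗ[F] W := refl g p ∘ₗ refl g p'
    replace eq : Pure T q Bq := eq
    have hC : ∀ y ∈ K, Commute y q → Tens T y := fun y hy hc => hG p p' hp hp' hpp' y hy q eq hc
    have hqm : finrank F (eigW Bq (-1)) = 2 := eigW_two_refl hg hp hp'0 hpp'
    rcases dihedral hx2 (O.pure_sq eq hq2) with ⟨-, j, hj⟩ | ⟨n, j, -, hex, heq, he2, hne, hcase⟩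
    · exfalso
      have h1 := hx1
      rw [← hj, eig_conj, (O.eig_pure eq hq2).1] at h1
      have h2 := eigW_sum h20 hq2
      have h3 : finrank F (eigW Bq 1) = 1 := Nat.eq_of_mul_eq_mul_left hU (by rw [h1, mul_one])
      omega
    set e := (x * q) ^ n
    set k := (x * q) ^ j
    have heK : e ∈ K := K.pow_mem (K.mul_mem hxK hq) n
    have hkK : k ∈ K := K.pow_mem (K.mul_mem hxK hq) j
    have hek : Commute e k := Commute.pow_pow_self _ _ _
    have hTe : Tens T e := hC e heK heq
    have hkinv : ∀ v, (k : V ≃ₗ[F] V).symm v = ((k⁻¹ : OQ Q) : V ≃ₗ[F] V) v := fun v => rfl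
    rcases hcase with ⟨-, hkx, hkq⟩ | ⟨-, hkx⟩
    · -- the pair is conjugate to its product with the central involution
      have hTk : Tens T k := O.key hkK (O.pure_sq eq hq2) hC (hkq ▸ hTe.mul ⟨LinearMap.id, Bq, eq⟩)
      obtain ⟨A, B, hA, hB, eAB⟩ := O.normal_form hTk
      obtain ⟨Ae, Be, -, hBe, hAe2, hBe2, ee⟩ := O.invol_form hTe he2
      have hA' : Function.Surjective A := LinearMap.injective_iff_surjective.1 fun a b h => O.fext fun v => by
        rw [← hA v a, h, hA]
      have hrel : ∀ a y, T (A a) (B (Bq y)) = T (Ae (A a)) (Be (Bq (B y))) := fun a y => by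
        rw [← eAB, ← ee, ← eq]
        have h : k * q = e * q * k := by rw [← hkq]; group
        show ((k * q : OQ Q) : V ≃ₗ[F] V) (T a y) = _
        rw [h]
        show (e : V ≃ₗ[F] V) ((q : V ≃ₗ[F] V) ((k : V ≃ₗ[F] V) (T a y))) = _
        rw [eAB, eq]
      obtain ⟨γ, hγ⟩ : ∃ γ : F, ∀ a, Ae a = γ • a := by
        have hp0 : p ≠ 0 := fun h => hp (by simp [h])
        have hne' : Be (Bq (B p)) ≠ 0 := fun h0 => by
          have h := congrArg (fun v => g v v) h0
          simp only [hBe, hqi, hB, map_zero] at h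
          exact hp h
        obtain ⟨z, hz⟩ := O.exists_partner hne'
        refine ⟨g z (B (Bq p)), fun a => ?_⟩
        obtain ⟨a', rfl⟩ := hA' a
        have h := congrArg (O.C z) (hrel a' p)
        rwa [O.C_T, O.C_T, hz, one_smul, eq_comm] at h
      have hγ2 : γ * γ = 1 := by
        have h := hAe2 a₀
        rw [hγ, hγ, smul_smul] at h
        exact smul_left_injective F ha₀ (h.trans (one_smul F a₀).symm)
      set E := γ • Be
      have eE : Pure T e E := fun a y => by
        rw [ee, hγ, map_smul, LinearMap.smul_apply, LinearMap.smul_apply, map_smul]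
      have hEi : ∀ u v, g (E u) (E v) = g u v := fun u v => by simp [E, hBe, ← mul_assoc, hγ2]
      have hE2 : ∀ u, E (E u) = u := fun u => by simp [E, hBe2, smul_smul, hγ2]
      -- the fixed space of `x` is half of the negative eigenspace
      have hsplit := O.split_eig hx2 hex (-1)
      have hsw : finrank F (eig e (-1) ⊓ eig x 1 : Submodule F V) =
          finrank F (eig e (-1) ⊓ eig x (-1) : Submodule F V) := by
        have hmap : (eig e (-1) ⊓ eig x 1).map ((k : V ≃ₗ[F] V) : V →ₗ[F] V) = eig e (-1) ⊓ eig x (-1) := by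
          have h1 : ∀ v, (e : V ≃ₗ[F] V) ((k : V ≃ₗ[F] V) v) = (k : V ≃ₗ[F] V) ((e : V ≃ₗ[F] V) v) := fun v => by
            show ((e * k : OQ Q) : V ≃ₗ[F] V) v = _
            rw [hek.eq]; rfl
          have h2 : ∀ v, (e : V ≃ₗ[F] V) ((x : V ≃ₗ[F] V) ((k : V ≃ₗ[F] V) v)) =
              (k : V ≃ₗ[F] V) ((x : V ≃ₗ[F] V) v) := fun v => by
            have h : e * x * k = k * x := by rw [← hkx]; group
            show ((e * x * k : OQ Q) : V ≃ₗ[F] V) v = _
            rw [h]; rfl
          have h3 : ∀ v, (e : V ≃ₗ[F] V) ((e : V ≃ₗ[F] V) v) = v := fun v => by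
            show ((e * e : OQ Q) : V ≃ₗ[F] V) v = v
            rw [he2]; rfl
          have h4 : ∀ v, (x : V ≃ₗ[F] V) ((k : V ≃ₗ[F] V) v) =
              (e : V ≃ₗ[F] V) ((k : V ≃ₗ[F] V) ((x : V ≃ₗ[F] V) v)) := fun v => by rw [← h2, h3]
          ext v
          obtain ⟨u, rfl⟩ := (k : V ≃ₗ[F] V).surjective v
          rw [Submodule.mem_map_equiv, LinearEquiv.symm_apply_apply, Submodule.mem_inf, Submodule.mem_inf, mem_eig,
            mem_eig, mem_eig, mem_eig, one_smul, h1, ← map_smul, EmbeddingLike.apply_eq_iff_eq]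
          refine and_congr_right fun hu => ?_
          rw [h4, h1, neg_one_smul, EmbeddingLike.apply_eq_iff_eq]
          constructor
          · intro h; rw [h, hu, neg_one_smul]
          · intro h
            have h' := congrArg (fun v => (e : V ≃ₗ[F] V) v) h
            simp only [h3, map_neg, hu, neg_one_smul, neg_neg] at h'
            exact h'
        rw [← hmap, LinearEquiv.finrank_map_eq]
      have hle : finrank F (eig e (-1) ⊓ eig x 1 : Submodule F V) ≤ finrank F U :=
        (Submodule.finrank_mono inf_le_right).trans hx1.le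
      have hEd := (O.eig_pure eE hE2).2
      rw [hsplit, ← hsw] at hEd
      set m := finrank F (eigW E (-1)) with hm
      have hm2 : m ≤ 2 := Nat.le_of_mul_le_mul_left (by omega) hU
      have hm0 : m ≠ 0 := fun h0 => hne (O.el_ext fun a y => by
        rw [eE, eigW_top h20 hE2 (one_mul 1) (Submodule.finrank_eq_zero.1 h0), one_smul]; rfl)
      have hm1 : m ≠ 1 := by
        intro h1
        obtain ⟨m₀, hm₀, hEm₀, hEr⟩ := eq_refl_of_one hg hEi hE2 h1
        have hcomm : ∀ y, E (Bq y) = Bq (E y) := fun y =>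
          O.pure_unique (O.pure_mul eE eq) (by rw [heq.eq]; exact O.pure_mul eq eE) y
        have hBm : E (Bq m₀) = -Bq m₀ := by rw [hcomm, hEm₀, map_neg]
        obtain ⟨r, hr⟩ : ∃ r : F, Bq m₀ = r • m₀ := by
          refine ⟨g m₀ (Bq m₀) / g m₀ m₀, smul_right_injective W h20 ?_⟩
          rw [hEr, MixTensor.refl_apply] at hBm
          show (2 : F) • Bq m₀ = (2 : F) • ((g m₀ (Bq m₀) / g m₀ m₀) • m₀)
          rw [smul_smul, show 2 * (g m₀ (Bq m₀) / g m₀ m₀) = 2 / g m₀ m₀ * g m₀ (Bq m₀) by ring]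
          linear_combination (norm := module) hBm
        have hr2 : r * r = 1 := by
          have h := hqi m₀ m₀
          rw [hr, map_smul, map_smul, LinearMap.smul_apply, smul_eq_mul, smul_eq_mul] at h
          exact mul_right_cancel₀ hm₀ (by linear_combination h)
        have hd : finrank F (eig (e * q) (-1)) = finrank F U * 2 := by
          rw [← hkq, eig_conj, (O.eig_pure eq hq2).2, hqm]
        rw [(O.eig_pure (O.pure_mul eE eq) (by
          rw [hEr]; exact refl_invol hg hqi hq2 hm₀ hr2 hr)).2] at hd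
        replace hd := Nat.eq_of_mul_eq_mul_left hU hd
        rw [hEr] at hd
        rcases mul_self_eq_one_iff.1 hr2 with rfl | rfl
        · rw [one_smul] at hr
          rw [eigW_refl_mul hg hqi hm₀ hr] at hd
          omega
        · rw [neg_one_smul] at hr
          have := eigW_refl_mul' hg hqi hm₀ hr
          omega
      have hm2' : m = 2 := by omega
      have hfull : eig x 1 ≤ eig e (-1) := by
        have h : eig e (-1) ⊓ eig x 1 = eig x 1 := Submodule.eq_of_le_of_finrank_le inf_le_right (by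
          rw [hx1]; rw [hm2'] at hEd; omega)
        exact h ▸ inf_le_left
      have hs := eigW_sum h20 hE2
      obtain ⟨w, hw, hw0, hww⟩ := hg.exists_isotropic (P := eigW E 1) (by omega)
      refine Or.inl (done w hw0 hww fun a => ?_)
      have he1 : (e : V ≃ₗ[F] V) (T a w) = T a w := by rw [eE, mem_eigW.1 hw, one_smul]
      have hv : T a w + (x : V ≃ₗ[F] V) (T a w) ∈ eig x 1 := by
        rw [mem_eig, one_smul, map_add]
        have : (x : V ≃ₗ[F] V) ((x : V ≃ₗ[F] V) (T a w)) = T a w := by
          show ((x * x : OQ Q) : V ≃ₗ[F] V) _ = _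
          rw [hx2]; rfl
        rw [this, add_comm]
      have h := mem_eig.1 (hfull hv)
      have hex' : (e : V ≃ₗ[F] V) ((x : V ≃ₗ[F] V) (T a w)) = (x : V ≃ₗ[F] V) (T a w) := by
        show ((e * x : OQ Q) : V ≃ₗ[F] V) _ = _
        rw [hex.eq]
        show (x : V ≃ₗ[F] V) ((e : V ≃ₗ[F] V) _) = _
        rw [he1]
      rw [map_add, he1, hex', neg_one_smul, eq_neg_iff_add_eq_zero, ← two_smul F] at h
      exact eq_neg_of_add_eq_zero_right ((smul_eq_zero.1 h).resolve_left h20)
    · -- the product with the central involution is conjugate to `x`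
      have hd : finrank F (eig (e * q) 1) = finrank F U := by rw [← eig_conj k, hkx, hx1]
      have hee : e * q * (e * q) = 1 := by rw [heq.symm.mul_mul_mul_comm, he2, O.pure_sq eq hq2, one_mul]
      have hlt := O.lt
      rcases O.pure_or_pure (hTe.mul ⟨LinearMap.id, Bq, eq⟩) hee (by omega) with ⟨B, hBi, hB2, eB⟩ | ⟨A, -, hA2, eA⟩
      swap
      · exfalso
        have h := (O.toTensor.flip.eig_pure (k := e * q) (B := A) (fun y a => eA a y) hA2).1
        rw [hd] at h
        rcases Nat.eq_zero_or_pos (finrank F (eigW A 1)) with h0 | h0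
        · rw [h0, mul_zero] at h; omega
        · have := Nat.le_mul_of_pos_right (finrank F W) h0
          omega
      have hB1 : finrank F (eigW B 1) = 1 := by
        have h := (O.eig_pure eB hB2).1
        rw [hd] at h
        exact Nat.eq_of_mul_eq_mul_left hU (by rw [mul_one]; exact h.symm)
      have hnB : eigW (-B) (-1) = eigW B 1 := Submodule.ext fun v => by
        simp only [mem_eigW, LinearMap.neg_apply, neg_one_smul, one_smul, neg_inj]
      obtain ⟨m₀, hm₀, -, hBr⟩ := eq_refl_of_one hg (B := -B) (fun u v => by simp [hBi])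
        (fun u => by simp [hB2]) (by rw [hnB, hB1])
      have hB : ∀ y, B y = -refl g m₀ y := fun y => by
        rw [← hBr, LinearMap.neg_apply, neg_neg]
      have hBm : B m₀ = m₀ := by
        rw [hB, MixTensor.refl_apply]
        match_scalars
        field_simp
        ring
      have hcomm : ∀ y, B (Bq y) = Bq (B y) := fun y =>
        O.pure_unique (O.pure_mul eB eq) (by
          rw [(heq.mul_left (Commute.refl q)).eq]; exact O.pure_mul eq eB) y
      have hBqm : B (Bq m₀) = Bq m₀ := by rw [hcomm, hBm]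
      obtain ⟨r, hr⟩ : ∃ r : F, Bq m₀ = r • m₀ := by
        refine ⟨g m₀ (Bq m₀) / g m₀ m₀, smul_right_injective W h20 ?_⟩
        rw [hB, MixTensor.refl_apply] at hBqm
        show (2 : F) • Bq m₀ = (2 : F) • ((g m₀ (Bq m₀) / g m₀ m₀) • m₀)
        rw [smul_smul, show 2 * (g m₀ (Bq m₀) / g m₀ m₀) = 2 / g m₀ m₀ * g m₀ (Bq m₀) by ring]
        linear_combination (norm := module) -hBqm
      have hr2 : r * r = 1 := by
        have h := hqi m₀ m₀
        rw [hr, map_smul, map_smul, LinearMap.smul_apply, smul_eq_mul, smul_eq_mul] at h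
        exact mul_right_cancel₀ hm₀ (by linear_combination h)
      have eE : Pure T e (B ∘ₗ Bq) := by
        rw [show e = e * q * q by rw [mul_assoc, O.pure_sq eq hq2, mul_one]]
        exact O.pure_mul eB eq
      have heqfix : ∀ v, ((e * q : OQ Q) : V ≃ₗ[F] V) v = v → (e : V ≃ₗ[F] V) v = r • v := by
        intro v hv
        have hv' : v = T ((g m₀ m₀)⁻¹ • O.C m₀ v) m₀ := by
          refine O.V_ext fun z => ?_
          set u := z - (g m₀ z / g m₀ m₀) • m₀
          have hu : g m₀ u = 0 := by simp [u, hm₀]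
          have hBu : B u = -u := by rw [hB, hg.refl_fix hu]
          have h := O.C_pure eB hBi hB2 u v
          rw [hv, hBu, map_neg, LinearMap.neg_apply] at h
          have h0 : O.C u v = 0 := by
            have h' : (2 : F) • O.C u v = 0 := by rw [two_smul]; nth_rw 1 [h]; exact neg_add_cancel _
            exact (smul_eq_zero.1 h').resolve_left h20
          conv_lhs => rw [show z = u + (g m₀ z / g m₀ m₀) • m₀ by simp [u]]
          rw [map_add, LinearMap.add_apply, h0, zero_add, map_smul, LinearMap.smul_apply, O.C_T, smul_smul,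
            hg.symm m₀ z, div_eq_mul_inv]
        rw [hv', eE, LinearMap.comp_apply, hr, map_smul B, hBm, map_smul (T _)]
      have hminus : ∀ y, (B ∘ₗ Bq) y = (-r) • y → ∀ a, (x : V ≃ₗ[F] V) (T a y) = -T a y := by
        intro y hy a
        set v := T a y
        have hev : (e : V ≃ₗ[F] V) v = (-r) • v := by rw [eE, hy, map_smul]
        set v' := (k : V ≃ₗ[F] V).symm v
        have hev' : (e : V ≃ₗ[F] V) v' = (-r) • v' := by
          refine (k : V ≃ₗ[F] V).injective ?_
          show ((k * e : OQ Q) : V ≃ₗ[F] V) v' = _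
          rw [← hek.eq]
          show (e : V ≃ₗ[F] V) ((k : V ≃ₗ[F] V) ((k : V ≃ₗ[F] V).symm v)) = _
          rw [LinearEquiv.apply_symm_apply, hev, map_smul, LinearEquiv.apply_symm_apply]
        set w := ((e * q : OQ Q) : V ≃ₗ[F] V) v'
        have hww : ((e * q : OQ Q) : V ≃ₗ[F] V) w = v' := by
          show ((e * q * (e * q) : OQ Q) : V ≃ₗ[F] V) v' = v'
          rw [hee]; rfl
        have hew : (e : V ≃ₗ[F] V) w = (-r) • w := by
          show ((e * (e * q) : OQ Q) : V ≃ₗ[F] V) v' = _
          rw [((Commute.refl e).mul_right heq).eq]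
          show ((e * q : OQ Q) : V ≃ₗ[F] V) ((e : V ≃ₗ[F] V) v') = _
          rw [hev', map_smul]
        have hfix : (e : V ≃ₗ[F] V) (v' + w) = r • (v' + w) := heqfix _ (by rw [map_add, hww, add_comm])
        rw [map_add, hev', hew, ← smul_add, neg_smul] at hfix
        have h0 : v' + w = 0 := by
          have h1 : (2 * r) • (v' + w) = 0 := by linear_combination (norm := module) -hfix
          exact (smul_eq_zero.1 h1).resolve_left (mul_ne_zero h20 fun h => by simp [h] at hr2)
        show (x : V ≃ₗ[F] V) v = -v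
        rw [← hkx]
        show (k : V ≃ₗ[F] V) (((e * q : OQ Q) : V ≃ₗ[F] V) v') = -v
        rw [show ((e * q : OQ Q) : V ≃ₗ[F] V) v' = -v' from eq_neg_of_add_eq_zero_right h0, map_neg,
          LinearEquiv.apply_symm_apply]
      obtain ⟨y, hy, hyZ⟩ : ∃ y, (B ∘ₗ Bq) y = (-r) • y ∧ y ∉ Z := by
        have hneg' : ∀ u, g u u ≠ 0 → refl g u u = -u := fun u hu => by
          rw [MixTensor.refl_apply]
          match_scalars
          field_simp
          ring
        have hqp : Bq p = -p := by
          show refl g p (refl g p' p) = -p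
          rw [hg.refl_fix (e := p') (x := p) (by rw [hg.symm, hpp']), hneg' p hp]
        have hqp' : Bq p' = -p' := by
          show refl g p (refl g p' p') = -p'
          rw [hneg' p' hp'0, map_neg, hg.refl_fix hpp']
        rcases mul_self_eq_one_iff.1 hr2 with rfl | rfl
        · -- outside the pair
          have g1 : g p m₀ = 0 := by
            have h := hqi p m₀
            rw [hqp, hr, one_smul, map_neg, LinearMap.neg_apply] at h
            exact (mul_eq_zero.1 (show (2 : F) * g p m₀ = 0 by linear_combination -h)).resolve_left h20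
          have g2 : g p' m₀ = 0 := by
            have h := hqi p' m₀
            rw [hqp', hr, one_smul, map_neg, LinearMap.neg_apply] at h
            exact (mul_eq_zero.1 (show (2 : F) * g p' m₀ = 0 by linear_combination -h)).resolve_left h20
          set S := Submodule.span F (({p, p', m₀} : Finset W) : Set W)
          have hS : finrank F S ≤ 3 := (finrank_span_finset_le_card _).trans Finset.card_le_three
          set Y := g.orthogonal S
          have hY : 2 ≤ finrank F Y := by
            rw [LinearMap.BilinForm.finrank_orthogonal hg.nd]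
            omega
          have hmem : ∀ y ∈ Y, (B ∘ₗ Bq) y = (-1 : F) • y := fun y hy => by
            have e1 : g p y = 0 := hy p (Submodule.subset_span (by simp))
            have e2 : g p' y = 0 := hy p' (Submodule.subset_span (by simp))
            have e3 : g m₀ y = 0 := hy m₀ (Submodule.subset_span (by simp))
            show B (refl g p (refl g p' y)) = _
            rw [hg.refl_fix e2, hg.refl_fix e1, hB, hg.refl_fix e3, neg_one_smul]
          have hnle : ¬ Y ≤ Z := by
            intro hle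
            have hYZ : Y = Z := Submodule.eq_of_le_of_finrank_le hle (by omega)
            rcases hZp with h0 | ⟨z, hz, hzp⟩
            · rw [h0] at hle
              have := Submodule.finrank_mono hle
              rw [finrank_bot] at this
              omega
            · exact hzp ((hYZ ▸ hz : z ∈ Y) p (Submodule.subset_span (by simp)))
          obtain ⟨y, hy, hyn⟩ := SetLike.not_le_iff_exists.1 hnle
          exact ⟨y, hmem y hy, hyn⟩
        · -- inside the pair
          rw [neg_neg]
          set y := g m₀ p' • p - g m₀ p • p'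
          have hy : g m₀ y = 0 := by simp [y]; ring
          refine ⟨y, ?_, fun hyZ => ?_⟩
          · rw [LinearMap.comp_apply, show Bq y = -y by simp [y, hqp, hqp']; abel, map_neg, hB, hg.refl_fix hy,
              neg_neg, one_smul]
          · obtain ⟨h1, h2⟩ := hSZ (g m₀ p') (-g m₀ p) (by rwa [neg_smul, ← sub_eq_add_neg])
            rw [neg_eq_zero] at h2
            have hfixm : Bq m₀ = m₀ := by
              show refl g p (refl g p' m₀) = m₀
              rw [hg.refl_fix (e := p') (x := m₀) (by rw [hg.symm, h1]), hg.refl_fix (e := p) (x := m₀) (by rw [hg.symm, h2])]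
            rw [hfixm] at hr
            have h3 : (2 : F) • m₀ = 0 := by rw [two_smul]; nth_rw 1 [hr]; simp
            exact hm₀ (by simp [(smul_eq_zero.1 h3).resolve_left h20])
      refine Or.inr ⟨Z ⊔ Submodule.span F {y}, fun u hu a => ?_, ?_⟩
      · obtain ⟨u₁, hu₁, u₂, hu₂, rfl⟩ := Submodule.mem_sup.1 hu
        obtain ⟨s, rfl⟩ := Submodule.mem_span_singleton.1 hu₂
        simp only [map_add, map_smul, hZ u₁ hu₁ a, hminus y hy a, neg_add, smul_neg]
      · exact Submodule.finrank_lt_finrank_of_lt (lt_of_le_of_ne le_sup_left fun h =>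
          hyZ (h.ge (Submodule.mem_sup_right (Submodule.mem_span_singleton_self y))))
  have key : ∀ i : ℕ, i ≤ 3 → Tens T x ∨
      ∃ Z : Submodule F W, (∀ z ∈ Z, ∀ a, (x : V ≃ₗ[F] V) (T a z) = -T a z) ∧ i ≤ finrank F Z := by
    intro i
    induction i with
    | zero => exact fun _ => Or.inr ⟨⊥, fun z hz a => by simp [(Submodule.mem_bot F).1 hz], by simp⟩
    | succ i ih =>
      intro hi
      rcases ih (by omega) with h | ⟨Z, hZ, hd⟩
      · exact Or.inl h
      by_cases h2 : finrank F Z ≤ 2
      · rcases grow Z hZ h2 with h | ⟨Z', hZ', hlt⟩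
        · exact Or.inl h
        · exact Or.inr ⟨Z', hZ', by omega⟩
      · exact Or.inr ⟨Z, hZ, by omega⟩
  rcases key 3 le_rfl with h | ⟨Z, hZ, hd⟩
  · exact h
  obtain ⟨w, hw, hw0, hww⟩ := hg.exists_isotropic hd
  exact done w hw0 hww (hZ w hw)

/-- **A larger second factor of odd dimension.** -/
theorem tens_of_odd (hb : Odd (finrank F W)) {k : OQ Q} (hk : k ∈ K) : Tens T k := by
  classical
  have hg := O.hg
  have := finite_OQ Q
  have hb5 := O.five
  obtain ⟨ε, hε, hE, hG⟩ : ∃ ε : F, ε ≠ 0 ∧ (∀ c c' : W, g c c ≠ 0 → g c' c' = ε * g c c → Elig U g c c') ∧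
      ∀ c c' : W, g c c ≠ 0 → g c' c' = ε * g c c → g c c' = 0 → ∀ y ∈ K, ∀ k : OQ Q,
        Pure T k (refl g c ∘ₗ refl g c') → Commute y k → Tens T y := by
    by_cases h6 : 6 ≤ finrank F W
    · refine ⟨1, one_ne_zero, fun c c' hc h => ⟨hc, by rw [h, one_mul]; exact hc,
        Or.inr ⟨g c c, by rw [h, one_mul]⟩⟩, fun c c' hc h hcc y hy k ek hyk => ?_⟩
      rw [one_mul] at h
      obtain ⟨hi, h2⟩ := O.pair_invol hc (h.symm ▸ hc) hcc
      have d := eigW_two_refl hg hc (h.symm ▸ hc) hcc
      have s := eigW_sum O.two h2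
      exact O.tens_of_two h6 hy ek hi h2 hyk (by omega) (by omega)
    have h5 : finrank F W = 5 := by omega
    by_cases hel : Even (finrank F U) ∨ IsSquare (-1 : F)
    · refine ⟨-1, neg_ne_zero.2 one_ne_zero, fun c c' hc h => ⟨hc, by rw [h]; simpa using hc, ?_⟩,
        fun c c' hc h hcc y hy k ek hyk => ?_⟩
      · rcases hel with h' | h'
        · exact Or.inl h'
        · refine Or.inr ?_
          rw [h, show g c c * (-1 * g c c) = -1 * (g c c * g c c) by ring]
          exact h'.mul ⟨g c c, rfl⟩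
      have hc' : g c' c' ≠ 0 := by rw [h]; simpa using hc
      obtain ⟨hi, h2⟩ := O.pair_invol hc hc' hcc
      have d := eigW_two_refl hg hc hc' hcc
      have s := eigW_sum O.two h2
      have hneg' : ∀ u, g u u ≠ 0 → refl g u u = -u := fun u hu => by
        rw [MixTensor.refl_apply]
        match_scalars
        field_simp
        ring
      refine O.tens_of_commute hy ek hi h2 hyk (Or.inl rfl) (by omega) (w₀ := c + c') ?_ ?_ ?_
      · rw [neg_one_smul, LinearMap.comp_apply, map_add, hg.refl_fix (e := c') (x := c) (by rw [hg.symm, hcc]),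
          hneg' c' hc', ← sub_eq_add_neg, map_sub, hneg' c hc, hg.refl_fix hcc]
        abel
      · intro h0
        have h' := congrArg (g c) h0
        rw [map_add, hcc, add_zero, map_zero] at h'
        exact hc h'
      · simp [hcc, hg.symm c c', h]
    push Not at hel
    have ha : Odd (finrank F U) := Nat.not_even_iff_odd.1 hel.1
    refine ⟨1, one_ne_zero, fun c c' hc h => ⟨hc, by rw [h, one_mul]; exact hc,
      Or.inr ⟨g c c, by rw [h, one_mul]⟩⟩, fun c c' hc h hcc y hy k ek hyk => ?_⟩
    rw [one_mul] at h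
    obtain ⟨hi, h2⟩ := O.pair_invol hc (h.symm ▸ hc) hcc
    have d := eigW_two_refl hg hc (h.symm ▸ hc) hcc
    have s := eigW_sum O.two h2
    refine O.tens_of_conj hy (eig_nondeg hg hi h2 (Or.inl rfl)) (by omega) fun w hw z hz _ _ _ σ hσ eσ => ?_
    have hfix : ∀ p, (refl g c ∘ₗ refl g c') p = (-1 : F) • p → ∀ a,
        ((y * σ * y⁻¹ : OQ Q) : V ≃ₗ[F] V) (T a p) = T a p := fun p hp a =>
      O.fix_of_commute ek hi h2 hyk (one_mul 1) (mem_eigW.1 hw) (mem_eigW.1 hz) eσ hp a
    have hq : ∃ t : F, t ≠ 0 ∧ t ≠ 1 ∧ t ≠ -1 := by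
      by_contra! hc'
      have h4 := O.small.big fun u => by
        by_cases h0 : u = 0
        · exact Or.inl h0
        by_cases h1 : u = 1
        · exact Or.inr (Or.inl h1)
        exact Or.inr (Or.inr (hc' u h0 h1))
      obtain ⟨i, hi'⟩ := ha
      have := O.lt
      omega
    have hneg' : ∀ u, g u u ≠ 0 → refl g u u = -u := fun u hu => by
      rw [MixTensor.refl_apply]
      match_scalars
      field_simp
      ring
    refine O.fix_five h5 ha hel.2 hq (K.mul_mem (K.mul_mem hy hσ) (K.inv_mem hy)) hc h hcc (hfix c ?_) (hfix c' ?_)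
    · rw [LinearMap.comp_apply, hg.refl_fix (e := c') (x := c) (by rw [hg.symm, hcc]), hneg' c hc, neg_one_smul]
    · rw [LinearMap.comp_apply, hneg' c' (h.symm ▸ hc), map_neg, hg.refl_fix hcc, neg_one_smul]
  obtain ⟨c, hc, t, ht, et⟩ : ∃ c, g c c ≠ 0 ∧ ∃ t ∈ K, Pure T t (-refl g c) :=
    exists_neg_refl hg hb (fun B => ∃ t ∈ K, Pure T t B) ⟨1, K.one_mem, fun a y => rfl⟩
      fun B y₁ y₂ ⟨t, ht, et⟩ h1 h2 => by
        obtain ⟨k, hk, ek⟩ := O.exists_pair (c := y₁) (c' := y₂) (h1 ▸ one_ne_zero) (h2.trans h1.symm)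
        exact ⟨t * k, K.mul_mem ht hk, O.pure_mul et ek⟩
  obtain ⟨c', hc', hcp⟩ := exists_norm_frame hg (Frame.one g hc) (by simp; omega) (mul_ne_zero hε hc)
  have hcc : g c c' = 0 := hcp c (Finset.mem_singleton_self c)
  have hc'0 : g c' c' ≠ 0 := hc' ▸ mul_ne_zero hε hc
  obtain ⟨hi, h2⟩ := O.pair_invol hc hc'0 hcc
  obtain ⟨p, hp, ep⟩ := O.pairW (hE c c' hc hc')
  have ep' : Pure T p (refl g c ∘ₗ refl g c') := ep
  have et' : Pure T (t * p) (-refl g c') := fun a y => by
    rw [O.pure_mul et ep' a y, LinearMap.comp_apply, LinearMap.comp_apply, LinearMap.neg_apply, hg.refl_refl hc,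
      LinearMap.neg_apply]
  refine O.key hk (O.pure_sq ep' h2) (fun y hy => hG c c' hc hc' hcc y hy p ep') ?_
  have h1 := O.neg_refl_tens hb hε hE hG ht hc et hk
  have h1' := O.neg_refl_tens hb hε hE hG (K.mul_mem ht hp) hc'0 et' hk
  have hkey : k * p * k⁻¹ = (k * t * k⁻¹)⁻¹ * (k * (t * p) * k⁻¹) := by group
  rw [hkey]
  exact h1.inv.mul h1'

end Over

end CfsgLib.Geo.OrthTensor
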