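/-
A larger second factor of even dimension: every element of the overgroup is a product.
-/
import Cfsg.Agent.Lib.Geo.OrthTensor.OddCase

set_option autoImplicit false
set_option linter.unusedSectionVars false

namespace CfsgLib.Geo.OrthTensor

open CfsgLib.Classical CfsgLib.Classical.Quad Module
open CfsgLib.Geo.MixTensor (SymForm refl)
open QuadraticMap (polar polarBilin)
open LinearMap (BilinForm)

variable {F : Type*} [Field F] [Finite F] {U W V : Type*} [AddCommGroup U] [Module F U] [FiniteDimensional F U]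
  [AddCommGroup W] [Module F W] [FiniteDimensional F W] [AddCommGroup V] [Module F V] [FiniteDimensional F V]
  {Q : QuadraticForm F V} {f : BilinForm F U} {g : BilinForm F W} {T : U →ₗ[F] W →ₗ[F] V}
  {K : Subgroup (OQ Q)}

/-- An element acting on the first factor as the negative of a reflection. -/
def URefl (f : BilinForm F U) (T : U →ₗ[F] W →ₗ[F] V) (k : OQ Q) (d : U) : Prop :=
  f d d ≠ 0 ∧ ∀ a y, (k : V ≃ₗ[F] V) (T a y) = T (-refl f d a) y

omit [Finite F] in
theorem neg_refl_self {h : BilinForm F W} {u : W} (hu : h u u ≠ 0) : refl h u u = -u := by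
  rw [MixTensor.refl_apply]
  match_scalars
  field_simp
  ring

namespace Over

variable (O : Over Q f g T K)
include O

theorem urefl_sq {k : OQ Q} {d : U} (hk : URefl f T k d) : k * k = 1 := O.el_ext fun a y => by
  show (k : V ≃ₗ[F] V) ((k : V ≃ₗ[F] V) (T a y)) = T a y
  rw [hk.2, hk.2, map_neg (refl f d), neg_neg, O.hf.refl_refl hk.1]

theorem urefl_fix {k : OQ Q} {d : U} (hk : URefl f T k d) : finrank F (eig k 1) = finrank F W := by
  have hneg : eigW (-refl f d) 1 = eigW (refl f d) (-1) := Submodule.ext fun v => by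
    simp only [mem_eigW, LinearMap.neg_apply, neg_one_smul, one_smul, neg_eq_iff_eq_neg]
  rw [(O.toTensor.flip.eig_pure (k := k) (B := -refl f d) (fun y a => hk.2 a y) (fun a => by
    simp only [LinearMap.neg_apply, map_neg, neg_neg, O.hf.refl_refl hk.1])).1, hneg, eigW_one_refl O.hf hk.1,
    mul_one]

/-- The fixed vectors of such an element. -/
theorem urefl_mem {k : OQ Q} {d : U} (hk : URefl f T k d) {v : V} (hv : (k : V ≃ₗ[F] V) v = v) :
    v = T d ((f d d)⁻¹ • O.toTensor.flip.C d v) := by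
  have h : ∀ u, (k : V ≃ₗ[F] V) u = -u + (2 / f d d) • T d (O.toTensor.flip.C d u) := fun u =>
    LinearMap.congr_fun (O.hom_ext (L := ((k : V ≃ₗ[F] V) : V →ₗ[F] V))
      (L' := -LinearMap.id + (2 / f d d) • (T d ∘ₗ O.toTensor.flip.C d)) fun a y => by
        simp only [LinearEquiv.coe_coe, LinearMap.add_apply, LinearMap.neg_apply, LinearMap.id_apply,
          LinearMap.smul_apply, LinearMap.comp_apply]
        rw [hk.2, show T a y = T.flip y a from rfl, O.toTensor.flip.C_T, MixTensor.refl_apply]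
        simp [smul_smul]
        abel) u
  have h2 := h v
  rw [hv] at h2
  refine smul_right_injective V O.two ?_
  show (2 : F) • v = (2 : F) • T d ((f d d)⁻¹ • O.toTensor.flip.C d v)
  rw [map_smul, smul_smul, ← div_eq_mul_inv]
  linear_combination (norm := module) h2

variable (ha : Odd (finrank F U)) (hb : Even (finrank F W)) (h6 : 6 ≤ finrank F W)
include ha hb h6

theorem exists_urefl {d : U} (hd : f d d ≠ 0) : ∃ k ∈ K, URefl f T k d := by
  have hE : ∀ d d' : U, f d d ≠ 0 → f d' d' ≠ 0 → Elig W f d d' := fun d d' h h' => ⟨h, h', Or.inl hb⟩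
  obtain ⟨c, hc, t, ht, et⟩ : ∃ c, f c c ≠ 0 ∧ ∃ t ∈ K, ∀ a y, (t : V ≃ₗ[F] V) (T a y) = T ((-refl f c) a) y :=
    exists_neg_refl O.hf ha (fun A => ∃ t ∈ K, ∀ a y, (t : V ≃ₗ[F] V) (T a y) = T (A a) y)
      ⟨1, K.one_mem, fun a y => rfl⟩ fun A y₁ y₂ ⟨t, ht, et⟩ h1 h2 => by
        obtain ⟨k, hk, ek⟩ := O.pairU (hE y₁ y₂ (h1 ▸ one_ne_zero) (h2 ▸ one_ne_zero))
        refine ⟨t * k, K.mul_mem ht hk, fun a y => ?_⟩
        show (t : V ≃ₗ[F] V) ((k : V ≃ₗ[F] V) (T a y)) = _
        rw [ek, et]; rfl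
  obtain ⟨k, hk, ek⟩ := O.pairU (hE c d hc hd)
  refine ⟨t * k, K.mul_mem ht hk, hd, fun a y => ?_⟩
  show (t : V ≃ₗ[F] V) ((k : V ≃ₗ[F] V) (T a y)) = _
  rw [ek, et, LinearMap.neg_apply, O.hf.refl_refl hc]

/-- A conjugate of such an element is not pure on the second factor. -/
theorem not_pure {k u : OQ Q} (hk : k ∈ K) {d : U} (hu : URefl f T u d) {B : W →ₗ[F] W}
    (hBi : ∀ y z, g (B y) (B z) = g y z) (hB : ∀ y, B (B y) = y) (eB : Pure T (k * u * k⁻¹) B) : False := by
  have := finite_OQ Q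
  have := O.nontrivW
  have hU := O.small.three
  have hlt := O.lt
  have hb1 : finrank F U * finrank F (eigW B 1) = finrank F W := by
    rw [← (O.eig_pure eB hB).1, eig_conj, O.urefl_fix hu]
  have hsum := eigW_sum O.two hB
  have h2 : 2 ≤ finrank F (eigW B 1) := by
    rcases Nat.lt_or_ge (finrank F (eigW B 1)) 2 with h | h
    · interval_cases hh : finrank F (eigW B 1) <;> omega
    · exact h
  have h3 := Nat.mul_le_mul_right (finrank F (eigW B 1)) hU
  have hT : Tens T k⁻¹ := O.key (K.inv_mem hk) (p := k * u * k⁻¹)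
    (by rw [← pow_two, conj_pow, pow_two, O.urefl_sq hu, mul_one, mul_inv_cancel])
    (fun y hy hc => O.tens_of_two h6 hy eB hBi hB hc h2 (by omega))
    (by rw [show k⁻¹ * (k * u * k⁻¹) * k⁻¹⁻¹ = u by group]; exact ⟨-refl f d, LinearMap.id, fun a y => hu.2 a y⟩)
  obtain ⟨A, B', hA, hB', e⟩ := O.normal_form hT
  obtain ⟨y, hy⟩ := exists_ne (0 : W)
  have hA' : Function.Surjective A := LinearMap.injective_iff_surjective.1 fun a b h => O.fext fun v => by
    rw [← hA v a, h, hA]
  have hB'y : B' y ≠ 0 := fun h0 => hy (O.hg.nd.2 y fun z => by rw [← hB', h0, map_zero])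
  obtain ⟨z, hz⟩ := O.exists_partner hB'y
  have hsc : ∀ a, -refl f d a = g z (B' (B y)) • a := fun a => by
    obtain ⟨a, rfl⟩ := hA' a
    have h : T (-refl f d (A a)) (B' y) = T (A a) (B' (B y)) := by
      rw [← hu.2, ← e, ← e, ← eB]
      show ((u * k⁻¹ : OQ Q) : V ≃ₗ[F] V) (T a y) = ((k⁻¹ * (k * u * k⁻¹) : OQ Q) : V ≃ₗ[F] V) (T a y)
      rw [show k⁻¹ * (k * u * k⁻¹) = u * k⁻¹ by group]
    have h' := congrArg (O.C z) h
    rwa [O.C_T, O.C_T, hz, one_smul] at h'
  have h1 := hsc d
  rw [neg_refl_self hu.1, neg_neg] at h1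
  obtain ⟨e₀, he₀, hde⟩ := exists_aniso_frame O.hf (Frame.one f hu.1) (by simp; omega)
  have h2' := hsc e₀
  rw [O.hf.refl_fix (hde d (Finset.mem_singleton_self d))] at h2'
  have h4 : g z (B' (B y)) = 1 :=
    smul_left_injective F (fun h0 : d = 0 => hu.1 (by simp [h0])) (h1.symm.trans (one_smul F d).symm)
  rw [h4, one_smul, neg_eq_iff_add_eq_zero, ← two_smul F] at h2'
  exact he₀ (by simp [(smul_eq_zero.1 h2').resolve_left O.two])

/-- A conjugate which is a product. -/
theorem urefl_of_tens {k u : OQ Q} (hk : k ∈ K) {d : U} (hu : URefl f T u d) (h : Tens T (k * u * k⁻¹)) :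
    ∃ d', URefl f T (k * u * k⁻¹) d' := by
  have hk2 : k * u * k⁻¹ * (k * u * k⁻¹) = 1 := by
    rw [← pow_two, conj_pow, pow_two, O.urefl_sq hu, mul_one, mul_inv_cancel]
  have hfix : finrank F (eig (k * u * k⁻¹) 1) = finrank F W := by rw [eig_conj, O.urefl_fix hu]
  rcases O.pure_or_pure h hk2 hfix.le with ⟨B, hBi, hB, eB⟩ | ⟨A, hAi, hA, eA⟩
  · exact (O.not_pure ha hb h6 hk hu hBi hB eB).elim
  have h1 := (O.toTensor.flip.eig_pure (k := k * u * k⁻¹) (B := A) (fun y a => eA a y) hA).1
  rw [hfix] at h1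
  have hA1 : finrank F (eigW A 1) = 1 :=
    Nat.eq_of_mul_eq_mul_left (show 0 < finrank F W by omega) (by rw [mul_one]; exact h1.symm)
  have hnA : eigW (-A) (-1) = eigW A 1 := Submodule.ext fun v => by
    simp only [mem_eigW, LinearMap.neg_apply, neg_one_smul, one_smul, neg_inj]
  obtain ⟨d', hd', -, hAr⟩ := eq_refl_of_one O.hf (B := -A) (fun u v => by simp [hAi]) (fun u => by simp [hA])
    (by rw [hnA, hA1])
  exact ⟨d', hd', fun a y => by rw [eA, ← hAr, LinearMap.neg_apply, neg_neg]⟩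

/-- **The conjugates of these elements are products.** -/
theorem urefl_conj_tens {u : OQ Q} (hu : u ∈ K) {d : U} (eu : URefl f T u d) {g' : OQ Q} (hg' : g' ∈ K) :
    Tens T (g' * u * g'⁻¹) := by
  classical
  have hg := O.hg
  have h20 := O.two
  have := finite_OQ Q
  have := O.nontriv
  have := O.nontrivW
  have hU : 0 < finrank F U := by have := O.small.three; omega
  have hlt := O.lt
  obtain ⟨a₀, ha₀⟩ := exists_ne (0 : U)
  set b := finrank F W with hbdef
  -- orthonormal vectors
  obtain ⟨v, hv, hvo⟩ : ∃ v : ℕ → W, (∀ i < b - 1, g (v i) (v i) = 1) ∧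
      ∀ i < b - 1, ∀ j < b - 1, i ≠ j → g (v i) (v j) = 0 := by
    have key : ∀ n : ℕ, n ≤ b - 1 → ∃ v : ℕ → W, (∀ i < n, g (v i) (v i) = 1) ∧
        ∀ i < n, ∀ j < n, i ≠ j → g (v i) (v j) = 0 := by
      intro n
      induction n with
      | zero => exact fun _ => ⟨fun _ => 0, by simp, by simp⟩
      | succ n ih =>
        intro hn
        obtain ⟨v, hv, hvo⟩ := ih (by omega)
        have hs : Frame g ((Finset.range n).image v) := by
          intro p hp
          obtain ⟨i, hi, rfl⟩ := Finset.mem_image.1 hp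
          rw [Finset.mem_range] at hi
          refine ⟨by rw [hv i hi]; exact one_ne_zero, fun q hq hne => ?_⟩
          obtain ⟨j, hj, rfl⟩ := Finset.mem_image.1 hq
          exact hvo i hi j (Finset.mem_range.1 hj) fun e => hne (e ▸ rfl)
        obtain ⟨w, hw, hwp⟩ := exists_norm_frame hg hs (by
          have := Finset.card_image_le (s := Finset.range n) (f := v)
          rw [Finset.card_range] at this
          omega) (one_ne_zero (α := F))
        refine ⟨Function.update v n w, fun i hi => ?_, fun i hi j hj hij => ?_⟩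
        · by_cases h : i = n
          · subst h; simpa using hw
          · rw [Function.update_of_ne h]; exact hv i (by omega)
        · have hwi : ∀ i < n, g (v i) w = 0 := fun i hi =>
            hwp _ (Finset.mem_image.2 ⟨i, Finset.mem_range.2 hi, rfl⟩)
          by_cases h : i = n
          · subst h
            rw [Function.update_self, Function.update_of_ne (Ne.symm hij), hg.symm, hwi j (by omega)]
          · by_cases h' : j = n
            · subst h'
              rw [Function.update_self, Function.update_of_ne h, hwi i (by omega)]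
            · rw [Function.update_of_ne h, Function.update_of_ne h']
              exact hvo i (by omega) j (by omega) hij
    exact key (b - 1) le_rfl
  set x := g' * u * g'⁻¹ with hx
  have hxK : x ∈ K := K.mul_mem (K.mul_mem hg' hu) (K.inv_mem hg')
  have hx2 : x * x = 1 := by rw [← pow_two, conj_pow, pow_two, O.urefl_sq eu, mul_one, mul_inv_cancel]
  have hx1 : finrank F (eig x 1) = b := by rw [eig_conj, O.urefl_fix eu]
  by_contra hcon
  let R : ℕ → ℕ → W →ₗ[F] W := fun i j => refl g (v i) ∘ₗ refl g (v j)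
  have hne0 : ∀ i < b - 1, g (v i) (v i) ≠ 0 := fun i hi => by rw [hv i hi]; exact one_ne_zero
  -- the element of a pair
  have elem : ∀ i < b - 1, ∀ j < b - 1, i ≠ j → ∃ (dS : U) (e q : OQ Q), f dS dS ≠ 0 ∧ e ∈ K ∧ Pure T q (R i j) ∧
      (∀ a y, (e : V ≃ₗ[F] V) (T a y) = T (-refl f dS a) (R i j y)) ∧ Commute e x ∧
      ∀ h : OQ Q, Commute h x → Commute h q → Commute h e := by
    intro i hi j hj hij
    obtain ⟨q, hq, eq⟩ := O.exists_pair (hne0 i hi) ((hv j hj).trans (hv i hi).symm)
    obtain ⟨hqi, hq2⟩ := O.pair_invol (hne0 i hi) (hne0 j hj) (hvo i hi j hj hij)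
    have hqm : finrank F (eigW (R i j) (-1)) = 2 := eigW_two_refl hg (hne0 i hi) (hne0 j hj) (hvo i hi j hj hij)
    replace eq : Pure T q (R i j) := eq
    replace hqi : ∀ u v, g (R i j u) (R i j v) = g u v := hqi
    replace hq2 : ∀ y, R i j (R i j y) = y := hq2
    have hqs := eigW_sum h20 hq2
    have hC : ∀ y ∈ K, Commute y q → Tens T y := fun y hy hc =>
      O.tens_of_two h6 hy eq hqi hq2 hc (by omega) (by omega)
    rcases dihedral hx2 (O.pure_sq eq hq2) with ⟨-, j', hj'⟩ | ⟨n, j', -, hex, heq, he2, hne, hcase⟩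
    · exfalso
      have h1 := hx1
      rw [← hj', eig_conj, (O.eig_pure eq hq2).1] at h1
      have h2 := Nat.mul_le_mul O.small.three (le_refl (finrank F (eigW (R i j) 1)))
      omega
    set e := (x * q) ^ n
    set k := (x * q) ^ j'
    have heK : e ∈ K := K.pow_mem (K.mul_mem hxK hq) n
    have hkK : k ∈ K := K.pow_mem (K.mul_mem hxK hq) j'
    have hTe : Tens T e := hC e heK heq
    rcases hcase with ⟨-, -, hkq⟩ | ⟨-, hkx⟩
    · exfalso
      have hTk : Tens T k := O.key hkK (O.pure_sq eq hq2) hC (hkq ▸ hTe.mul ⟨LinearMap.id, R i j, eq⟩)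
      obtain ⟨A, B, hA, hB, eAB⟩ := O.normal_form hTk
      obtain ⟨Ae, Be, -, hBe, hAe2, hBe2, ee⟩ := O.invol_form hTe he2
      have hA' : Function.Surjective A := LinearMap.injective_iff_surjective.1 fun a b h => O.fext fun v => by
        rw [← hA v a, h, hA]
      have hrel : ∀ a y, T (A a) (B (R i j y)) = T (Ae (A a)) (Be (R i j (B y))) := fun a y => by
        rw [← eAB, ← ee, ← eq]
        have h : k * q = e * q * k := by rw [← hkq]; group
        show ((k * q : OQ Q) : V ≃ₗ[F] V) (T a y) = _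
        rw [h]
        show (e : V ≃ₗ[F] V) ((q : V ≃ₗ[F] V) ((k : V ≃ₗ[F] V) (T a y))) = _
        rw [eAB, eq]
      obtain ⟨γ, hγ⟩ : ∃ γ : F, ∀ a, Ae a = γ • a := by
        have hne' : Be (R i j (B (v i))) ≠ 0 := fun h0 => by
          have h := congrArg (fun v => g v v) h0
          simp only [R, hBe, hqi, hB, map_zero] at h
          exact hne0 i hi h
        obtain ⟨z, hz⟩ := O.exists_partner hne'
        refine ⟨g z (B (R i j (v i))), fun a => ?_⟩
        obtain ⟨a', rfl⟩ := hA' a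
        have h := congrArg (O.C z) (hrel a' (v i))
        rwa [O.C_T, O.C_T, hz, one_smul, eq_comm] at h
      have hγ2 : γ * γ = 1 := by
        have h := hAe2 a₀
        rw [hγ, hγ, smul_smul] at h
        exact smul_left_injective F ha₀ (h.trans (one_smul F a₀).symm)
      set E := γ • Be
      have eE : Pure T e E := fun a y => by
        rw [ee, hγ, map_smul, LinearMap.smul_apply, LinearMap.smul_apply, map_smul]
      have hEi : ∀ u v, g (E u) (E v) = g u v := fun u v => by simp [E, hBe, ← mul_assoc, hγ2]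
      have hE2 : ∀ u, E (E u) = u := fun u => by simp [E, hBe2, smul_smul, hγ2]
      have hcomm : ∀ y, E (R i j y) = R i j (E y) := fun y =>
        O.pure_unique (O.pure_mul eE eq) (by rw [heq.eq]; exact O.pure_mul eq eE) y
      have hee : ∀ y, (E ∘ₗ R i j) ((E ∘ₗ R i j) y) = y := fun y => by
        simp only [LinearMap.comp_apply]
        rw [← hcomm, hE2]
        exact hq2 y
      have hd : finrank F (eigW (E ∘ₗ R i j) (-1)) = 2 := by
        have h : finrank F (eig (e * q) (-1)) = finrank F U * 2 := by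
          rw [← hkq, eig_conj, (O.eig_pure eq hq2).2, hqm]
        rw [(O.eig_pure (O.pure_mul eE eq) hee).2] at h
        exact Nat.eq_of_mul_eq_mul_left hU h
      have hEs := eigW_sum h20 hE2
      have hone : ∀ l : F, l * l = 1 → finrank F (eigW (l • E) (-1)) = 1 →
          ∃ X : W →ₗ[F] W, (∀ y, E (R i j y) = l • X y) ∧ (∀ y, X (X y) = y) ∧
            (finrank F (eigW X (-1)) = 1 ∨ finrank F (eigW X (-1)) = 3) := by
        intro l hl h1
        obtain ⟨m₀, hm₀, hEm₀, hEr⟩ := eq_refl_of_one hg (B := l • E) (fun u v => by simp [hEi, ← mul_assoc, hl])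
          (fun u => by simp [hE2, smul_smul, hl]) h1
        have hBm : (l • E) (R i j m₀) = -R i j m₀ := by
          rw [LinearMap.smul_apply, hcomm, ← map_smul, ← LinearMap.smul_apply, hEm₀, map_neg]
        obtain ⟨r, hr⟩ : ∃ r : F, R i j m₀ = r • m₀ := by
          refine ⟨g m₀ (R i j m₀) / g m₀ m₀, smul_right_injective W h20 ?_⟩
          rw [hEr, MixTensor.refl_apply] at hBm
          show (2 : F) • R i j m₀ = (2 : F) • ((g m₀ (R i j m₀) / g m₀ m₀) • m₀)
          rw [smul_smul, show 2 * (g m₀ (R i j m₀) / g m₀ m₀) = 2 / g m₀ m₀ * g m₀ (R i j m₀) by ring]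
          linear_combination (norm := module) hBm
        have hr2 : r * r = 1 := by
          have h := hqi m₀ m₀
          rw [hr, map_smul, map_smul, LinearMap.smul_apply,
            smul_eq_mul, smul_eq_mul] at h
          exact mul_right_cancel₀ hm₀ (by linear_combination h)
        refine ⟨refl g m₀ ∘ₗ R i j, fun y => ?_, refl_invol hg hqi hq2 hm₀ hr2 hr, ?_⟩
        · show E (R i j y) = l • refl g m₀ (R i j y)
          rw [← LinearMap.congr_fun hEr]
          show E _ = l • (l • E (R i j y))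
          rw [smul_smul, hl, one_smul]
        rcases mul_self_eq_one_iff.1 hr2 with rfl | rfl
        · rw [one_smul] at hr
          rw [eigW_refl_mul hg hqi hm₀ hr]
          omega
        · rw [neg_one_smul] at hr
          have := eigW_refl_mul' hg hqi hm₀ hr
          omega
      set m := finrank F (eigW E (-1))
      have hm0 : m ≠ 0 := fun h0 => hne (O.el_ext fun a y => by
        rw [eE, eigW_top h20 hE2 (one_mul 1) (Submodule.finrank_eq_zero.1 h0), one_smul]; rfl)
      have hm1 : m ≠ 1 := fun h1 => by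
        obtain ⟨X, hX, hX2, hXd⟩ := hone 1 (one_mul 1) (by rw [one_smul]; exact h1)
        rw [show E ∘ₗ R i j = X from LinearMap.ext fun y => by rw [LinearMap.comp_apply, hX, one_smul]] at hd
        omega
      have hp0 : finrank F (eigW E 1) ≠ 0 := fun h0 => by
        have hE1 : ∀ y, E y = -y := fun y => by
          rw [eigW_top h20 hE2 (l := -1) (by norm_num) (by rw [neg_neg]; exact Submodule.finrank_eq_zero.1 h0),
            neg_one_smul]
        rw [show eigW (E ∘ₗ R i j) (-1) = eigW (R i j) 1 from Submodule.ext fun y => by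
          rw [mem_eigW, mem_eigW, LinearMap.comp_apply, hE1, neg_one_smul, one_smul, neg_inj]] at hd
        omega
      have hp1 : finrank F (eigW E 1) ≠ 1 := fun h1 => by
        obtain ⟨X, hX, hX2, hXd⟩ := hone (-1) (by norm_num) (by
          rw [show eigW ((-1 : F) • E) (-1) = eigW E 1 from Submodule.ext fun y => by
            rw [mem_eigW, mem_eigW, LinearMap.smul_apply, neg_one_smul, neg_one_smul, one_smul, neg_inj]]
          exact h1)
        rw [show eigW (E ∘ₗ R i j) (-1) = eigW X 1 from Submodule.ext fun y => by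
          rw [mem_eigW, mem_eigW, LinearMap.comp_apply, hX, neg_one_smul, neg_one_smul, one_smul, neg_inj]] at hd
        have := eigW_sum h20 hX2
        omega
      exact hcon (O.tens_of_two h6 hxK eE hEi hE2 hex.symm (by omega) (by omega))
    · have hm : e * q = k⁻¹ * g' * u * (k⁻¹ * g')⁻¹ := by
        rw [show k⁻¹ * g' * u * (k⁻¹ * g')⁻¹ = k⁻¹ * x * k by rw [hx]; group, ← hkx]
        group
      obtain ⟨dS, hdS, eS⟩ := O.urefl_of_tens ha hb h6 (K.mul_mem (K.inv_mem hkK) hg') eu
        (hm ▸ hTe.mul ⟨LinearMap.id, R i j, eq⟩)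
      refine ⟨dS, e, q, hdS, heK, eq, fun a y => ?_, hex, fun h h1 h2 => (h1.mul_right h2).pow_right n⟩
      rw [show e = k⁻¹ * g' * u * (k⁻¹ * g')⁻¹ * q by rw [← hm, mul_assoc, O.pure_sq eq hq2, mul_one]]
      show ((k⁻¹ * g' * u * (k⁻¹ * g')⁻¹ : OQ Q) : V ≃ₗ[F] V) ((q : V ≃ₗ[F] V) (T a y)) = _
      rw [eq, eS]
  -- the pairs
  let I : Fin b → ℕ × ℕ := fun m => if (m : ℕ) < b - 2 then (0, (m : ℕ) + 1)
    else if (m : ℕ) = b - 2 then (1, 2) else (1, 3)
  have hI : ∀ m, (I m).1 < b - 1 ∧ (I m).2 < b - 1 ∧ (I m).1 < (I m).2 := by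
    intro m
    have := m.2
    simp only [I]
    split_ifs <;> simp <;> omega
  have hIinj : ∀ m m', (I m).1 = (I m').1 → (I m).2 = (I m').2 → m = m' := by
    intro m m' h1 h2
    have := m.2
    have := m'.2
    refine Fin.ext ?_
    simp only [I] at h1 h2
    split_ifs at h1 h2 <;> simp at h1 h2 <;> omega
  choose dS e q hdS heK eq ee hex hcom using fun m => elem _ (hI m).1 _ (hI m).2.1 (hI m).2.2.ne
  set B : Fin b → W →ₗ[F] W := fun m => R (I m).1 (I m).2
  have hpq : ∀ i < b - 1, ∀ j < b - 1, refl g (v j) (v i) = (if i = j then (-1 : F) else 1) • v i := by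
    intro i hi j hj
    by_cases h : i = j
    · subst h; rw [if_pos rfl, neg_refl_self (hne0 i hi), neg_one_smul]
    · rw [if_neg h, one_smul, hg.refl_fix (hvo j hj i hi (Ne.symm h))]
  have hrr : ∀ i < b - 1, ∀ j < b - 1, ∀ y, refl g (v i) (refl g (v j) y) = refl g (v j) (refl g (v i) y) := by
    intro i hi j hj y
    exact refl_comm hg (hg.refl_isometry (hne0 i hi)) (by split_ifs <;> norm_num) (hpq j hj i hi) y
  have hBB : ∀ m m' y, B m (B m' y) = B m' (B m y) := by
    intro m m' y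
    simp only [B, R, LinearMap.comp_apply]
    obtain ⟨h1, h2, -⟩ := hI m
    obtain ⟨h3, h4, -⟩ := hI m'
    rw [hrr _ h2 _ h3, hrr _ h2 _ h4, hrr _ h1 _ h3, hrr _ h1 _ h4]
  have hcomm : ∀ m m', Commute (e m) (q m') := fun m m' => O.el_ext fun a y => by
    show (e m : V ≃ₗ[F] V) ((q m' : V ≃ₗ[F] V) (T a y)) = (q m' : V ≃ₗ[F] V) ((e m : V ≃ₗ[F] V) (T a y))
    rw [eq m', ee, ee, eq m']
    exact congrArg _ (hBB m m' y)
  have hee : ∀ m m', Commute (e m) (e m') := fun m m' => hcom m' _ (hex m) (hcomm m m')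
  have hcases : ∀ m m', m ≠ m' → f (dS m) (dS m') = 0 := by
    intro m m' hmm
    by_contra hne
    have hrr' : ∀ a, refl f (dS m) (refl f (dS m') a) = refl f (dS m') (refl f (dS m) a) := fun a => by
      have h : ((e m * e m' : OQ Q) : V ≃ₗ[F] V) (T a (v 0)) = ((e m' * e m : OQ Q) : V ≃ₗ[F] V) (T a (v 0)) := by
        rw [(hee m m').eq]
      change (e m : V ≃ₗ[F] V) ((e m' : V ≃ₗ[F] V) (T a (v 0))) =
        (e m' : V ≃ₗ[F] V) ((e m : V ≃ₗ[F] V) (T a (v 0))) at h
      rw [ee, ee, ee, ee] at h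
      simp only [map_neg, LinearMap.neg_apply, neg_neg] at h
      rw [show R (I m).1 (I m).2 (R (I m').1 (I m').2 (v 0)) = R (I m').1 (I m').2 (R (I m).1 (I m).2 (v 0)) from
        hBB m m' _] at h
      refine O.T_injective (fun h0 => hne0 0 (by omega) ?_) h
      have h0' := congrArg (fun w => g w w) h0
      simp only [R, LinearMap.comp_apply] at h0'
      obtain ⟨h1, h2, -⟩ := hI m
      obtain ⟨h3, h4, -⟩ := hI m'
      simpa [hg.refl_isometry (hne0 _ h1), hg.refl_isometry (hne0 _ h2), hg.refl_isometry (hne0 _ h3),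
        hg.refl_isometry (hne0 _ h4)] using h0'
    -- the reflecting vectors are proportional
    obtain ⟨t, ht, hprop⟩ : ∃ t : F, t ≠ 0 ∧ dS m' = t • dS m := by
      have h := hrr' (dS m)
      rw [neg_refl_self (hdS m), map_neg, MixTensor.refl_apply f (dS m'), map_sub, map_smul,
        neg_refl_self (hdS m)] at h
      set c := 2 / f (dS m') (dS m') * f (dS m') (dS m)
      have hc : c ≠ 0 := mul_ne_zero (div_ne_zero h20 (hdS m')) (by rw [O.hf.symm]; exact hne)
      rw [MixTensor.refl_apply] at h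
      have h' : (2 : F) • dS m' = (2 : F) • ((f (dS m) (dS m') / f (dS m) (dS m)) • dS m) := by
        refine smul_right_injective U hc ?_
        show c • (2 : F) • dS m' = c • (2 : F) • ((f (dS m) (dS m') / f (dS m) (dS m)) • dS m)
        linear_combination (norm := (match_scalars <;> field_simp <;> ring)) -h
      exact ⟨_, div_ne_zero hne (hdS m), smul_right_injective U h20 h'⟩
    have hsame : ∀ a, refl f (dS m') a = refl f (dS m) a := fun a => by
      have := hdS m
      rw [hprop, MixTensor.refl_apply, MixTensor.refl_apply]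
      simp only [map_smul, LinearMap.smul_apply, smul_eq_mul, smul_smul]
      congr 2
      field_simp
    have eP : Pure T (e m * e m') (B m ∘ₗ B m') := fun a y => by
      show (e m : V ≃ₗ[F] V) ((e m' : V ≃ₗ[F] V) (T a y)) = _
      rw [ee, ee, hsame, map_neg (refl f (dS m)), neg_neg, O.hf.refl_refl (hdS m)]
      rfl
    obtain ⟨h1, h2, h12⟩ := hI m
    obtain ⟨h3, h4, h34⟩ := hI m'
    obtain ⟨hi', h2'⟩ := O.pair_invol (hne0 _ h3) (hne0 _ h4) (hvo _ h3 _ h4 h34.ne)
    obtain ⟨hi0, h20'⟩ := O.pair_invol (hne0 _ h1) (hne0 _ h2) (hvo _ h1 _ h2 h12.ne)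
    have hd2 : finrank F (eigW (B m') (-1)) = 2 := eigW_two_refl hg (hne0 _ h3) (hne0 _ h4) (hvo _ h3 _ h4 h34.ne)
    replace hi' : ∀ y z, g (B m' y) (B m' z) = g y z := hi'
    have hmem : ∀ k < b - 1, (B m') (v k) = (if k = (I m').1 ∨ k = (I m').2 then (-1 : F) else 1) • v k := by
      intro k hk
      simp only [B, R, LinearMap.comp_apply, hpq k hk _ h4, map_smul, hpq k hk _ h3, smul_smul]
      congr 1
      split_ifs <;> first | omega | norm_num
    have hinvB : ∀ y, (B m ∘ₗ B m') ((B m ∘ₗ B m') y) = y := fun y => by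
      simp only [LinearMap.comp_apply]
      rw [← hBB m m' (B m' y)]
      exact (congrArg _ (congrArg _ (h2' y))).trans (h20' y)
    have hisoB : ∀ y z, g ((B m ∘ₗ B m') y) ((B m ∘ₗ B m') z) = g y z := fun y z => (hi0 _ _).trans (hi' y z)
    set B2 := refl g (v (I m).2) ∘ₗ B m'
    have hB2i : ∀ y z, g (B2 y) (B2 z) = g y z := fun y z => (hg.refl_isometry (hne0 _ h2) _ _).trans (hi' y z)
    have hcases2 : finrank F (eigW (B m ∘ₗ B m') (-1)) = 2 ∨ finrank F (eigW (B m ∘ₗ B m') (-1)) = 4 := by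
      rw [show B m ∘ₗ B m' = refl g (v (I m).1) ∘ₗ B2 from rfl]
      have e2 := hmem _ h2
      have e1 : B2 (v (I m).1) = (if (I m).1 = (I m').1 ∨ (I m).1 = (I m').2 then (-1 : F) else 1) • v (I m).1 := by
        rw [LinearMap.comp_apply, hmem _ h1, map_smul, hpq _ h1 _ h2, if_neg h12.ne, one_smul]
      have hdiff : ¬(((I m).1 = (I m').1 ∨ (I m).1 = (I m').2) ∧ ((I m).2 = (I m').1 ∨ (I m).2 = (I m').2)) :=
        fun ⟨ha', hb'⟩ => hmm (hIinj m m' (by omega) (by omega))
      by_cases c2 : (I m).2 = (I m').1 ∨ (I m).2 = (I m').2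
      · rw [if_pos c2, neg_one_smul] at e2
        rw [if_neg fun c1 => hdiff ⟨c1, c2⟩, one_smul] at e1
        have hX : finrank F (eigW B2 (-1)) + 1 = finrank F (eigW (B m') (-1)) :=
          eigW_refl_mul' hg hi' (hne0 _ h2) e2
        rw [eigW_refl_mul hg hB2i (hne0 _ h1) e1]
        left; omega
      · rw [if_neg c2, one_smul] at e2
        have hX : finrank F (eigW B2 (-1)) = finrank F (eigW (B m') (-1)) + 1 :=
          eigW_refl_mul hg hi' (hne0 _ h2) e2
        by_cases c1 : (I m).1 = (I m').1 ∨ (I m).1 = (I m').2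
        · rw [if_pos c1, neg_one_smul] at e1
          have := eigW_refl_mul' hg hB2i (hne0 _ h1) e1
          left; omega
        · rw [if_neg c1, one_smul] at e1
          rw [eigW_refl_mul hg hB2i (hne0 _ h1) e1]
          right; omega
    have hs := eigW_sum h20 hinvB
    exact hcon (O.tens_of_two h6 hxK eP hisoB hinvB ((hex m).symm.mul_right (hex m').symm) (by omega) (by omega))
  have hli : LinearIndependent F dS := by
    rw [Fintype.linearIndependent_iff]
    intro c hc m
    have h := congrArg (f (dS m)) hc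
    rw [map_sum, map_zero, Finset.sum_eq_single m (fun k _ hk => by rw [map_smul, hcases m k (Ne.symm hk), smul_zero])
      (by simp), map_smul, smul_eq_mul, mul_eq_zero] at h
    exact h.resolve_right (hdS m)
  have := hli.fintype_card_le_finrank
  rw [Fintype.card_fin] at this
  omega

/-- **A larger second factor of even dimension.** -/
theorem tens_of_even {k : OQ Q} (hk : k ∈ K) : Tens T k := by
  classical
  have hg := O.hg
  have hf := O.hf
  have := finite_OQ Q
  have := O.nontriv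
  have := O.nontrivW
  have himg : ∀ d : U, ∃ (d' : U) (L : W →ₗ[F] W), f d d ≠ 0 → f d' d' ≠ 0 ∧
      (∀ y, (k : V ≃ₗ[F] V) (T d y) = T d' (L y)) ∧ Function.Surjective L ∧
      ∃ u ∈ K, URefl f T u d ∧ URefl f T (k * u * k⁻¹) d' := by
    intro d
    by_cases hd : f d d = 0
    · exact ⟨0, 0, fun h => absurd hd h⟩
    obtain ⟨u, hu, eu⟩ := O.exists_urefl ha hb h6 hd
    obtain ⟨d', ed'⟩ := O.urefl_of_tens ha hb h6 hk eu (O.urefl_conj_tens ha hb h6 hu eu hk)
    set L : W →ₗ[F] W := (f d' d')⁻¹ • (O.toTensor.flip.C d' ∘ₗ ((k : V ≃ₗ[F] V) : V →ₗ[F] V) ∘ₗ T d)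
    have hL : ∀ y, (k : V ≃ₗ[F] V) (T d y) = T d' (L y) := fun y => by
      refine O.urefl_mem ed' ?_
      show (k : V ≃ₗ[F] V) ((u : V ≃ₗ[F] V) ((k : V ≃ₗ[F] V).symm ((k : V ≃ₗ[F] V) (T d y)))) = _
      rw [LinearEquiv.symm_apply_apply, eu.2, neg_refl_self hd, neg_neg]
    refine ⟨d', L, fun _ => ⟨ed'.1, hL, LinearMap.injective_iff_surjective.1 fun p q h => ?_, u, hu, eu, ed'⟩⟩
    exact O.T_injective' (fun h0 : d = 0 => hd (by simp [h0])) ((k : V ≃ₗ[F] V).injective (by rw [hL, hL, h]))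
  choose φ L hφ using himg
  -- an orthogonal basis
  have : Invertible (2 : F) := invertibleOfNonzero O.two
  obtain ⟨bU, hbU⟩ := LinearMap.BilinForm.exists_orthogonal_basis (B := f) ⟨fun p q => hf.symm q p⟩
  have hne : ∀ i, f (bU i) (bU i) ≠ 0 :=
    LinearMap.IsOrthoᵢ.not_isOrtho_basis_self_of_separatingLeft hbU hf.nd.1
  have horth : ∀ i j, i ≠ j → f (bU i) (bU j) = 0 := fun i j h => hbU h
  have hφorth : ∀ i j, i ≠ j → f (φ (bU i)) (φ (bU j)) = 0 := by
    intro i j hij
    obtain ⟨y₀, hy₀⟩ := hg.exists_aniso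
    obtain ⟨y, hy⟩ := (hφ _ (hne i)).2.2.1 y₀
    obtain ⟨z, hz⟩ := (hφ _ (hne j)).2.2.1 y₀
    have h := OQ.map_polar k (T (bU i) y) (T (bU j) z)
    rw [(hφ _ (hne i)).2.1, (hφ _ (hne j)).2.1, O.polarT, O.polarT, horth i j hij, zero_mul, hy, hz,
      mul_eq_zero] at h
    exact h.resolve_right hy₀
  refine O.tens_of_conj hk (W₁ := ⊤) (fun y _ h => hg.nd.2 y fun t => h t trivial) (by rw [finrank_top]; omega)
    fun w _ z _ _ _ _ σ hσ eσ => ?_
  set s := k * σ * k⁻¹
  -- the action on each line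
  have hS : ∀ d, f d d ≠ 0 → ∃ S : W →ₗ[F] W, ∀ y, (s : V ≃ₗ[F] V) (T (φ d) y) = T (φ d) (S y) := by
    intro d hd
    obtain ⟨-, -, -, u, hu, eu, ed⟩ := hφ d hd
    have hc : Commute s (k * u * k⁻¹) := by
      have h : Commute σ u := O.el_ext fun a y => by
        show (σ : V ≃ₗ[F] V) ((u : V ≃ₗ[F] V) (T a y)) = (u : V ≃ₗ[F] V) ((σ : V ≃ₗ[F] V) (T a y))
        rw [eu.2, eσ, eσ, eu.2]
      simpa [s, mul_assoc] using Commute.map h (MulAut.conj k).toMonoidHom
    refine ⟨(f (φ d) (φ d))⁻¹ • (O.toTensor.flip.C (φ d) ∘ₗ ((s : V ≃ₗ[F] V) : V →ₗ[F] V) ∘ₗ T (φ d)), fun y => ?_⟩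
    refine O.urefl_mem ed ?_
    show ((k * u * k⁻¹ * s : OQ Q) : V ≃ₗ[F] V) (T (φ d) y) = _
    rw [← hc.eq]
    show (s : V ≃ₗ[F] V) (((k * u * k⁻¹ : OQ Q) : V ≃ₗ[F] V) (T (φ d) y)) = _
    rw [ed.2, neg_refl_self ed.1, neg_neg]
  choose! S hS using hS
  have hlink : ∀ (D : U) (t : Finset (Fin (finrank F U))), f D D ≠ 0 → D = ∑ i ∈ t, bU i →
      ∀ i ∈ t, S (bU i) = S D := by
    intro D t hD hsum i hi
    have hdi := hne i
    obtain ⟨hφi, hLi, -, -⟩ := hφ _ hdi
    obtain ⟨-, hLD, hsurj, -⟩ := hφ D hD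
    have e1 : ∀ y, T (φ D) (L D y) = ∑ j ∈ t, T (φ (bU j)) (L (bU j) y) := fun y => by
      rw [← hLD, hsum, map_sum, LinearMap.sum_apply, map_sum]
      exact Finset.sum_congr rfl fun j _ => (hφ _ (hne j)).2.1 y
    set c := f (φ (bU i)) (φ D)
    have hCf : ∀ p r, O.toTensor.flip.C (φ (bU i)) (T p r) = f (φ (bU i)) p • r := fun p r =>
      O.toTensor.flip.C_T (φ (bU i)) r p
    have e2 : ∀ y, c • L D y = f (φ (bU i)) (φ (bU i)) • L (bU i) y := fun y => by
      have h := congrArg (O.toTensor.flip.C (φ (bU i))) (e1 y)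
      rw [map_sum, hCf, Finset.sum_eq_single i (fun j _ hj => by rw [hCf, hφorth i j (Ne.symm hj), zero_smul])
        (fun h => absurd hi h), hCf] at h
      exact h
    have e3 : ∀ y, c • S D (L D y) = f (φ (bU i)) (φ (bU i)) • S (bU i) (L (bU i) y) := fun y => by
      have h := congrArg (fun v => O.toTensor.flip.C (φ (bU i)) ((s : V ≃ₗ[F] V) v)) (e1 y)
      simp only [map_sum, hS D hD, hCf] at h
      rw [Finset.sum_eq_single i (fun j _ hj => by rw [hS _ (hne j), hCf, hφorth i j (Ne.symm hj), zero_smul])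
        (fun h => absurd hi h), hS _ hdi, hCf] at h
      exact h
    have hc0 : c ≠ 0 := fun h0 => by
      obtain ⟨y₀, hy₀⟩ := exists_ne (0 : W)
      obtain ⟨y, hy⟩ := (hφ _ hdi).2.2.1 y₀
      have h := e2 y
      rw [h0, zero_smul, hy, eq_comm, smul_eq_zero] at h
      exact h.elim hφi hy₀
    refine LinearMap.ext fun p => ?_
    obtain ⟨y, rfl⟩ := hsurj p
    refine smul_right_injective W hc0 ?_
    show c • S (bU i) (L D y) = c • S D (L D y)
    rw [e3, ← map_smul, e2, map_smul]
  have hU := O.small.three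
  set i₀ : Fin (finrank F U) := ⟨0, by omega⟩
  have hall : ∀ i, S (bU i) = S (bU i₀) := by
    intro i
    by_cases hi : i = i₀
    · rw [hi]
    by_cases hs : f (bU i₀) (bU i₀) + f (bU i) (bU i) = 0
    · obtain ⟨j, hj₀, hji⟩ : ∃ j, j ≠ i₀ ∧ j ≠ i := by
        have : ({i₀, i} : Finset (Fin (finrank F U))).card < (Finset.univ : Finset (Fin (finrank F U))).card := by
          rw [Finset.card_univ, Fintype.card_fin]
          exact lt_of_le_of_lt Finset.card_le_two (by omega)
        obtain ⟨j, -, hj⟩ := Finset.exists_mem_notMem_of_card_lt_card this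
        exact ⟨j, fun h => hj (by simp [h]), fun h => hj (by simp [h])⟩
      have hD : f (bU i₀ + (bU i + bU j)) (bU i₀ + (bU i + bU j)) ≠ 0 := by
        simp only [map_add, LinearMap.add_apply, horth i₀ i (Ne.symm hi), horth i i₀ hi, horth i₀ j (Ne.symm hj₀),
          horth j i₀ hj₀, horth i j (Ne.symm hji), horth j i hji, add_zero, zero_add]
        rw [← add_assoc, hs, zero_add]
        exact hne j
      have hsum : bU i₀ + (bU i + bU j) = ∑ l ∈ ({i₀, i, j} : Finset _), bU l := by
        rw [Finset.sum_insert (by simp [Ne.symm hi, Ne.symm hj₀]), Finset.sum_insert (by simp [Ne.symm hji]),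
          Finset.sum_singleton]
      rw [hlink _ _ hD hsum i (by simp), hlink _ _ hD hsum i₀ (by simp)]
    · have hD : f (bU i₀ + bU i) (bU i₀ + bU i) ≠ 0 := by
        simp only [map_add, LinearMap.add_apply, horth i₀ i (Ne.symm hi), horth i i₀ hi, add_zero, zero_add]
        exact hs
      have hsum : bU i₀ + bU i = ∑ l ∈ ({i₀, i} : Finset _), bU l := by
        rw [Finset.sum_insert (by simp [Ne.symm hi]), Finset.sum_singleton]
      rw [hlink _ _ hD hsum i (by simp), hlink _ _ hD hsum i₀ (by simp)]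
  have hli : LinearIndependent F fun i => φ (bU i) := by
    rw [Fintype.linearIndependent_iff]
    intro c hc i
    have h := congrArg (f (φ (bU i))) hc
    rw [map_sum, map_zero, Finset.sum_eq_single i (fun j _ hj => by rw [map_smul, hφorth i j (Ne.symm hj), smul_zero])
      (by simp), map_smul, smul_eq_mul, mul_eq_zero] at h
    exact h.resolve_right (hφ _ (hne i)).1
  refine ⟨LinearMap.id, S (bU i₀), fun a y => ?_⟩
  refine LinearMap.congr_fun (LinearMap.ext_on_range (hli.span_eq_top_of_card_eq_finrank' (Fintype.card_fin _))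
    (f := ((s : V ≃ₗ[F] V) : V →ₗ[F] V) ∘ₗ T.flip y) (g := T.flip (S (bU i₀) y)) fun i => ?_) a
  show (s : V ≃ₗ[F] V) (T (φ (bU i)) y) = T (φ (bU i)) (S (bU i₀) y)
  rw [hS _ (hne i), hall]

end Over

end CfsgLib.Geo.OrthTensor
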