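/-
A central element of the stabiliser of a line gives the root groups.
-/
import Cfsg.Agent.Lib.Geo.OrthTensor.Five

set_option autoImplicit false
set_option linter.unusedSectionVars false

namespace CfsgLib.Geo.OrthTensor

open CfsgLib.Classical CfsgLib.Classical.Quad CfsgLib.Geo.OrthMax Module
open CfsgLib.Geo.MixTensor (SymForm)
open QuadraticMap (polar polarBilin)
open LinearMap (BilinForm)

variable {F : Type*} [Field F] [Finite F] {U W V : Type*} [AddCommGroup U] [Module F U] [FiniteDimensional F U]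
  [AddCommGroup W] [Module F W] [FiniteDimensional F W] [AddCommGroup V] [Module F V] [FiniteDimensional F V]
  {Q : QuadraticForm F V} {f : BilinForm F U} {g : BilinForm F W} {T : U →ₗ[F] W →ₗ[F] V}
  {K : Subgroup (OQ Q)}

/-- An overgroup before the case distinction. -/
structure Pre (Q : QuadraticForm F V) (f : BilinForm F U) (g : BilinForm F W) (T : U →ₗ[F] W →ₗ[F] V)
    (K : Subgroup (OQ Q)) : Prop extends Tensor Q f g T where
  three : 3 ≤ finrank F W
  small : Small f
  baseU : ∀ k ∈ commutator (OQ Q), ∀ d z : U, f d d = 0 → f d z = 0 → f z z ≠ 0 →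
    (∀ a y, (k : V ≃ₗ[F] V) (T a y) = T (sv f d z a) y) → k ∈ K
  baseW : ∀ k ∈ commutator (OQ Q), ∀ w z : W, g w w = 0 → g w z = 0 → g z z ≠ 0 →
    (∀ a y, (k : V ≃ₗ[F] V) (T a y) = T a (sv g w z y)) → k ∈ K

/-- The products in `Ω` give both kinds of Siegel maps. -/
theorem Pre.of_tens {Q : QuadraticForm F V} {f : BilinForm F U} {g : BilinForm F W} {T : U →ₗ[F] W →ₗ[F] V}
    {K : Subgroup (OQ Q)} (D : Tensor Q f g T) (h3 : 3 ≤ finrank F W) (hs : Small f)
    (h : ∀ k ∈ commutator (OQ Q), Tens T k → k ∈ K) : Pre Q f g T K :=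
  { D with
    three := h3
    small := hs
    baseU := fun k hk d z _ _ _ e => h k hk ⟨sv f d z, LinearMap.id, e⟩
    baseW := fun k hk w z _ _ _ e => h k hk ⟨LinearMap.id, sv g w z, e⟩ }

/-- The skew map of two vectors. -/
def wdg (f : BilinForm F U) (d x : U) : U →ₗ[F] U := (f d).smulRight x - (f x).smulRight d

theorem wdg_apply (f : BilinForm F U) (d x a : U) : wdg f d x a = f d a • x - f x a • d := by simp [wdg]

theorem Frame.card_le {h : BilinForm F U} {s : Finset U} (hs : Frame h s) : s.card ≤ finrank F U := by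
  have hli : LinearIndependent F (fun a : s => (a : U)) := by
    rw [Fintype.linearIndependent_iff]
    intro c hc a
    have h1 := congrArg (h (a : U)) hc
    rw [map_sum, map_zero, Finset.sum_eq_single a (fun b _ hb => by
      rw [map_smul, (hs a a.2).2 b b.2 (fun e => hb (Subtype.ext e.symm)), smul_zero]) (by simp), map_smul,
      smul_eq_mul, mul_eq_zero] at h1
    exact h1.resolve_right (hs a a.2).1
  simpa using hli.fintype_card_le_finrank

namespace Pre

variable (O : Pre Q f g T K)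
include O

/-- A central element of a line. -/
def InPhi (_O : Pre Q f g T K) (w : W) (φ : U →ₗ[F] U) : Prop :=
  ∃ k ∈ K, ∀ a y, (k : V ≃ₗ[F] V) (T a y) = T a y + g w y • T (φ a) w

theorem five_V : 5 ≤ finrank F V := by
  rw [O.finrank_eq]
  have h1 := Nat.mul_le_mul O.small.three O.three
  omega

theorem phi_congr {w : W} {φ ψ : U →ₗ[F] U} (h : O.InPhi w φ) (e : ∀ a, φ a = ψ a) : O.InPhi w ψ :=
  (LinearMap.ext e : φ = ψ) ▸ h

theorem phi_add {w : W} (hw : g w w = 0) {φ ψ : U →ₗ[F] U} (hφ : O.InPhi w φ) (hψ : O.InPhi w ψ) :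
    O.InPhi w (φ + ψ) := by
  obtain ⟨k, hk, ek⟩ := hφ
  obtain ⟨k', hk', ek'⟩ := hψ
  refine ⟨k * k', K.mul_mem hk hk', fun a y => ?_⟩
  show (k : V ≃ₗ[F] V) ((k' : V ≃ₗ[F] V) (T a y)) = _
  rw [ek', map_add, map_smul, ek, ek, hw, zero_smul, add_zero, LinearMap.add_apply, map_add, LinearMap.add_apply,
    smul_add, add_assoc]

theorem phi_neg {w : W} (hw : g w w = 0) {φ : U →ₗ[F] U} (hφ : O.InPhi w φ) : O.InPhi w (-φ) := by
  obtain ⟨k, hk, ek⟩ := hφ
  refine ⟨k⁻¹, K.inv_mem hk, fun a y => ?_⟩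
  show (k : V ≃ₗ[F] V).symm (T a y) = _
  rw [LinearEquiv.symm_apply_eq, map_add, map_smul, ek, ek, hw, zero_smul, add_zero, LinearMap.neg_apply, map_neg,
    LinearMap.neg_apply, smul_neg, add_neg_cancel_right]

theorem phi_sub {w : W} (hw : g w w = 0) {φ ψ : U →ₗ[F] U} (hφ : O.InPhi w φ) (hψ : O.InPhi w ψ) :
    O.InPhi w (φ - ψ) := by
  rw [sub_eq_add_neg]; exact O.phi_add hw hφ (O.phi_neg hw hψ)

theorem phi_skew {w u : W} (hw : g w w = 0) (hwu : g w u = 1) {φ : U →ₗ[F] U} (h : O.InPhi w φ) (a b : U) :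
    f (φ a) b + f a (φ b) = 0 := by
  obtain ⟨k, -, ek⟩ := h
  have h1 := OQ.map_polar k (T a u) (T b u)
  rw [ek, ek, polar_add_left', polar_add_right', polar_add_right', hwu, one_smul, one_smul, O.polarT, O.polarT,
    O.polarT, O.polarT, hw, hwu, O.hg.symm w u, hwu] at h1
  linear_combination h1

/-- Conjugation by a Siegel map of the first factor. -/
theorem phi_sv {w : W} {d z : U} (hd : f d d = 0) (hdz : f d z = 0) (hz : f z z ≠ 0)
    {φ : U →ₗ[F] U} (h : O.InPhi w φ) : O.InPhi w (sv f d z ∘ₗ φ ∘ₗ sv f d (-z)) := by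
  obtain ⟨k, hk, ek⟩ := h
  have hn := sv_norm O.hf hd hdz
  obtain ⟨m, hmem, e⟩ := O.toTensor.flip.pair_mem O.five_V (c := z) (c' := z + (f z z / 2) • d)
    ⟨hz, hn.symm ▸ hz, Or.inr ⟨f z z, by rw [hn]⟩⟩
  have em : ∀ a y, (m : V ≃ₗ[F] V) (T a y) = T (sv f d z a) y := fun a y => by
    rw [sv_eq_refl O.hf hd hdz hz]
    exact e y a
  have hm : m ∈ K := O.baseU m hmem d z hd hdz hz em
  have hinv : ∀ a, sv f d z (sv f d (-z) a) = a := fun a => by
    have := O.two
    simp only [sv_apply, map_add, map_sub, map_smul, map_neg, LinearMap.neg_apply, smul_eq_mul, hd, hdz,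
      O.hf.symm d z, mul_zero, add_zero, sub_zero, neg_neg]
    match_scalars <;> field_simp <;> ring
  refine ⟨m * k * m⁻¹, K.mul_mem (K.mul_mem hm hk) (K.inv_mem hm), fun a y => ?_⟩
  show (m : V ≃ₗ[F] V) ((k : V ≃ₗ[F] V) ((m : V ≃ₗ[F] V).symm (T a y))) = _
  rw [show (m : V ≃ₗ[F] V).symm (T a y) = T (sv f d (-z) a) y by rw [LinearEquiv.symm_apply_eq, em, hinv], ek,
    map_add, map_smul, em, em, hinv]
  rfl

/-- Conjugation of a skew map of two vectors. -/
theorem phi_wdg_sv {w : W} {d z p x : U} (hd : f d d = 0) (hdz : f d z = 0) (hz : f z z ≠ 0)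
    (h : O.InPhi w (wdg f p x)) : O.InPhi w (wdg f (sv f d z p) (sv f d z x)) := by
  refine O.phi_congr (O.phi_sv hd hdz hz h) fun a => ?_
  have hfl : ∀ q, f q (sv f d (-z) a) = f (sv f d z q) a := fun q => by
    have := O.two
    simp only [sv_apply, map_add, map_sub, map_smul, map_neg, LinearMap.add_apply, LinearMap.sub_apply,
      LinearMap.smul_apply, LinearMap.neg_apply, smul_eq_mul, O.hf.symm q d, O.hf.symm q z]
    ring
  rw [LinearMap.comp_apply, LinearMap.comp_apply, wdg_apply, wdg_apply, map_sub, map_smul, map_smul, hfl, hfl]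

/-- An anisotropic vector pairing with a given one. -/
theorem exists_z {d e : U} (hd : f d d = 0) (he : f e e = 0) (hde : f d e = 1) {x : U} (hdx : f d x = 0)
    (hx : x ∉ Submodule.span F {d}) : ∃ z, f d z = 0 ∧ f e z = 0 ∧ f z z ≠ 0 ∧ f x z ≠ 0 := by
  have hed : f e d = 1 := by rw [O.hf.symm, hde]
  set x' := x - f e x • d
  have h1 : f d x' = 0 := by simp [x', hdx, hd]
  have h2 : f e x' = 0 := by simp [x', hed]
  have hxz : ∀ z, f d z = 0 → f x z = f x' z := fun z hz => by simp [x', hz]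
  by_cases hx' : f x' x' = 0
  swap
  · exact ⟨x', h1, h2, hx', by rwa [hxz x' h1]⟩
  have hx0 : x' ≠ 0 := fun h => hx (by
    rw [sub_eq_zero.1 h]; exact Submodule.smul_mem _ _ (Submodule.mem_span_singleton_self d))
  obtain ⟨y, hy⟩ : ∃ y, f x' y ≠ 0 := by
    by_contra! hc
    exact hx0 (O.hf.nd.1 x' hc)
  set y₁ := (f x' y)⁻¹ • (y - f e y • d - f d y • e)
  have g1 : f d y₁ = 0 := by simp [y₁, hd, hde]
  have g2 : f e y₁ = 0 := by simp [y₁, he, hed]
  have g3 : f x' y₁ = 1 := by
    simp [y₁, O.hf.symm d x', h1, O.hf.symm e x', h2]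
    field_simp
  set η := y₁ - (f y₁ y₁ / 2) • x'
  refine ⟨x' + η, by simp [η, h1, g1], by simp [η, h2, g2], ?_, ?_⟩
  · have := O.two
    simp [η, hx', g3, O.hf.symm x' y₁]
    field_simp
    intro h
    exact mul_ne_zero O.two O.two (by linear_combination h)
  · rw [hxz _ (by simp [η, h1, g1])]
    simp [η, hx', g3]

/-- **A non-zero central element gives all the maps of two opposite lines.** -/
theorem exists_all {w u : W} (hw : g w w = 0) (hwu : g w u = 1) {φ : U →ₗ[F] U} (hφ : O.InPhi w φ) (hne : φ ≠ 0) :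
    ∃ d e, f d d = 0 ∧ f e e = 0 ∧ f d e = 1 ∧ (∀ ζ, O.InPhi w (wdg f d ζ)) ∧ ∀ ζ, O.InPhi w (wdg f e ζ) := by
  classical
  have hf := O.hf
  have h2 := O.two
  have hskew := fun {ψ : U →ₗ[F] U} (h : O.InPhi w ψ) => O.phi_skew hw hwu h
  obtain ⟨d, hd, hφd⟩ : ∃ d, f d d = 0 ∧ φ d ∉ Submodule.span F {d} := by
    by_contra! hc
    obtain ⟨μ, hμ⟩ := scalar_of_isotropic hf O.small.three (κ := φ) fun d hd => by
      obtain ⟨μ, hμ⟩ := Submodule.mem_span_singleton.1 (hc d hd)
      exact ⟨μ, hμ.symm⟩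
    have : Nontrivial U := Module.nontrivial_of_finrank_pos (R := F) (by have := O.small.three; omega)
    obtain ⟨a, ha⟩ := hf.exists_aniso
    have h := hskew hφ a a
    rw [hμ] at h
    simp only [LinearMap.smul_apply, LinearMap.id_apply, map_smul, smul_eq_mul] at h
    have hμ0 : μ = 0 := by
      have h' : (2 : F) * (μ * f a a) = 0 := by linear_combination h
      simpa [h2, ha] using h'
    exact hne (by rw [hμ, hμ0, zero_smul])
  have hd0 : d ≠ 0 := fun h => hφd (by simp [h])
  obtain ⟨e, he, hde⟩ := exists_iso_partner hf hd hd0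
  have hed : f e d = 1 := by rw [hf.symm, hde]
  have hdx : f d (φ d) = 0 := by
    have h := hskew hφ d d
    rw [hf.symm d (φ d)] at h
    exact (mul_eq_zero.1 (show (2 : F) * f d (φ d) = 0 by linear_combination h)).resolve_left h2
  obtain ⟨z, hdz, hez, hz, hxz⟩ := O.exists_z hd he hde hdx hφd
  have hsd : ∀ z, f d z = 0 → sv f d (-z) d = d := fun z h => sv_fix_iso hf hd (by simp [h])
  -- the first step
  set φ₁ := sv f d z ∘ₗ φ ∘ₗ sv f d (-z) - φ
  have h₁ : O.InPhi w φ₁ := O.phi_sub hw (O.phi_sv hd hdz hz hφ) hφ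
  set α := -f z (φ d)
  have hα : α ≠ 0 := neg_ne_zero.2 (by rwa [hf.symm (φ d) z])
  have hφ₁d : φ₁ d = α • d := by
    simp [φ₁, α, hsd z hdz, sv_apply, hdx]
  -- the second step
  set φ₂ := sv f d z ∘ₗ φ₁ ∘ₗ sv f d (-z) - φ₁
  have h₂ : O.InPhi w φ₂ := O.phi_sub hw (O.phi_sv hd hdz hz h₁) h₁
  have hφ₂d : φ₂ d = 0 := by
    simp [φ₂, hsd z hdz, hφ₁d, sv_apply, hd, hdz, hf.symm d z]
  have hφ₂a : ∀ a, f d a = 0 → f e a = 0 → φ₂ a = (f z a * α - f z (φ₁ a)) • d := by
    intro a ha hae
    have e1 : sv f d (-z) a = a + f z a • d := by simp [sv_apply, ha]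
    have e2 : f d (φ₁ a) = 0 := by
      have h := hskew h₁ d a
      rw [hφ₁d, map_smul, LinearMap.smul_apply, ha, smul_zero, zero_add] at h
      exact h
    simp only [φ₂, LinearMap.sub_apply, LinearMap.comp_apply, e1, map_add, map_smul, hφ₁d, sv_apply, e2, hd, hdz,
      hf.symm d z, map_zero, zero_smul, mul_zero, sub_zero, add_zero, smul_smul, smul_zero, map_smul]
    module
  set x₂ := φ₂ e
  have hx₂e : f x₂ e = 0 := by
    have h := hskew h₂ e e
    rw [hf.symm x₂ e] at h
    exact (mul_eq_zero.1 (show (2 : F) * f x₂ e = 0 by linear_combination h)).resolve_left h2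
  have hx₂d : f x₂ d = 0 := by
    have h := hskew h₂ e d
    rwa [hφ₂d, map_zero, add_zero] at h
  have hwd : O.InPhi w (wdg f d x₂) := by
    refine O.phi_congr h₂ fun a => ?_
    set a' := a - f e a • d - f d a • e
    have g1 : f d a' = 0 := by simp [a', hd, hde]
    have g2 : f e a' = 0 := by simp [a', he, hed]
    have hγ : f z a' * α - f z (φ₁ a') = -f x₂ a' := by
      have h := hskew h₂ e a'
      rw [hφ₂a a' g1 g2, map_smul, smul_eq_mul, hed, mul_one] at h
      linear_combination h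
    have hxa : f x₂ a = f x₂ a' := by
      simp [a', hx₂d, hx₂e]
    rw [show a = a' + f e a • d + f d a • e by simp only [a']; module, map_add, map_add, map_smul, map_smul, hφ₂d,
      hφ₂a a' g1 g2, hγ, wdg_apply]
    simp [g1, hd, hde, hx₂d, hx₂e, x₂]
    module
  have hx₂z : f x₂ z ≠ 0 := by
    have h := hskew h₂ e z
    rw [hφ₂a z hdz hez, map_smul, smul_eq_mul, hed, mul_one] at h
    have hzz : f z (φ₁ z) = 0 := by
      have h' := hskew h₁ z z
      rw [hf.symm z (φ₁ z)] at h'
      exact (mul_eq_zero.1 (show (2 : F) * f z (φ₁ z) = 0 by linear_combination h')).resolve_left h2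
    rw [hzz, sub_zero] at h
    rw [show f x₂ z = -(f z z * α) by linear_combination h]
    exact neg_ne_zero.2 (mul_ne_zero hz hα)
  -- the difference of two opposite conjugates
  have odd : ∀ p q, f e p = 0 → f p p ≠ 0 → O.InPhi w (wdg f d q) → O.InPhi w
      (wdg f (sv f e p d) (sv f e p q) - wdg f (sv f e (-p) d) (sv f e (-p) q)) := fun p q hep hp h =>
    O.phi_sub hw (O.phi_wdg_sv he hep hp h) (O.phi_wdg_sv he (by simp [hep]) (by simpa using hp) h)
  -- an anisotropic coefficient
  obtain ⟨ζ, hdζ, heζ, hζ, hζΦ⟩ : ∃ ζ, f d ζ = 0 ∧ f e ζ = 0 ∧ f ζ ζ ≠ 0 ∧ O.InPhi w (wdg f d ζ) := by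
    set x := x₂ - f e x₂ • d
    have g1 : f d x = 0 := by simp [x, hd, hf.symm x₂ d, hx₂d]
    have g2 : f e x = 0 := by simp [x, hed]
    have hxΦ : O.InPhi w (wdg f d x) := O.phi_congr hwd fun a => by
      simp [x, wdg_apply]
      module
    by_cases hx : f x x = 0
    swap
    · exact ⟨x, g1, g2, hx, hxΦ⟩
    have hxz' : f z x ≠ 0 := by
      simp [x, hf.symm d z, hdz]
      rwa [hf.symm x₂ z]
    set c := f z x
    set x' := x - (c / f z z) • z
    have hx' : f x' x' = -(c * c / f z z) := by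
      simp [x', hx, hf.symm z x, c]
      field_simp
      ring
    have hx'0 : f x' x' ≠ 0 := by rw [hx']; exact neg_ne_zero.2 (div_ne_zero (mul_ne_zero hxz' hxz') hz)
    have hde2 : f (d + e) (d + e) = 2 := by simp [hd, he, hde, hed]; norm_num
    have hde2' : f (d - e) (d - e) = -2 := by simp [hd, he, hde, hed]; norm_num
    have hF4 := (((Frame.one f hx'0).insert hf hz (v := z) (by
      simp [x', hf.symm z x, c]
      field_simp
      ring)).insert hf (v := d - e) (hde2' ▸ neg_ne_zero.2 h2) (by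
        simp [x', g1, g2, hdz, hez, hf.symm d x, hf.symm e x, hf.symm d z, hf.symm e z])).insert hf
      (v := d + e) (hde2 ▸ h2) (by
        simp [x', g1, g2, hdz, hez, hf.symm d x, hf.symm e x, hf.symm d z, hf.symm e z, hd, he, hde, hed])
    have hcard : (Insert.insert (d + e) (Insert.insert (d - e) (Insert.insert z ({x'} : Finset U)))).card = 4 := by
      have n1 : z ∉ ({x'} : Finset U) := fun h => by
        rw [Finset.mem_singleton] at h
        have h' : f z x' = 0 := by simp [x', c]; field_simp; ring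
        rw [← h] at h'; exact hz h'
      have n2 : d - e ∉ Insert.insert z ({x'} : Finset U) := fun h => by
        rcases Finset.mem_insert.1 h with h | h
        · have h' := congrArg (f d) h; simp [hd, hde, hdz] at h'
        · have h' := congrArg (f d) (Finset.mem_singleton.1 h); simp [x', hd, hde, g1, hdz] at h'
      have n3 : d + e ∉ Insert.insert (d - e) (Insert.insert z ({x'} : Finset U)) := fun h => by
        rcases Finset.mem_insert.1 h with h | h
        · have h' := congrArg (f d) h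
          simp [hd, hde] at h'
          exact h2 (by linear_combination h')
        rcases Finset.mem_insert.1 h with h | h
        · have h' := congrArg (f d) h; simp [hd, hde, hdz] at h'
        · have h' := congrArg (f d) (Finset.mem_singleton.1 h); simp [x', hd, hde, g1, hdz] at h'
      rw [Finset.card_insert_of_notMem n3, Finset.card_insert_of_notMem n2, Finset.card_insert_of_notMem n1,
        Finset.card_singleton]
    have h4 : 4 ≤ finrank F U := hcard ▸ hF4.card_le
    have h5 : 5 ≤ finrank F U := by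
      by_contra h5
      obtain ⟨t, ht⟩ := Submodule.mem_span_singleton.1 (O.small.four (by omega) d x hd hd0 g1 hx)
      have ht' : t = 0 := by
        have h' := congrArg (f e) ht
        simpa [hed, g2] using h'
      exact hxz' (show f z x = 0 by rw [← ht, ht', zero_smul, map_zero])
    obtain ⟨z', hz', hz'p⟩ := exists_aniso_frame hf hF4 (by omega)
    have k1 : f d z' = 0 := by
      have a1 := hz'p (d + e) (by simp)
      have a2 := hz'p (d - e) (by simp)
      simp at a1 a2
      exact (mul_eq_zero.1 (show (2 : F) * f d z' = 0 by linear_combination a1 + a2)).resolve_left h2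
    have k2 : f e z' = 0 := by
      have a1 := hz'p (d + e) (by simp)
      simp at a1
      rwa [k1, zero_add] at a1
    have k3 : f z z' = 0 := hz'p z (by simp)
    have k4 : f x z' = 0 := by
      have a1 := hz'p x' (by simp)
      simpa [x', k3] using a1
    have hψ := odd z x hez hz hxΦ
    set ψ := wdg f (sv f e z d) (sv f e z x) - wdg f (sv f e (-z) d) (sv f e (-z) x)
    have hψeq : ψ = (2 : F) • wdg f z x - (2 * c) • wdg f d e := LinearMap.ext fun a => by
      simp [ψ, sv_apply, wdg_apply, hed, g2, hez, hf.symm d z, hdz, c]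
      match_scalars <;> ring
    refine ⟨(-(2 * c)) • z', by simp [k1], by simp [k2], by simp [hz', h2, hxz'],
      O.phi_congr (O.phi_sub hw (O.phi_sv hd k1 hz' hψ) hψ) fun a => ?_⟩
    rw [hψeq]
    simp [sv_apply, wdg_apply, hd, hde, hed, hdz, hez, g1, g2, k1, k2, hf.symm z z', k3, hf.symm x z', k4,
      hf.symm d z', hf.symm e z', hf.symm d z, hf.symm d x, c]
    match_scalars <;> ring
  -- a multiple of the pair
  set c₀ := -(2 * f ζ ζ)
  have hc₀ : c₀ ≠ 0 := neg_ne_zero.2 (mul_ne_zero h2 hζ)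
  have hmid : O.InPhi w (c₀ • wdg f d e) := O.phi_congr (odd ζ ζ heζ hζ hζΦ) fun a => by
    simp [c₀, sv_apply, wdg_apply, hed, heζ, hf.symm d ζ, hdζ]
    match_scalars <;> ring
  have hmove : ∀ (t : F), O.InPhi w (t • wdg f d e) → ∀ x, f d x = 0 → f e x = 0 → f x x ≠ 0 →
      O.InPhi w (wdg f d (t • x)) ∧ O.InPhi w (wdg f e (t • x)) := by
    intro t ht x k1 k2 k3
    constructor
    · refine O.phi_congr (O.phi_sub hw (O.phi_sv hd k1 k3 ht) ht) fun a => ?_
      simp [sv_apply, wdg_apply, hd, hde, hed, k1, k2, hf.symm d x, hf.symm e x]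
      match_scalars <;> field_simp <;> ring
    · refine O.phi_congr (O.phi_neg hw (O.phi_sub hw (O.phi_sv he k2 k3 ht) ht)) fun a => ?_
      simp [sv_apply, wdg_apply, he, hed, hde, k1, k2, hf.symm d x, hf.symm e x]
      match_scalars <;> field_simp <;> ring
  have hX : ∀ x, f d x = 0 → f e x = 0 → f x x ≠ 0 → O.InPhi w (wdg f d x) := by
    intro x k1 k2 k3
    have h := (hmove c₀ hmid (c₀⁻¹ • x) (by simp [k1]) (by simp [k2]) (by simp [k3, hc₀])).1
    rwa [smul_inv_smul₀ hc₀] at h
  have hall : ∀ t : F, O.InPhi w (t • wdg f d e) := by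
    intro t
    by_cases ht : t = 0
    · rw [ht, zero_smul]
      have := O.phi_sub hw hmid hmid
      rwa [sub_self] at this
    set s := t / c₀
    have hs : s ≠ 0 := div_ne_zero ht hc₀
    refine O.phi_congr (odd ζ (s • ζ) heζ hζ (hX _ (by simp [hdζ]) (by simp [heζ]) (by simp [hs, hζ]))) fun a => ?_
    simp only [s, c₀]
    simp [sv_apply, wdg_apply, hed, heζ, hf.symm d ζ, hdζ]
    match_scalars <;> field_simp <;> ring
  have hspan : ∀ (P : U → Prop), (∀ x y, P x → P y → P (x - y)) → (∀ x, f d x = 0 → f e x = 0 → f x x ≠ 0 → P x) →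
      ∀ x, f d x = 0 → f e x = 0 → P x := by
    intro P sub aniso x k1 k2
    by_cases hq : f x x = 0
    swap
    · exact aniso x k1 k2 hq
    by_cases hq1 : f (x + ζ) (x + ζ) = 0
    · have hq2 : f (x - ζ) (x - ζ) ≠ 0 := fun h0 => by
        simp only [map_add, map_sub, LinearMap.add_apply, LinearMap.sub_apply, hq] at hq1 h0
        exact mul_ne_zero h2 hζ (by linear_combination hq1 + h0)
      have h := sub (x - ζ) (-ζ) (aniso _ (by simp [k1, hdζ]) (by simp [k2, heζ]) hq2)
        (aniso _ (by simp [hdζ]) (by simp [heζ]) (by simpa using hζ))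
      simpa using h
    · have h := sub (x + ζ) ζ (aniso _ (by simp [k1, hdζ]) (by simp [k2, heζ]) hq1) (aniso ζ hdζ heζ hζ)
      simpa using h
  refine ⟨d, e, hd, he, hde, fun v => ?_, fun v => ?_⟩
  · set x := v - f e v • d - f d v • e
    have hx : O.InPhi w (wdg f d x) := hspan (fun x => O.InPhi w (wdg f d x))
      (fun p q hp hq => O.phi_congr (O.phi_sub hw hp hq) fun a => by simp [wdg_apply]; module) hX x
      (by simp [x, hd, hde]) (by simp [x, he, hed])
    refine O.phi_congr (O.phi_add hw hx (hall (f d v))) fun a => ?_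
    simp [x, wdg_apply]
    module
  · set x := v - f e v • d - f d v • e
    have hx : O.InPhi w (wdg f e x) := hspan (fun x => O.InPhi w (wdg f e x))
      (fun p q hp hq => O.phi_congr (O.phi_sub hw hp hq) fun a => by simp [wdg_apply]; module)
      (fun x k1 k2 k3 => by
        have h := (hmove 1 (hall 1) x k1 k2 k3).2
        rwa [one_smul] at h) x
      (by simp [x, hd, hde]) (by simp [x, he, hed])
    refine O.phi_congr (O.phi_add hw hx (hall (-f e v))) fun a => ?_
    simp [x, wdg_apply]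
    module

/-- Moving to the opposite line. -/
theorem phi_move {w u : W} (hw : g w w = 0) (hu : g u u = 0) (hwu : g w u = 1) :
    ∃ c : F, c ≠ 0 ∧ ∀ φ : U →ₗ[F] U, O.InPhi w φ → O.InPhi u (c • φ) := by
  have h2 := O.two
  have hg := O.hg
  obtain ⟨z, hz, hzP⟩ := exists_aniso_perp hg _ (pair_nondeg hg hw hu hwu)
    (by have := O.three; have := span_pair_le (F := F) w u; omega)
  have hwz : g w z = 0 := hzP w (Submodule.subset_span (Set.mem_insert _ _))
  have huz : g u z = 0 := hzP u (Submodule.subset_span (Set.mem_insert_of_mem _ rfl))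
  set x : F := 2 / g z z
  have hxz : g w (x • z) = 0 := by simp [hwz]
  have hxz' : g (x • z) (x • z) ≠ 0 := by simp [x, hz, h2]
  have hel : ∀ {p v : W}, g p p = 0 → g p v = 0 → g v v ≠ 0 →
      ∃ k ∈ K, ∀ a y, (k : V ≃ₗ[F] V) (T a y) = T a (sv g p v y) := by
    intro p v hp hpv hv
    have hn := sv_norm hg hp hpv
    obtain ⟨m, hmem, em⟩ := O.pair_mem O.five_V (c := v) (c' := v + (g v v / 2) • p)
      ⟨hv, hn.symm ▸ hv, Or.inr ⟨g v v, by rw [hn]⟩⟩
    have e : ∀ a y, (m : V ≃ₗ[F] V) (T a y) = T a (sv g p v y) := fun a y => by rw [em, sv_eq_refl hg hp hpv hv]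
    exact ⟨m, O.baseW m hmem p v hp hpv hv e, e⟩
  obtain ⟨m₁, hm₁, e₁⟩ := hel hu huz hz
  obtain ⟨m₂, hm₂, e₂⟩ := hel hw hxz hxz'
  set c : F := -(g z z / 2)
  have hc : c ≠ 0 := neg_ne_zero.2 (div_ne_zero hz h2)
  set B := sv g w (x • z) ∘ₗ sv g u z
  have hBw : B w = c • u := by
    simp only [B, LinearMap.comp_apply, sv_apply, map_add, map_sub, map_smul, LinearMap.add_apply,
      LinearMap.sub_apply, LinearMap.smul_apply, smul_eq_mul, hw, hu, hwu, hwz, huz, hg.symm w u, hg.symm w z,
      hg.symm u z, x, c]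
    match_scalars <;> field_simp <;> ring
  have hBi : ∀ y y', g (B y) (B y') = g y y' := fun y y' => by
    simp only [B, LinearMap.comp_apply, sv_isometry hg hw hxz, sv_isometry hg hu huz]
  refine ⟨c * c, mul_ne_zero hc hc, fun φ hφ => ?_⟩
  obtain ⟨k, hk, ek⟩ := hφ
  set m := m₂ * m₁
  have hm : m ∈ K := K.mul_mem hm₂ hm₁
  have em : ∀ a y, (m : V ≃ₗ[F] V) (T a y) = T a (B y) := fun a y => by
    show (m₂ : V ≃ₗ[F] V) ((m₁ : V ≃ₗ[F] V) (T a y)) = _
    rw [e₁, e₂]
    rfl
  refine ⟨m * k * m⁻¹, K.mul_mem (K.mul_mem hm hk) (K.inv_mem hm), fun a y => ?_⟩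
  obtain ⟨y, rfl⟩ : ∃ y', B y' = y := LinearMap.injective_iff_surjective.1 (fun p q h => O.gext fun v => by
    rw [← hBi v p, h, hBi]) y
  show (m : V ≃ₗ[F] V) ((k : V ≃ₗ[F] V) ((m : V ≃ₗ[F] V).symm (T a (B y)))) = _
  rw [show (m : V ≃ₗ[F] V).symm (T a (B y)) = T a y by rw [LinearEquiv.symm_apply_eq]; exact (em a y).symm, ek,
    map_add, map_smul, em, em]
  have h3 : g w y = c * g u (B y) := by
    rw [← hBi w y, hBw, map_smul, LinearMap.smul_apply, smul_eq_mul]
  rw [hBw, h3]
  simp [smul_smul]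
  module

theorem Q_pure {d : U} (hd : f d d = 0) (y : W) : Q (T d y) = 0 := by rw [O.Q_T, hd, zero_mul, zero_div]

theorem Q_pure' (a : U) {y : W} (hy : g y y = 0) : Q (T a y) = 0 := by rw [O.Q_T, hy, mul_zero, zero_div]

/-- The Eichler transformation of a line. -/
theorem has_of_phi {w : W} (hw : g w w = 0) {d ζ : U} (h : O.InPhi w (wdg f d ζ)) :
    Has O.hQ K (T d w) (T ζ w) := by
  intro hp hq
  obtain ⟨k, hk, ek⟩ := O.phi_neg hw h
  convert hk using 1
  refine O.el_ext fun a y => ?_
  rw [ek, eich_apply, O.Q_pure' ζ hw, zero_mul, sub_zero, O.polarT, O.polarT, O.hg.symm w y, O.hf.symm d a,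
    O.hf.symm ζ a, LinearMap.neg_apply, wdg_apply]
  simp only [map_neg, map_sub, map_smul, LinearMap.neg_apply, LinearMap.sub_apply, LinearMap.smul_apply]
  module

/-- The vectors orthogonal to the first factor of a line. -/
theorem has_perp {d e : U} {w u : W} (hd : f d d = 0) (he : f e e = 0) (hde : f d e = 1) (hw : g w w = 0)
    (hu : g u u = 0) (hwu : g w u = 1) (hA : ∀ ζ, Has O.hQ K (T d w) (T ζ w))
    (hB : ∀ ζ, Has O.hQ K (T d u) (T ζ u)) :
    (∀ ε, f d ε = 0 → Has O.hQ K (T d w) (T ε u)) ∧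
      ∀ ε y, f d ε = 0 → g w y = 0 → g u y = 0 → Has O.hQ K (T d w) (T ε y) := by
  have hf := O.hf
  have hg := O.hg
  have h2 := O.two
  have hpw : ∀ ε, polar Q (T d w) (T ε w) = 0 := fun ε => by rw [O.polarT, hw, mul_zero]
  -- move by the opposite root
  have hmove : ∀ ε, f d ε = 0 → ∀ ζ, Has O.hQ K (T d w) (T ζ w + (f ζ ε • T d u - f ζ d • T ε u)) := by
    intro ε hε ζ
    have hq : polar Q (T d u) (T ε u) = 0 := by rw [O.polarT, hu, mul_zero]
    have hk := hB ε (O.Q_pure hd u) hq
    have h1 := (hA ζ).conj O.hQ hk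
    rw [eich_apply, eich_apply, O.Q_pure' ε hu, zero_mul, sub_zero, zero_mul, sub_zero] at h1
    simp only [O.polarT, hwu, hd, hε, mul_one, zero_smul, neg_zero, add_zero, neg_smul, ← sub_eq_add_neg] at h1
    rwa [add_sub_assoc] at h1
  have hsub : ∀ {v v' : V}, Has O.hQ K (T d w) v → Has O.hQ K (T d w) v' → polar Q (T d w) v = 0 →
      polar Q (T d w) v' = 0 → Has O.hQ K (T d w) (v - v') := by
    intro v v' hv hv' p p'
    rw [sub_eq_add_neg]
    refine hv.add O.hQ (fun hq hn => ?_) p
    have h := K.inv_mem (hv' hq p')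
    rwa [eich_inv] at h
  obtain ⟨z, hz, hzp⟩ := exists_aniso_perp hf _ (pair_nondeg hf hd he hde)
    (by have := O.small.three; have := span_pair_le (F := F) d e; omega)
  have hdz : f d z = 0 := hzp d (Submodule.subset_span (Set.mem_insert _ _))
  have hpd : ∀ (t : F), polar Q (T d w) (T (t • d) u) = 0 := fun t => by
    rw [O.polarT, map_smul, hd, smul_zero, zero_mul]
  have hdu : ∀ t : F, Has O.hQ K (T d w) (T (t • d) u) := by
    intro t
    have h := hsub (hmove z hdz ((t / f z z) • z)) (hA ((t / f z z) • z)) (by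
      rw [polar_add_right', hpw, zero_add, sub_eq_add_neg, polar_add_right', QuadraticMap.polar_neg_right,
        polar_smul_right', polar_smul_right', O.polarT, O.polarT, hd, hdz]
      ring) (hpw _)
    rw [add_sub_cancel_left, map_smul, LinearMap.smul_apply, LinearMap.smul_apply, hf.symm d z, hdz,
      smul_eq_mul, smul_zero, zero_smul, sub_zero] at h
    rw [map_smul, LinearMap.smul_apply]
    convert h using 2
    field_simp
  have hεu : ∀ ε, f d ε = 0 → Has O.hQ K (T d w) (T ε u) := by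
    intro ε hε
    have h := hsub ((hA e).add O.hQ (hdu (f e ε)) (hpw e)) (hmove ε hε e) (by
      rw [polar_add_right', hpw, hpd, add_zero]) (by
      rw [polar_add_right', hpw, zero_add, sub_eq_add_neg, polar_add_right', QuadraticMap.polar_neg_right,
        polar_smul_right', polar_smul_right', O.polarT, O.polarT, hd, hε]
      ring)
    convert h using 1
    rw [map_smul, LinearMap.smul_apply, hf.symm d e, hde, one_smul]
    abel
  refine ⟨hεu, fun ε y hε hwy huy => ?_⟩
  have haniso : ∀ y, g w y = 0 → g u y = 0 → g y y ≠ 0 → Has O.hQ K (T d w) (T ε y) := by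
    intro y k1 k2 k3
    have hn := sv_norm hg hw k1
    obtain ⟨m, hmem, em⟩ := O.pair_mem O.five_V (c := y) (c' := y + (g y y / 2) • w)
      ⟨k3, hn.symm ▸ k3, Or.inr ⟨g y y, by rw [hn]⟩⟩
    have em' : ∀ a v, (m : V ≃ₗ[F] V) (T a v) = T a (sv g w y v) := fun a v => by
      rw [em, sv_eq_refl hg hw k1 k3]
    have hm : m ∈ K := O.baseW m hmem w y hw k1 k3 em'
    have h1 := (hεu ε hε).conj O.hQ hm
    rw [em', em', sv_fix_iso hg hw k1, sv_apply, hwu, hg.symm u y, k2, zero_smul, sub_zero, one_smul, mul_one] at h1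
    have hcw : Has O.hQ K (T d w) (T ((g y y / 2) • ε) w) := hA _
    have h2' := hsub (h1.add O.hQ hcw (by
      rw [O.polarT, map_sub, map_add, map_smul, hwu, k1, hw, hε]
      ring)) (hεu ε hε) (by
      rw [polar_add_right', O.polarT, O.polarT, hε, map_smul, smul_eq_mul, hε]; ring) (by
      rw [O.polarT, hε, zero_mul])
    convert h2' using 1
    simp only [map_sub, map_add, map_smul, LinearMap.smul_apply]
    abel
  by_cases hy : g y y = 0
  swap
  · exact haniso y hwy huy hy
  obtain ⟨h, hh, hhP⟩ := exists_aniso_perp hg _ (pair_nondeg hg hw hu hwu)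
    (by have := O.three; have := span_pair_le (F := F) w u; omega)
  have hwh : g w h = 0 := hhP w (Submodule.subset_span (Set.mem_insert _ _))
  have huh : g u h = 0 := hhP u (Submodule.subset_span (Set.mem_insert_of_mem _ rfl))
  have hp : ∀ v, polar Q (T d w) (T ε v) = 0 := fun v => by rw [O.polarT, hε, zero_mul]
  by_cases h1 : g (y + h) (y + h) = 0
  · have h3 : g (y - h) (y - h) ≠ 0 := fun h0 => by
      simp only [map_add, map_sub, LinearMap.add_apply, LinearMap.sub_apply, hy] at h1 h0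
      exact mul_ne_zero h2 hh (by linear_combination h1 + h0)
    have h4 := (haniso (y - h) (by simp [hwy, hwh]) (by simp [huy, huh]) h3).add O.hQ (haniso h hwh huh hh) (hp _)
    rwa [← map_add, sub_add_cancel] at h4
  · have h4 := hsub (haniso (y + h) (by simp [hwy, hwh]) (by simp [huy, huh]) h1) (haniso h hwh huh hh) (hp _) (hp _)
    rwa [← map_sub, add_sub_cancel_right] at h4

/-- The whole root group of a pure tensor. -/
theorem hasRoot_pure {d e : U} {w u : W} (hd : f d d = 0) (he : f e e = 0) (hde : f d e = 1) (hw : g w w = 0)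
    (hu : g u u = 0) (hwu : g w u = 1) (hA : ∀ ζ, Has O.hQ K (T d w) (T ζ w))
    (hB : ∀ ζ, Has O.hQ K (T d u) (T ζ u)) (hA' : ∀ ζ, Has O.hQ K (T e w) (T ζ w))
    (hB' : ∀ ζ, Has O.hQ K (T e u) (T ζ u)) : HasRoot O.hQ K (T d w) := by
  have hed : f e d = 1 := by rw [O.hf.symm, hde]
  obtain ⟨h1, h2⟩ := O.has_perp hd he hde hw hu hwu hA hB
  obtain ⟨-, h2'⟩ := O.has_perp he hd hed hw hu hwu hA' hB'
  have huw : g u w = 1 := by rw [O.hg.symm, hwu]
  have hey : ∀ y, g w y = 0 → g u y = 0 → Has O.hQ K (T d w) (T e y) := by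
    intro y hwy huy
    have hq : polar Q (T e w) (T e y) = 0 := by rw [O.polarT, he, zero_mul]
    have hk := h2' e y he hwy huy (O.Q_pure he w) hq
    have h := (h1 d hd).conj O.hQ hk
    rw [eich_apply, eich_apply, O.Q_pure he y, zero_mul, sub_zero, zero_mul, sub_zero] at h
    simp only [O.polarT, hwy, huy, hw, huw, hde, hd, mul_zero, mul_one, zero_smul, neg_zero, add_zero,
      neg_smul, one_smul] at h
    intro hp hv
    have hneg : Has O.hQ K (T d w) (-T d u) := fun hq' hn => by
      have := K.inv_mem (h1 d hd hq' (by rwa [QuadraticMap.polar_neg_right, neg_eq_zero] at hn))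
      rwa [eich_inv] at this
    have h3 := h.add O.hQ hneg (by
        rw [polar_add_right', QuadraticMap.polar_neg_right, O.polarT, O.polarT, hd, hwy]; ring)
    rw [show T d u + -T e y + -T d u = -T e y by abel] at h3
    have h4 := K.inv_mem (h3 hp (by rw [QuadraticMap.polar_neg_right, hv, neg_zero]))
    rwa [eich_inv, eich_congr O.hQ rfl (neg_neg (T e y))] at h4
  let π : W →ₗ[F] W := LinearMap.id - (g u).smulRight w - (g w).smulRight u
  have hπ : ∀ y, g w (π y) = 0 ∧ g u (π y) = 0 := fun y => by simp [π, hw, hu, hwu, huw]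
  let Pr : V →ₗ[F] V := LinearMap.id - T.flip w ∘ₗ O.C u - T.flip u ∘ₗ O.C w
  have hPr : ∀ a y, Pr (T a y) = T a (π y) := fun a y => by simp [Pr, π, O.C_T]
  have hperp : ∀ x, polar Q (T d w) (Pr x) = 0 := fun x => by
    simp only [Pr, LinearMap.sub_apply, LinearMap.id_apply, LinearMap.comp_apply, LinearMap.flip_apply,
      QuadraticMap.polar_sub_right, O.polarT, hwu, hw, O.f_C]
    ring
  have hPrall : ∀ x (c : F), Has O.hQ K (T d w) (c • Pr x) := by
    intro x
    induction (O.span ▸ Submodule.mem_top : x ∈ Submodule.span F (Set.range fun p : U × W => T p.1 p.2))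
      using Submodule.span_induction with
    | mem z hz =>
      obtain ⟨⟨a, y⟩, rfl⟩ := hz
      intro c
      set ε := a - f d a • e
      have hε : f d ε = 0 := by simp [ε, hde]
      rw [hPr, ← map_smul]
      have h := (h2 ε (c • π y) hε (by simp [(hπ y).1]) (by simp [(hπ y).2])).add O.hQ
        (hey ((f d a * c) • π y) (by simp [(hπ y).1]) (by simp [(hπ y).2])) (by rw [O.polarT, hε, zero_mul])
      convert h using 1
      simp [ε, smul_sub, smul_smul, mul_comm]
    | zero =>
      intro c hp hy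
      rw [eich_congr O.hQ rfl (show c • Pr 0 = (0 : V) by simp), eich_zero_right]
      exact K.one_mem
    | add x y _ _ hx hy =>
      intro c
      rw [map_add, smul_add]
      exact (hx c).add O.hQ (hy c) (by rw [polar_smul_right', hperp, mul_zero])
    | smul r x _ hx =>
      intro c
      rw [map_smul, smul_smul]
      exact hx (c * r)
  intro x hp hx
  have hfx : f d (O.C w x) = 0 := by rw [O.f_C]; exact hx
  have e1 : x = T (O.C u x) w + T (O.C w x) u + (1 : F) • Pr x := by simp [Pr]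
  rw [eich_congr O.hQ rfl e1]
  exact (((hA _).add O.hQ (h1 _ hfx) (by rw [O.polarT, hw, mul_zero])).add O.hQ (hPrall x 1) (by
    rw [polar_add_right', O.polarT, O.polarT, hw, hfx]; ring)) _ _

/-- Root groups at two opposite points give the whole group. -/
theorem eichGroup_le_of_two {u u' : V} (hu : Q u = 0) (hu' : Q u' = 0) (huu : polar Q u u' = 1)
    (hr : HasRoot O.hQ K u) (hr' : HasRoot O.hQ K u') : eichGroup O.hQ ≤ K := by
  have hn := O.five_V
  have step : ∀ v, Q v = 0 → polar Q u v = 1 → HasRoot O.hQ K v := by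
    intro v hv huv
    have ha : polar Q u (u' - v) = 0 := by rw [QuadraticMap.polar_sub_right, huu, huv, sub_self]
    have e : (eich O.hQ hu ha : V ≃ₗ[F] V) u' = v := by
      have e2 : Q (u' - v) = -polar Q u' v := by
        rw [sub_eq_add_neg, apply_add, QuadraticMap.map_neg, QuadraticMap.polar_neg_right, hu', hv]; ring
      rw [eich_apply, QuadraticMap.polar_sub_right, polar_self', hu', e2, QuadraticMap.polar_comm Q u' u, huu]
      module
    rw [← e]
    exact hr'.conj O.hQ (hr _ hu ha)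
  have step' : ∀ v, Q v = 0 → polar Q u v ≠ 0 → HasRoot O.hQ K v := fun v hv h => by
    refine HasRoot.of_smul O.hQ (inv_ne_zero h) (step _ ?_ ?_)
    · rw [apply_smul, hv, mul_zero]
    · rw [polar_smul_right', inv_mul_cancel₀ h]
  refine le_of_has O.hQ hn fun w x hw _ _ => ?_
  suffices HasRoot O.hQ K w from this x
  by_cases hw0 : w = 0
  · intro a hw ha
    rw [eich_congr O.hQ hw0 (rfl : a = a), eich_zero_left]
    exact K.one_mem
  by_cases h : polar Q u w = 0
  swap
  · exact step' w hw h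
  by_cases hli : LinearIndependent F ![u, w]
  · obtain ⟨z, hz, hzu, hzw⟩ := exists_common_partner O.hQ hn hu hw hli
    have hz' : HasRoot O.hQ K z := step z hz (by rw [QuadraticMap.polar_comm, hzu])
    have ha : polar Q z (u - w) = 0 := by rw [QuadraticMap.polar_sub_right, hzu, hzw, sub_self]
    have e : (eich O.hQ hz ha : V ≃ₗ[F] V) u = w := by
      have e2 : Q (u - w) = 0 := by
        rw [sub_eq_add_neg, apply_add, QuadraticMap.map_neg, QuadraticMap.polar_neg_right, hu, hw, h]; ring
      rw [eich_apply, QuadraticMap.polar_sub_right, polar_self', hu, e2, h, QuadraticMap.polar_comm Q u z, hzu]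
      module
    rw [← e]
    exact hr.conj O.hQ (hz' _ hz ha)
  · have hu0 : u ≠ 0 := fun e => by simp [e] at huu
    rw [linearIndependent_fin2] at hli
    simp only [Matrix.cons_val_one, Matrix.cons_val_zero, ne_eq, hw0, not_false_eq_true, true_and, not_forall,
      not_not] at hli
    obtain ⟨c, hc⟩ := hli
    have hc0 : c ≠ 0 := fun e => hu0 (by rw [← hc, e, zero_smul])
    exact HasRoot.of_smul O.hQ hc0 (hc.symm ▸ hr)

/-- **A non-zero central element gives the whole group.** -/
theorem eichGroup_le {w : W} (hw0 : w ≠ 0) (hw : g w w = 0) {φ : U →ₗ[F] U} (hφ : O.InPhi w φ) (hne : φ ≠ 0) :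
    eichGroup O.hQ ≤ K := by
  obtain ⟨u, hu, hwu⟩ := exists_iso_partner O.hg hw hw0
  have huw : g u w = 1 := by rw [O.hg.symm, hwu]
  obtain ⟨d, e, hd, he, hde, hA, hC⟩ := O.exists_all hw hwu hφ hne
  have hed : f e d = 1 := by rw [O.hf.symm, hde]
  obtain ⟨c, hc, hmove⟩ := O.phi_move hw hu hwu
  have hscale : ∀ d ζ : U, c • wdg f d (c⁻¹ • ζ) = wdg f d ζ := fun d ζ => LinearMap.ext fun a => by
    simp only [LinearMap.smul_apply, wdg_apply, map_smul, LinearMap.smul_apply, smul_eq_mul]
    match_scalars <;> field_simp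
  have hdw := fun ζ => O.has_of_phi hw (hA ζ)
  have hdu := fun ζ => O.has_of_phi hu (O.phi_congr (hmove _ (hA (c⁻¹ • ζ))) fun a =>
    LinearMap.congr_fun (hscale d ζ) a)
  have hew := fun ζ => O.has_of_phi hw (hC ζ)
  have heu := fun ζ => O.has_of_phi hu (O.phi_congr (hmove _ (hC (c⁻¹ • ζ))) fun a =>
    LinearMap.congr_fun (hscale e ζ) a)
  exact O.eichGroup_le_of_two (O.Q_pure hd w) (O.Q_pure he u) (by rw [O.polarT, hde, hwu, one_mul])
    (O.hasRoot_pure hd he hde hw hu hwu hdw hdu hew heu) (O.hasRoot_pure he hd hed hu hw huw heu hew hdu hdw)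

end Pre

end CfsgLib.Geo.OrthTensor
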