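/-
The stabiliser of a tensor decomposition into two orthogonal spaces is maximal in `Ω`.
-/
import Cfsg.Agent.Lib.Geo.OrthTensor.Root
import Cfsg.Agent.Lib.Geo.OrthTensor.OddCase
import Cfsg.Agent.Lib.Geo.OrthTensor.EvenCase
import Cfsg.Agent.Lib.Geo.OrthTensorThree

set_option autoImplicit false
set_option linter.unusedSectionVars false

namespace CfsgLib.Geo.OrthTensor

open CfsgLib.Classical CfsgLib.Classical.Quad CfsgLib.Geo.OrthMax Module
open CfsgLib.Geo.MixTensor (SymForm)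
open QuadraticMap (polar polarBilin)
open LinearMap (BilinForm)
open scoped Kronecker
open Matrix

section Abstract

variable {F : Type*} [Field F] [Finite F] {U W V : Type*} [AddCommGroup U] [Module F U] [FiniteDimensional F U]
  [AddCommGroup W] [Module F W] [FiniteDimensional F W] [AddCommGroup V] [Module F V] [FiniteDimensional F V]
  {Q : QuadraticForm F V} {f : BilinForm F U} {g : BilinForm F W} {T : U →ₗ[F] W →ₗ[F] V}
  {K : Subgroup (OQ Q)}

theorem Tens.flip {k : OQ Q} (h : Tens T.flip k) : Tens T k := by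
  obtain ⟨B, A, e⟩ := h
  exact ⟨A, B, fun a y => e y a⟩

theorem Tens.to_flip {k : OQ Q} (h : Tens T k) : Tens T.flip k := by
  obtain ⟨A, B, e⟩ := h
  exact ⟨B, A, fun y a => e a y⟩

/-- **The dichotomy.** -/
theorem Tensor.dichotomy (D : Tensor Q f g T) (hs : Small f) (hlt : finrank F U < finrank F W)
    (h5 : 5 ≤ finrank F W) (hpar : Odd (finrank F U) ∨ Odd (finrank F W))
    (hbase : ∀ k ∈ commutator (OQ Q), Tens T k → k ∈ K) (hsub : K ≤ commutator (OQ Q)) :
    eichGroup D.hQ ≤ K ∨ ∀ k ∈ K, Tens T k := by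
  by_cases hnc : ∃ k ∈ K, ∃ (w : W) (φ : U →ₗ[F] U), w ≠ 0 ∧ g w w = 0 ∧
      (∀ a y, (k : V ≃ₗ[F] V) (T a y) = T a y + g w y • T (φ a) w) ∧ φ ≠ 0
  · obtain ⟨k, hk, w, φ, hw0, hw, hka, hne⟩ := hnc
    have O : Pre Q f g T K := Pre.of_tens D (by omega) hs hbase
    exact Or.inl (O.eichGroup_le hw0 hw ⟨k, hk, hka⟩ hne)
  · push_neg at hnc
    have O : Over Q f g T K :=
      { D with five := h5, small := hs, lt := hlt, odd := hpar, base := hbase, sub := hsub, nc := hnc }
    refine Or.inr fun k hk => ?_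
    rcases Nat.even_or_odd (finrank F W) with hb | hb
    · refine O.tens_of_even (hpar.resolve_right (Nat.not_odd_iff_even.2 hb)) hb ?_ hk
      obtain ⟨j, hj⟩ := hb
      omega
    · exact O.tens_of_odd hb hk

/-- An element of `Ω` which is not a product. -/
theorem Tensor.exists_not_tens (D : Tensor Q f g T) (hU : 3 ≤ finrank F U) (hW : 3 ≤ finrank F W)
    (hV : 5 ≤ finrank F V) : ∃ k ∈ eichGroup D.hQ, ¬ Tens T k := by
  obtain ⟨d, -, hd0, hd⟩ := D.hf.exists_isotropic (P := ⊤) (by rwa [finrank_top])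
  obtain ⟨e, he, hde⟩ := exists_iso_partner D.hf hd hd0
  obtain ⟨y, -, hy0, hy⟩ := D.hg.exists_isotropic (P := ⊤) (by rwa [finrank_top])
  obtain ⟨p, hp, hyp⟩ := exists_iso_partner D.hg hy hy0
  obtain ⟨z, hz, hzp⟩ := exists_aniso_perp D.hf _ (pair_nondeg D.hf hd he hde)
    (by have := span_pair_le (F := F) d e; omega)
  have hdz : f d z = 0 := hzp d (Submodule.subset_span (Set.mem_insert _ _))
  have hez : f e z = 0 := hzp e (Submodule.subset_span (Set.mem_insert_of_mem _ rfl))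
  have h0 : polar Q (T d y) (T z y) = 0 := by rw [D.polarT, hy, mul_zero]
  have hq : Q (T d y) = 0 := by rw [D.Q_T, hd, zero_mul, zero_div]
  refine ⟨eich D.hQ hq h0, eich_mem D.hQ hV _ _, fun ⟨A, B, hAB⟩ => ?_⟩
  have h := hAB e (y + p)
  have hr : g (y + p) y = 1 := by simp [hy, D.hg.symm y p, hyp]
  rw [eich_apply, D.Q_T z y, hy, mul_zero, zero_div, zero_mul, sub_zero, D.polarT, D.polarT, hr,
    D.hf.symm d e, hde, hez] at h
  simp only [zero_mul, zero_smul, add_zero, mul_one, neg_smul, one_smul] at h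
  generalize B (y + p) = r at h
  have h1 := congrArg (fun v => f d (D.C y v)) h
  have h2 := congrArg (fun v => f z (D.C y v)) h
  have h3 := congrArg (fun v => f z (D.C (y + p) v)) h
  simp only [map_add, map_sub, map_neg, map_smul, LinearMap.add_apply, D.C_T, smul_eq_mul, hde, hdz, hy, hyp, hp,
    D.hg.symm y p, D.hf.symm e z, hez, zero_smul, mul_zero, add_zero, zero_add, neg_zero, sub_zero, mul_one,
    one_smul, one_mul] at h1 h2 h3
  have hA : f z (A e) = 0 := (mul_eq_zero.1 h2.symm).resolve_left fun h0 => one_ne_zero (α := F) (by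
    rw [h1, h0, zero_mul])
  rw [hA] at h3
  exact hz (by linear_combination -h3)

end Abstract

variable {F : Type*} [Field F] [Fintype F] {ι : Type} [Fintype ι] [DecidableEq ι] {n₁ n₂ : ℕ}

/-- The admissible smaller factors. -/
def Adm {n : ℕ} (f : (Fin n → F) → (Fin n → F) → F) : Prop :=
  ¬ (Fintype.card F = 3 ∧ n = 3) ∧ (n = 4 → ¬ Cfsg.Geo.IsPlusTypeOn (fun v => f v v) ⊤)

theorem small_of_adm {n : ℕ} {f₀ : (Fin n → F) → (Fin n → F) → F} {f : BilinForm F (Fin n → F)} (hf : SymForm f)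
    {c : F} (hc : c ≠ 0) (e : ∀ u v, f u v = c * f₀ u v) (h3 : 3 ≤ n) (h : Adm f₀) : Small f where
  form := hf
  three := by rwa [Module.finrank_fin_fun]
  big hF := by
    classical
    rw [Module.finrank_fin_fun]
    by_contra h4
    refine h.1 ⟨le_antisymm ?_ ?_, by omega⟩
    · rw [← Finset.card_univ]
      exact (Finset.card_le_card (t := ({0, 1, -1} : Finset F)) fun u _ => by simpa using hF u).trans
        Finset.card_le_three
    · have h2 := hf.two
      have : ({0, 1, -1} : Finset F).card = 3 := Finset.card_eq_three.2 ⟨0, 1, -1, zero_ne_one,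
        (neg_ne_zero.2 one_ne_zero).symm, fun h => h2 (by linear_combination h), rfl⟩
      exact this ▸ Finset.card_le_univ _
  four h4 d z hd hd0 hdz hz := by
    by_contra hzd
    rw [Module.finrank_fin_fun] at h4
    have hli : LinearIndependent F ![d, z] := by
      rw [LinearIndependent.pair_iff' hd0]
      exact fun a ha => hzd (ha ▸ Submodule.smul_mem _ _ (Submodule.mem_span_singleton_self d))
    refine h.2 h4 ⟨Submodule.span F (Set.range ![d, z]), le_top, fun v hv => ?_, ?_⟩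
    · rw [Submodule.mem_span_range_iff_exists_fun] at hv
      obtain ⟨s, rfl⟩ := hv
      refine (mul_eq_zero.1 ?_).resolve_left hc
      rw [← e]
      simp [Fin.sum_univ_two, hd, hdz, hz, hf.symm d z]
    · rw [finrank_top, Module.finrank_fin_fun, finrank_span_eq_card hli, Fintype.card_fin]
      omega

/-- **The stabiliser of an orthogonal tensor decomposition is maximal.** -/
theorem maximal {Q : QuadraticForm F (ι → F)} (hQ : (polarBilin Q).Nondegenerate) (hn : 13 ≤ Fintype.card ι)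
    (hodd : Odd (Fintype.card F)) (h1 : 3 ≤ n₁) (h2 : 3 ≤ n₂) (hpar : Odd n₁ ∨ Odd n₂)
    (e : ι ≃ Fin n₁ × Fin n₂) (P : Matrix.GeneralLinearGroup ι F)
    {f₁ : (Fin n₁ → F) → (Fin n₁ → F) → F} {f₂ : (Fin n₂ → F) → (Fin n₂ → F) → F}
    (hf₁ : Cfsg.Geo.IsSymmetricForm f₁) (hf₂ : Cfsg.Geo.IsSymmetricForm f₂)
    (hcase : n₁ < n₂ ∧ Adm f₁ ∨ n₂ < n₁ ∧ Adm f₂)
    (hT : Cfsg.Geo.IsTensorFormStructure id (polar ⇑Q) f₁ f₂ e P) :
    Cfsg.Geo.IsMaximalIn (Cfsg.Geo.omegaGL (⇑Q))
      (Cfsg.Geo.tensorProductSubgroup n₁ n₂ e P ⊓ Cfsg.Geo.omegaGL (⇑Q)) := by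
  classical
  obtain ⟨c, hc, hT⟩ := hT
  have two : (2 : F) ≠ 0 := Ring.two_ne_zero fun h => by
    rw [FiniteField.even_card_iff_char_two, ← Nat.even_iff] at h
    exact Nat.not_odd_iff_even.2 h hodd
  have hcard : Fintype.card ι = n₁ * n₂ := by simpa using Fintype.card_congr e
  let f : BilinForm F (Fin n₁ → F) := c • LinearMap.mk₂ F f₁ hf₁.bilinear.add_left hf₁.bilinear.smul_left
    hf₁.bilinear.add_right hf₁.bilinear.smul_right
  let g : BilinForm F (Fin n₂ → F) := LinearMap.mk₂ F f₂ hf₂.bilinear.add_left hf₂.bilinear.smul_left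
    hf₂.bilinear.add_right hf₂.bilinear.smul_right
  let T : (Fin n₁ → F) →ₗ[F] (Fin n₂ → F) →ₗ[F] (ι → F) := LinearMap.mk₂ F (pureTensor e P)
    (fun x x' y => by simp only [pureTensor, ← Matrix.mulVec_add]; congr 1; funext i; simp [add_mul])
    (fun s x y => by rw [pureTensor_smul_left, pureTensor_smul_right])
    (fun x y y' => pureTensor_add_right e P x y y')
    (fun s x y => pureTensor_smul_right e P s x y)
  have hf : SymForm f := by
    refine ⟨two, ?_, fun a b => by show c * f₁ b a = c * f₁ a b; rw [hf₁.symm]⟩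
    constructor <;> intro x hx <;> by_contra h0
    · obtain ⟨y, hy⟩ := (hf₁.nondegenerate x h0).2
      exact hy ((mul_eq_zero.1 (hx y)).resolve_left hc)
    · obtain ⟨y, hy⟩ := (hf₁.nondegenerate x h0).1
      exact hy ((mul_eq_zero.1 (hx y)).resolve_left hc)
  have hg : SymForm g := by
    refine ⟨two, ?_, fun a b => hf₂.symm b a⟩
    constructor <;> intro x hx <;> by_contra h0
    · obtain ⟨y, hy⟩ := (hf₂.nondegenerate x h0).2
      exact hy (hx y)
    · obtain ⟨y, hy⟩ := (hf₂.nondegenerate x h0).1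
      exact hy (hx y)
  have hspan : Submodule.span F (Set.range fun p : (Fin n₁ → F) × (Fin n₂ → F) => T p.1 p.2) = ⊤ := by
    refine eq_top_iff.2 fun v _ => ?_
    set u := (((P⁻¹ : Matrix.GeneralLinearGroup ι F) : Matrix ι ι F) *ᵥ v)
    have ev : v = ∑ q : Fin n₁ × Fin n₂, u (e.symm q) • T (Pi.single q.1 1) (Pi.single q.2 1) := by
      rw [← Matrix.one_mulVec v, ← Units.val_one, ← mul_inv_cancel P, Units.val_mul, ← Matrix.mulVec_mulVec]
      simp only [T, LinearMap.mk₂_apply, pureTensor, ← Matrix.mulVec_smul, ← Matrix.mulVec_sum]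
      congr 1
      funext i
      rw [Finset.sum_apply, Finset.sum_eq_single (e i)]
      · simp [u]
      · intro q _ hq
        rcases not_and_or.1 (fun h : q.1 = (e i).1 ∧ q.2 = (e i).2 => hq (Prod.ext h.1 h.2)) with h | h <;>
          simp [Ne.symm h]
      · simp
    rw [ev]
    exact Submodule.sum_mem _ fun q _ => Submodule.smul_mem _ _ (Submodule.subset_span ⟨(_, _), rfl⟩)
  have D : Tensor Q f g T :=
    { hQ := hQ
      hf := hf
      hg := hg
      polarT := fun a b y z => by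
        show polar ⇑Q (pureTensor e P a y) (pureTensor e P b z) = c * f₁ a b * f₂ y z
        rw [polar_pureTensor e P hf₁.bilinear hf₂.bilinear hT, mul_assoc]
      span := hspan }
  let e' := oEquiv Q
  have hn5 : 5 ≤ Module.finrank F (ι → F) := by rw [Module.finrank_pi]; omega
  have hΩ : ∀ g : Cfsg.isometryGroup F (⇑Q),
      (g : Matrix.GeneralLinearGroup ι F) ∈ Cfsg.Geo.omegaGL (⇑Q) ↔ e' g ∈ eichGroup hQ := by
    intro g
    have hmap : (commutator ↥(Cfsg.isometryGroup F (⇑Q))).map e'.toMonoidHom = commutator (OQ Q) := by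
      rw [commutator_def, commutator_def, Subgroup.map_commutator,
        Subgroup.map_top_of_surjective _ e'.surjective]
    rw [eichGroup_eq_commutator hQ hn5, ← hmap, Subgroup.mem_map_equiv, MulEquiv.symm_apply_apply]
    exact ⟨fun ⟨g', hg', hgg⟩ => by rw [← Subtype.ext hgg]; exact hg', fun h => ⟨g, h, rfl⟩⟩
  have hiso : ∀ x, x ∈ Cfsg.Geo.omegaGL (⇑Q) → x ∈ Cfsg.isometryGroup F (⇑Q) := by
    rintro _ ⟨g, -, rfl⟩
    exact g.2
  have hact : ∀ (k : OQ Q) v, (((e'.symm k : Cfsg.isometryGroup F (⇑Q)) :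
      Matrix.GeneralLinearGroup ι F) : Matrix ι ι F) *ᵥ v = (k : (ι → F) ≃ₗ[F] (ι → F)) v := fun k v => by
    rw [← oEquiv_apply, MulEquiv.apply_symm_apply]
  -- Kronecker products
  have htoT : ∀ (k : OQ Q) (A : (Fin n₁ → F) →ₗ[F] (Fin n₁ → F)) (B : (Fin n₂ → F) →ₗ[F] (Fin n₂ → F)),
      (∀ x y, (k : (ι → F) ≃ₗ[F] (ι → F)) (T x y) = T (A x) (B y)) →
      ((e'.symm k : Cfsg.isometryGroup F (⇑Q)) : Matrix.GeneralLinearGroup ι F) ∈
        Cfsg.Geo.tensorProductSubgroup n₁ n₂ e P := by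
    intro k A B hk
    have hu₁ : IsUnit A.toMatrix' := by
      refine Matrix.mulVec_injective_iff_isUnit.1 fun a b hab => ?_
      rw [LinearMap.toMatrix'_mulVec, LinearMap.toMatrix'_mulVec] at hab
      let y₀ : Fin n₂ → F := Pi.single ⟨0, by omega⟩ 1
      have hy : y₀ ≠ 0 := fun h => one_ne_zero (α := F) (by simpa [y₀] using congrFun h ⟨0, by omega⟩)
      exact D.T_injective hy ((k : (ι → F) ≃ₗ[F] (ι → F)).injective (by rw [hk, hk, hab]))
    have hu₂ : IsUnit B.toMatrix' := by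
      refine Matrix.mulVec_injective_iff_isUnit.1 fun a b hab => ?_
      rw [LinearMap.toMatrix'_mulVec, LinearMap.toMatrix'_mulVec] at hab
      let x₀ : Fin n₁ → F := Pi.single ⟨0, by omega⟩ 1
      have hx : x₀ ≠ 0 := fun h => one_ne_zero (α := F) (by simpa [x₀] using congrFun h ⟨0, by omega⟩)
      by_contra hne
      refine hx (D.T_eq_zero (sub_ne_zero.2 hne) ((k : (ι → F) ≃ₗ[F] (ι → F)).injective ?_))
      rw [hk, map_sub, hab, sub_self, map_zero, map_zero]
    obtain ⟨a, ha⟩ := hu₁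
    obtain ⟨b, hb⟩ := hu₂
    let K₀ : Matrix.GeneralLinearGroup (Fin n₁ × Fin n₂) F :=
      Matrix.GeneralLinearGroup.mkOfDetNeZero
        ((a : Matrix (Fin n₁) (Fin n₁) F) ⊗ₖ (b : Matrix (Fin n₂) (Fin n₂) F)) (by
          rw [Matrix.det_kronecker]
          exact mul_ne_zero (pow_ne_zero _ (Matrix.GeneralLinearGroup.det_ne_zero a))
            (pow_ne_zero _ (Matrix.GeneralLinearGroup.det_ne_zero b)))
    have hK₀ : K₀ ∈ Cfsg.Geo.kroneckerSubgroup n₁ n₂ F := ⟨a, b, rfl⟩
    have hmem : MulAut.conj P (Cfsg.Geo.glReindex e.symm K₀) ∈ Cfsg.Geo.tensorProductSubgroup n₁ n₂ e P :=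
      ⟨_, ⟨K₀, hK₀, rfl⟩, rfl⟩
    have hKpure : ∀ x y, (MulAut.conj P (Cfsg.Geo.glReindex e.symm K₀) : Matrix.GeneralLinearGroup ι F).1 *ᵥ
        pureTensor e P x y = pureTensor e P ((a : Matrix (Fin n₁) (Fin n₁) F) *ᵥ x)
          ((b : Matrix (Fin n₂) (Fin n₂) F) *ᵥ y) := by
      intro x y
      show ((P * Cfsg.Geo.glReindex e.symm K₀ * P⁻¹ : Matrix.GeneralLinearGroup ι F) : Matrix ι ι F) *ᵥ _ = _
      rw [pureTensor, pureTensor, Units.val_mul, Matrix.mulVec_mulVec, Matrix.mul_assoc, Units.inv_mul,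
        Matrix.mul_one, Units.val_mul, ← Matrix.mulVec_mulVec]
      congr 1
      show Matrix.reindex e.symm e.symm
        ((a : Matrix (Fin n₁) (Fin n₁) F) ⊗ₖ (b : Matrix (Fin n₂) (Fin n₂) F)) *ᵥ _ = _
      funext i
      simp only [Matrix.mulVec, dotProduct, Matrix.reindex_apply, Matrix.submatrix_apply, Equiv.symm_symm,
        Function.comp_apply]
      rw [e.sum_comp (fun q => ((a : Matrix (Fin n₁) (Fin n₁) F) ⊗ₖ (b : Matrix (Fin n₂) (Fin n₂) F))
        (e i) q * (x q.1 * y q.2)), Fintype.sum_prod_type, Finset.sum_mul_sum]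
      refine Finset.sum_congr rfl fun p _ => Finset.sum_congr rfl fun q _ => ?_
      rw [Matrix.kroneckerMap_apply]
      ring
    convert hmem
    refine Units.ext (Matrix.toLin'.injective (LinearMap.ext_on hspan ?_))
    rintro _ ⟨⟨x, y⟩, rfl⟩
    rw [Matrix.toLin'_apply, Matrix.toLin'_apply, hact, hk]
    show pureTensor e P (A x) (B y) = _ *ᵥ pureTensor e P x y
    rw [hKpure, ha, hb, LinearMap.toMatrix'_mulVec, LinearMap.toMatrix'_mulVec]
  refine ⟨lt_of_le_of_ne inf_le_right fun he => ?_, fun M hHM hMS => ?_⟩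
  · obtain ⟨k, hk, hnk⟩ := D.exists_not_tens (by rwa [Module.finrank_fin_fun]) (by rwa [Module.finrank_fin_fun]) hn5
    set gk := e'.symm k
    have hg : (gk : Matrix.GeneralLinearGroup ι F) ∈ Cfsg.Geo.omegaGL (⇑Q) :=
      (hΩ gk).2 (by rw [MulEquiv.apply_symm_apply]; exact hk)
    rw [← he] at hg
    obtain ⟨A, B, hAB⟩ := exists_of_mem_tensor e P hg.1
    refine hnk ⟨Matrix.toLin' (A : Matrix (Fin n₁) (Fin n₁) F), Matrix.toLin' (B : Matrix (Fin n₂) (Fin n₂) F),
      fun x y => ?_⟩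
    rw [← hact]
    exact hAB x y
  set K := (M.subgroupOf (Cfsg.isometryGroup F (⇑Q))).map e'.toMonoidHom
  have hmK : ∀ g : Cfsg.isometryGroup F (⇑Q), e' g ∈ K ↔ (g : Matrix.GeneralLinearGroup ι F) ∈ M :=
    fun g => by
      rw [Subgroup.mem_map_equiv, MulEquiv.symm_apply_apply, Subgroup.mem_subgroupOf]
  have hbase : ∀ k ∈ commutator (OQ Q), Tens T k → k ∈ K := by
    rintro k hk ⟨A, B, hAB⟩
    rw [← eichGroup_eq_commutator hQ hn5] at hk
    have h := (hmK (e'.symm k)).2 (hHM ⟨htoT k A B hAB, (hΩ _).2 (by rw [MulEquiv.apply_symm_apply]; exact hk)⟩)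
    rwa [MulEquiv.apply_symm_apply] at h
  have hsub : K ≤ commutator (OQ Q) := fun k hk => by
    obtain ⟨g, rfl⟩ := e'.surjective k
    rw [← eichGroup_eq_commutator hQ hn5]
    exact (hΩ g).1 (hMS ((hmK g).1 hk))
  have key : eichGroup hQ ≤ K ∨ ∀ k ∈ K, Tens T k := by
    rcases hcase with ⟨hlt, hadm⟩ | ⟨hlt, hadm⟩
    · refine D.dichotomy (small_of_adm hf hc (fun u v => rfl) h1 hadm) ?_ ?_ ?_ hbase hsub <;>
        simp only [Module.finrank_fin_fun]
      · exact hlt
      · by_contra h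
        have : n₁ * n₂ ≤ 3 * 4 := Nat.mul_le_mul (by omega) (by omega)
        omega
      · exact hpar
    · refine (D.flip.dichotomy (small_of_adm hg one_ne_zero (fun u v => (one_mul _).symm) h2 hadm) ?_ ?_ ?_
        (fun k hk h => hbase k hk h.flip) hsub).imp id (fun h k hk => (h k hk).flip) <;>
        simp only [Module.finrank_fin_fun]
      · exact hlt
      · by_contra h
        have : n₁ * n₂ ≤ 4 * 3 := Nat.mul_le_mul (by omega) (by omega)
        omega
      · exact hpar.symm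
  rcases key with hle | htens
  · exact Or.inr (le_antisymm hMS fun x hx => (hmK ⟨x, hiso x hx⟩).1 (hle ((hΩ ⟨x, _⟩).1 hx)))
  · refine Or.inl (le_antisymm (le_inf (fun x hx => ?_) hMS) hHM)
    obtain ⟨A, B, hAB⟩ := htens _ ((hmK ⟨x, hiso x (hMS hx)⟩).2 hx)
    have h := htoT _ A B hAB
    rwa [MulEquiv.symm_apply_apply] at h

end CfsgLib.Geo.OrthTensor
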